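import Mathlib
import Groth.Agent.Lib.Helper4.TorLES
import Groth.Agent.Lib.Helper21.TorBridge

/-! Balancing of `Tor` for modules (existence of isomorphisms):
`Tor_n(M, N)` (Mathlib: resolve `N`) is isomorphic to `H_n(P ⊗ N)` for a projective resolution `P` of `M`. -/

set_option autoImplicit false
universe u

open CategoryTheory MonoidalCategory Limits
open Groth.Agent.Lib.Helper4 Groth.Agent.Lib.Helper21

namespace Groth.Agent.Lib.Helper2.TorBalance

variable {A : Type u} [CommRing A]

section LES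

variable (T : ShortComplex (ModuleCat.{u} A)) (N : ModuleCat.{u} A)

/-- Dimension shifting in the first variable. -/
theorem tor_succ_iso (hT : T.ShortExact) (n : ℕ)
    (h2 : IsZero (((Tor (ModuleCat.{u} A) (n + 1)).obj T.X₂).obj N))
    (h2' : IsZero (((Tor (ModuleCat.{u} A) n).obj T.X₂).obj N)) :
    Nonempty (((Tor (ModuleCat.{u} A) (n + 1)).obj T.X₃).obj N ≅
      ((Tor (ModuleCat.{u} A) n).obj T.X₁).obj N) := by
  have hS := tensorSC_shortExact T hT (projectiveResolution N).complex
    (fun n => (projectiveResolution N).projective n)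
  have hex1 := hS.homology_exact₁ (n + 1) n (by simp)
  have hex3 := hS.homology_exact₃ (n + 1) n (by simp)
  have z2 : IsZero ((tensorSC T (projectiveResolution N).complex).X₂.homology (n + 1)) :=
    h2.of_iso (torIsoHomology T.X₂ N (n + 1)).symm
  have z2' : IsZero ((tensorSC T (projectiveResolution N).complex).X₂.homology n) :=
    h2'.of_iso (torIsoHomology T.X₂ N n).symm
  have hmono : Mono (hS.δ (n + 1) n (by simp)) := hex3.mono_g (z2.eq_of_src _ _)
  have hepi : Epi (hS.δ (n + 1) n (by simp)) := hex1.epi_f (z2'.eq_of_tgt _ _)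
  have hiso : IsIso (hS.δ (n + 1) n (by simp)) := isIso_of_mono_of_epi _
  exact ⟨(torIsoHomology T.X₃ N (n + 1)) ≪≫ @asIso _ _ _ _ (hS.δ (n + 1) n (by simp)) hiso ≪≫
    (torIsoHomology T.X₁ N n).symm⟩

/-- `Tor₁(X₃, N)` is the kernel of `X₁ ⊗ N → X₂ ⊗ N` when `Tor₁(X₂, N) = 0`. -/
theorem tor_one_iso_kernel (hT : T.ShortExact)
    (h2 : IsZero (((Tor (ModuleCat.{u} A) 1).obj T.X₂).obj N)) :
    Nonempty (((Tor (ModuleCat.{u} A) 1).obj T.X₃).obj N ≅ kernel (T.f ▷ N)) := by
  have hS := tensorSC_shortExact T hT (projectiveResolution N).complex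
    (fun n => (projectiveResolution N).projective n)
  have hex1 := hS.homology_exact₁ 1 0 (by simp)
  have hex3 := hS.homology_exact₃ 1 0 (by simp)
  have z2 : IsZero ((tensorSC T (projectiveResolution N).complex).X₂.homology 1) :=
    h2.of_iso (torIsoHomology T.X₂ N 1).symm
  have hmono : Mono (hS.δ 1 0 (by simp)) := hex3.mono_g (z2.eq_of_src _ _)
  have hker := hex1.fIsKernel
  let e1 : (tensorSC T (projectiveResolution N).complex).X₃.homology 1 ≅
      kernel (HomologicalComplex.homologyMap
        (tensorSC T (projectiveResolution N).complex).f 0) :=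
    IsLimit.conePointUniqueUpToIso hker (limit.isLimit _)
  have hsq := h0Iso_naturality T.f (projectiveResolution N)
  let e2 : kernel (HomologicalComplex.homologyMap
        (tensorSC T (projectiveResolution N).complex).f 0) ≅ kernel (T.f ▷ N) :=
    kernel.mapIso _ _ (h0Iso (projectiveResolution N) T.X₁) (h0Iso (projectiveResolution N) T.X₂)
      hsq
  exact ⟨torIsoHomology T.X₃ N 1 ≪≫ e1 ≪≫ e2⟩

end LES

section Resolution

variable {M : ModuleCat.{u} A} (P : ProjectiveResolution M) (N : ModuleCat.{u} A)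

/-- the short complex `Ω_{k+1} → P_k → Ω_k`, with `Ω_k = coker (P_{k+1} → P_k)` -/
noncomputable abbrev syz (k : ℕ) : ShortComplex (ModuleCat.{u} A) :=
  ShortComplex.mk (P.complex.fromOpcycles (k + 1) k) (P.complex.pOpcycles k) (by
    rw [← cancel_epi (P.complex.pOpcycles (k + 1)), HomologicalComplex.p_fromOpcycles_assoc,
      HomologicalComplex.d_pOpcycles, comp_zero])

theorem syz_shortExact (k : ℕ) : (syz P k).ShortExact := by
  have hz : IsZero (P.complex.homology (k + 1)) :=
    (HomologicalComplex.exactAt_iff_isZero_homology _ _).mp (P.complex_exactAt_succ k)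
  have hmono : Mono (P.complex.fromOpcycles (k + 1) k) :=
    Preadditive.mono_of_isZero_kernel' _ (P.complex.homologyIsKernel (k + 1) k (by simp)) hz
  have hex0 : (ShortComplex.mk (P.complex.d (k + 1) k) (P.complex.pOpcycles k)
      (P.complex.d_pOpcycles _ _)).Exact :=
    ShortComplex.exact_of_g_is_cokernel _ (P.complex.opcyclesIsCokernel (k + 1) k (by simp))
  let φ : ShortComplex.mk (P.complex.d (k + 1) k) (P.complex.pOpcycles k)
      (P.complex.d_pOpcycles _ _) ⟶ syz P k :=
    { τ₁ := P.complex.pOpcycles (k + 1)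
      τ₂ := 𝟙 _
      τ₃ := 𝟙 _
      comm₁₂ := by simp [syz]
      comm₂₃ := by simp [syz] }
  have : Epi φ.τ₁ := by dsimp [φ]; infer_instance
  have : IsIso φ.τ₂ := by dsimp [φ]; infer_instance
  have : Mono φ.τ₃ := by dsimp [φ]; infer_instance
  have hex : (syz P k).Exact := (ShortComplex.exact_iff_of_epi_of_isIso_of_mono φ).mp hex0
  exact { exact := hex, mono_f := hmono, epi_g := by dsimp [syz]; infer_instance }

theorem isZero_tor_X (k m : ℕ) :
    IsZero (((Tor (ModuleCat.{u} A) (m + 1)).obj (P.complex.X k)).obj N) := by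
  have := P.projective k
  have h1 : Module.Projective A (P.complex.X k) := ModuleCat.projective_of_module_projective _
  have h2 : Module.Flat A (P.complex.X k) := inferInstance
  exact isZero_tor_of_flat _ _ _ (Nat.succ_pos m)

/-- shifting: `Tor_{n+1+k}(Ω_0, N) ≅ Tor_{n+1}(Ω_k, N)` -/
theorem tor_shift (k : ℕ) : ∀ n : ℕ,
    Nonempty (((Tor (ModuleCat.{u} A) (n + 1 + k)).obj (P.complex.opcycles 0)).obj N ≅
      ((Tor (ModuleCat.{u} A) (n + 1)).obj (P.complex.opcycles k)).obj N) := by
  induction k with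
  | zero => intro n; exact ⟨Iso.refl _⟩
  | succ k ih =>
    intro n
    obtain ⟨e1⟩ := ih (n + 1)
    obtain ⟨e2⟩ := tor_succ_iso (syz P k) N (syz_shortExact P k) (n + 1)
      (isZero_tor_X P N k (n + 1)) (isZero_tor_X P N k n)
    have : n + 1 + (k + 1) = n + 1 + 1 + k := by omega
    rw [this]
    exact ⟨e1 ≪≫ e2⟩

theorem tor_succ_iso_kernel (k : ℕ) :
    Nonempty (((Tor (ModuleCat.{u} A) (k + 1)).obj (P.complex.opcycles 0)).obj N ≅
      kernel (P.complex.fromOpcycles (k + 1) k ▷ N)) := by
  obtain ⟨e1⟩ := tor_shift P N k 0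
  obtain ⟨e2⟩ := tor_one_iso_kernel (syz P k) N (syz_shortExact P k) (isZero_tor_X P N k 0)
  have h : 0 + 1 + k = k + 1 := by omega
  rw [h] at e1
  exact ⟨e1 ≪≫ e2⟩

theorem homology_succ_iso_kernel (k : ℕ) :
    Nonempty ((((tensorRight N).mapHomologicalComplex (ComplexShape.down ℕ)).obj
      P.complex).homology (k + 1) ≅ kernel (P.complex.fromOpcycles (k + 1) k ▷ N)) := by
  set FK := ((tensorRight N).mapHomologicalComplex (ComplexShape.down ℕ)).obj P.complex with hFK
  have hc1 := FK.opcyclesIsCokernel (k + 2) (k + 1) (by simp)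
  have hc2 := CokernelCofork.mapIsColimit _
    (P.complex.opcyclesIsCokernel (k + 2) (k + 1) (by simp)) (tensorRight N)
  let e : FK.opcycles (k + 1) ≅ (tensorRight N).obj (P.complex.opcycles (k + 1)) :=
    IsColimit.coconePointUniqueUpToIso hc1 hc2
  have he : FK.pOpcycles (k + 1) ≫ e.hom = (tensorRight N).map (P.complex.pOpcycles (k + 1)) :=
    IsColimit.comp_coconePointUniqueUpToIso_hom hc1 hc2 WalkingParallelPair.one
  have r1 : FK.pOpcycles (k + 1) ≫ FK.fromOpcycles (k + 1) k =
      (tensorRight N).map (P.complex.d (k + 1) k) := FK.p_fromOpcycles (k + 1) k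
  have r2 : (tensorRight N).map (P.complex.pOpcycles (k + 1)) ≫
      (tensorRight N).map (P.complex.fromOpcycles (k + 1) k) =
      (tensorRight N).map (P.complex.d (k + 1) k) := by
    rw [← Functor.map_comp, HomologicalComplex.p_fromOpcycles]
  have hcomm : e.hom ≫ (tensorRight N).map (P.complex.fromOpcycles (k + 1) k) =
      FK.fromOpcycles (k + 1) k :=
    (cancel_epi (FK.pOpcycles (k + 1))).mp
      ((Category.assoc _ _ _).symm.trans
        ((congrArg (· ≫ (tensorRight N).map (P.complex.fromOpcycles (k + 1) k)) he).trans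
          (r2.trans r1.symm)))
  have hk := FK.homologyIsKernel (k + 1) k (by simp)
  let e1 : FK.homology (k + 1) ≅ kernel (FK.fromOpcycles (k + 1) k) :=
    IsLimit.conePointUniqueUpToIso hk (limit.isLimit _)
  let e2 : kernel (FK.fromOpcycles (k + 1) k) ≅ kernel (P.complex.fromOpcycles (k + 1) k ▷ N) :=
    kernel.mapIso _ _ e (Iso.refl _) ((Category.comp_id _).trans hcomm.symm)
  exact ⟨e1 ≪≫ e2⟩

/-- `Ω_0 ≅ M` -/
noncomputable def opcyclesZeroIso : P.complex.opcycles 0 ≅ M :=
  IsColimit.coconePointUniqueUpToIso (P.complex.opcyclesIsCokernel 1 0 (by simp))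
    P.isColimitCokernelCofork

instance preservesFiniteColimits_tensorRight : PreservesFiniteColimits (tensorRight N) :=
  preservesFiniteColimits_of_natIso (BraidedCategory.tensorLeftIsoTensorRight N)

theorem homology_zero_iso :
    Nonempty ((((tensorRight N).mapHomologicalComplex (ComplexShape.down ℕ)).obj
      P.complex).homology 0 ≅ M ⊗ N) :=
  ⟨ChainComplex.isoHomologyι₀ _ ≪≫ asIso (P.fromLeftDerivedZero' (tensorRight N))⟩

theorem tor_zero_iso :
    Nonempty (((Tor (ModuleCat.{u} A) 0).obj M).obj N ≅ M ⊗ N) :=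
  ⟨torIsoHomology M N 0 ≪≫ h0Iso (projectiveResolution N) M⟩

/-- **Balancing of Tor** (existence of an isomorphism). -/
theorem nonempty_tor_iso_homology (n : ℕ) :
    Nonempty (((Tor (ModuleCat.{u} A) n).obj M).obj N ≅
      (((tensorRight N).mapHomologicalComplex (ComplexShape.down ℕ)).obj
        P.complex).homology n) := by
  cases n with
  | zero =>
    obtain ⟨e1⟩ := tor_zero_iso (M := M) N
    obtain ⟨e2⟩ := homology_zero_iso P N
    exact ⟨e1 ≪≫ e2.symm⟩
  | succ k =>
    obtain ⟨e1⟩ := tor_succ_iso_kernel P N k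
    obtain ⟨e2⟩ := homology_succ_iso_kernel P N k
    exact ⟨((Tor (ModuleCat.{u} A) (k + 1)).mapIso (opcyclesZeroIso P).symm).app N ≪≫ e1 ≪≫
      e2.symm⟩

end Resolution

end Groth.Agent.Lib.Helper2.TorBalance
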