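import Mathlib

/-! Morphisms into a scheme landing in an affine open `W` correspond to ring maps out of `Γ(X, W)`. -/

set_option autoImplicit false
universe u

open CategoryTheory AlgebraicGeometry

namespace Groth.Agent.Lib.Helper2.ToAffine

variable {T X : Scheme.{u}}

/-- A morphism landing in an affine open `W` factors through `Spec Γ(X, W)`. -/
theorem eq_toSpecΓ_comp (m : T ⟶ X) {W : X.Opens} (hW : IsAffineOpen W) (h : ⊤ ≤ m ⁻¹ᵁ W) :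
    m = T.toSpecΓ ≫ Spec.map (m.appLE W ⊤ h) ≫ hW.fromSpec := by
  have h1 := Scheme.Opens.toSpecΓ_SpecMap_appLE m W ⊤ h
  have h2 : (⊤ : T.Opens).ι ≫ m =
      (⊤ : T.Opens).ι ≫ T.toSpecΓ ≫ Spec.map (m.appLE W ⊤ h) ≫ hW.fromSpec := by
    rw [← Category.assoc (⊤ : T.Opens).ι, ← Scheme.Opens.toSpecΓ_top, reassoc_of% h1,
      hW.toSpecΓ_fromSpec, Scheme.Hom.resLE_comp_ι]
  have h3 := congrArg (fun k => T.topIso.inv ≫ k) h2
  simpa using h3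

theorem ext_of_appLE (m m' : T ⟶ X) {W : X.Opens} (hW : IsAffineOpen W) (h : ⊤ ≤ m ⁻¹ᵁ W)
    (h' : ⊤ ≤ m' ⁻¹ᵁ W) (e : m.appLE W ⊤ h = m'.appLE W ⊤ h') : m = m' := by
  rw [eq_toSpecΓ_comp m hW h, eq_toSpecΓ_comp m' hW h', e]

/-- The morphism `T ⟶ X` attached to a ring map `Γ(X, W) ⟶ Γ(T, ⊤)`, `W` affine open. -/
noncomputable def ofRingHom {W : X.Opens} (hW : IsAffineOpen W) (φ : Γ(X, W) ⟶ Γ(T, ⊤)) : T ⟶ X :=
  T.toSpecΓ ≫ Spec.map φ ≫ hW.fromSpec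

theorem ofRingHom_le {W : X.Opens} (hW : IsAffineOpen W) (φ : Γ(X, W) ⟶ Γ(T, ⊤)) :
    ⊤ ≤ (ofRingHom hW φ) ⁻¹ᵁ W := by
  intro x _
  show (ofRingHom hW φ) x ∈ W
  have : (ofRingHom hW φ) x = hW.fromSpec ((Spec.map φ) (T.toSpecΓ x)) := rfl
  rw [this]
  have h2 : hW.fromSpec ((Spec.map φ) (T.toSpecΓ x)) ∈ Set.range hW.fromSpec := ⟨_, rfl⟩
  rw [hW.range_fromSpec] at h2
  exact h2

theorem toSpecΓ_SpecMap_injective {R : CommRingCat.{u}} (ψ ψ' : R ⟶ Γ(T, ⊤))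
    (e : T.toSpecΓ ≫ Spec.map ψ = T.toSpecΓ ≫ Spec.map ψ') : ψ = ψ' := by
  have h1 : ∀ χ : R ⟶ Γ(T, ⊤), (T.toSpecΓ ≫ Spec.map χ).appTop = (Scheme.ΓSpecIso R).hom ≫ χ := by
    intro χ
    rw [Scheme.Hom.comp_appTop, Scheme.toSpecΓ_appTop, Scheme.ΓSpecIso_naturality]
  have := congrArg Scheme.Hom.appTop e
  rw [h1, h1] at this
  exact (cancel_epi _).mp this

theorem ofRingHom_appLE {W : X.Opens} (hW : IsAffineOpen W) (φ : Γ(X, W) ⟶ Γ(T, ⊤)) :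
    (ofRingHom hW φ).appLE W ⊤ (ofRingHom_le hW φ) = φ := by
  have h1 := eq_toSpecΓ_comp (ofRingHom hW φ) hW (ofRingHom_le hW φ)
  have h2 : T.toSpecΓ ≫ Spec.map φ ≫ hW.fromSpec =
      T.toSpecΓ ≫ Spec.map ((ofRingHom hW φ).appLE W ⊤ (ofRingHom_le hW φ)) ≫ hW.fromSpec := h1
  rw [← Category.assoc, ← Category.assoc T.toSpecΓ, cancel_mono] at h2
  exact (toSpecΓ_SpecMap_injective _ _ h2).symm

end Groth.Agent.Lib.Helper2.ToAffine
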