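import Mathlib
import Groth.Agent.Lib.Helper9.FlatCrit

/-!
# Flatness from flatness of the associated graded module

* `flat_of_exact`: an extension of flat modules is flat.
* `flat_of_forall_flat_quotient_pow`: `B` Noetherian `A`-algebra, `N` finite `B`-module,
  `I ≤ rad B`; if all `N / I^n N` are `A`-flat then `N` is `A`-flat.
-/

set_option autoImplicit false
universe u v

namespace Groth.Agent.Lib.Helper2

open TensorProduct Function

/-- An extension of flat modules is flat. -/
theorem flat_of_exact {A : Type u} [CommRing A] {N₁ N₂ N₃ : Type*} [AddCommGroup N₁] [Module A N₁]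
    [AddCommGroup N₂] [Module A N₂] [AddCommGroup N₃] [Module A N₃]
    (i : N₁ →ₗ[A] N₂) (p : N₂ →ₗ[A] N₃) (hi : Injective i) (hp : Surjective p)
    (hex : Function.Exact i p) [Module.Flat A N₁] [Module.Flat A N₃] : Module.Flat A N₂ := by
  rw [Module.Flat.iff_rTensor_injective']
  intro J
  rw [injective_iff_map_eq_zero]
  intro x hx
  have h3 : p.lTensor J x = 0 := by
    have hinj : Injective (J.subtype.rTensor N₃) :=
      Module.Flat.rTensor_preserves_injective_linearMap _ J.subtype_injective
    apply hinj
    rw [map_zero, ← LinearMap.comp_apply, LinearMap.rTensor_comp_lTensor,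
      ← LinearMap.lTensor_comp_rTensor, LinearMap.comp_apply, hx, map_zero]
  obtain ⟨x', rfl⟩ := (lTensor_exact J hex hp x).1 h3
  have h1 : J.subtype.rTensor N₁ x' = 0 := by
    have hinj : Injective (i.lTensor A) :=
      Module.Flat.lTensor_preserves_injective_linearMap _ hi
    apply hinj
    rw [map_zero, ← LinearMap.comp_apply, LinearMap.lTensor_comp_rTensor,
      ← LinearMap.rTensor_comp_lTensor, LinearMap.comp_apply, hx]
  have hinj1 : Injective (J.subtype.rTensor N₁) :=
    Module.Flat.rTensor_preserves_injective_linearMap _ J.subtype_injective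
  rw [(injective_iff_map_eq_zero _).1 hinj1 x' h1, map_zero]

/-- If all `N / I^n N` are flat over `A` (with `I` in the radical of the Noetherian ring `B` and
`N` finite over `B`) then `N` is flat over `A`. -/
theorem flat_of_forall_flat_quotient_pow (A : Type u) [CommRing A] (B : Type v) [CommRing B]
    [Algebra A B] [IsNoetherianRing B] (N : Type*) [AddCommGroup N] [Module B N] [Module A N]
    [IsScalarTower A B N] [Module.Finite B N] (I : Ideal B) (hI : I ≤ Ideal.jacobson ⊥)
    (h : ∀ n : ℕ, Module.Flat A (N ⧸ (I ^ n • ⊤ : Submodule B N))) : Module.Flat A N := by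
  rw [Module.Flat.iff_lTensor_injective]
  intro J hJ
  rw [injective_iff_map_eq_zero]
  intro x hx
  have hJfin : Module.Finite A J := Module.Finite.iff_fg.2 hJ
  have hfin : Module.Finite B (N ⊗[A] J) := Helper9.finite_tensorProduct_of_finite J
  have key : ∀ n : ℕ, x ∈ (I ^ n • ⊤ : Submodule B (N ⊗[A] J)) := by
    intro n
    have := h n
    let P : Submodule B N := I ^ n • ⊤
    let q : N →ₗ[A] N ⧸ P := P.mkQ.restrictScalars A
    let ι : P →ₗ[A] N := P.subtype.restrictScalars A
    have hex : Function.Exact ι q := by
      intro y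
      change P.mkQ y = 0 ↔ y ∈ Set.range P.subtype
      rw [Submodule.mkQ_apply, Submodule.Quotient.mk_eq_zero, Submodule.coe_subtype,
        Subtype.range_coe]
      rfl
    have hq : Surjective q := P.mkQ_surjective
    have h0 : q.rTensor J x = 0 := by
      have hinj : Injective (J.subtype.lTensor (N ⧸ P)) :=
        Module.Flat.lTensor_preserves_injective_linearMap _ J.subtype_injective
      apply hinj
      rw [map_zero, ← LinearMap.comp_apply, LinearMap.lTensor_comp_rTensor,
        ← LinearMap.rTensor_comp_lTensor, LinearMap.comp_apply, hx, map_zero]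
    have hrange : ∀ y : P ⊗[A] J, ι.rTensor J y ∈ (I ^ n • ⊤ : Submodule B (N ⊗[A] J)) := by
      intro y
      induction y using TensorProduct.induction_on with
      | zero => simp
      | add y z hy hz =>
        rw [map_add]
        exact Submodule.add_mem _ hy hz
      | tmul m c =>
        rw [LinearMap.rTensor_tmul]
        change (m : N) ⊗ₜ[A] c ∈ _
        obtain ⟨m, hm⟩ := m
        change m ⊗ₜ[A] c ∈ _
        induction hm using Submodule.smul_induction_on' with
        | smul b hb m' _ =>
          rw [← TensorProduct.smul_tmul']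
          exact Submodule.smul_mem_smul hb Submodule.mem_top
        | add m₁ _ m₂ _ h₁ h₂ =>
          rw [TensorProduct.add_tmul]
          exact Submodule.add_mem _ h₁ h₂
    obtain ⟨y, rfl⟩ := (rTensor_exact J hex hq x).1 h0
    exact hrange y
  have hK := Ideal.iInf_pow_smul_eq_bot_of_le_jacobson (I := I) (M := N ⊗[A] J) hI
  have hx' : x ∈ (⨅ i : ℕ, I ^ i • ⊤ : Submodule B (N ⊗[A] J)) := by
    rw [Submodule.mem_iInf]
    exact key
  rw [hK] at hx'
  exact hx'

theorem mem_smul_top_submodule_iff {B : Type v} [CommRing B] {N : Type*} [AddCommGroup N]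
    [Module B N] (I : Ideal B) (P : Submodule B N) (y : P) :
    y ∈ (I • ⊤ : Submodule B P) ↔ (y : N) ∈ I • P := by
  have hmap : (I • ⊤ : Submodule B P).map P.subtype = I • P := by
    rw [Submodule.map_smul'', Submodule.map_subtype_top]
  rw [← hmap]
  constructor
  · intro h
    exact ⟨y, h, rfl⟩
  · rintro ⟨y', hy', heq⟩
    have : y' = y := Subtype.ext heq
    rw [← this]; exact hy'

/-- Flatness of the graded pieces implies flatness of all `N / I^n N`. -/
theorem flat_quotient_pow_of_gr_flat (A : Type u) [CommRing A] (B : Type v) [CommRing B]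
    [Algebra A B] (N : Type*) [AddCommGroup N] [Module B N] [Module A N]
    [IsScalarTower A B N] (I : Ideal B)
    (hgr : ∀ n : ℕ, Module.Flat A
      (↥(I ^ n • (⊤ : Submodule B N)) ⧸ (I • (⊤ : Submodule B ↥(I ^ n • (⊤ : Submodule B N)))))) :
    ∀ n : ℕ, Module.Flat A (N ⧸ (I ^ n • ⊤ : Submodule B N)) := by
  intro n
  induction n with
  | zero =>
    have : Subsingleton (N ⧸ (I ^ 0 • ⊤ : Submodule B N)) := by
      rw [Submodule.Quotient.subsingleton_iff]
      simp
    infer_instance
  | succ n ih =>
    have := hgr n
    let P : Submodule B N := I ^ n • ⊤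
    let P' : Submodule B N := I ^ (n + 1) • ⊤
    have hP' : P' = I • P := by
      change I ^ (n + 1) • ⊤ = I • (I ^ n • ⊤)
      rw [← Submodule.mul_smul, ← pow_succ']
    have hle : P' ≤ P := by
      rw [hP']; exact Submodule.smul_le_right
    let pB : (N ⧸ P') →ₗ[B] (N ⧸ P) := Submodule.mapQ P' P LinearMap.id hle
    let p : (N ⧸ P') →ₗ[A] (N ⧸ P) := pB.restrictScalars A
    have hker : (I • ⊤ : Submodule B P) ≤ LinearMap.ker (P'.mkQ ∘ₗ P.subtype) := by
      intro y hy
      rw [mem_smul_top_submodule_iff] at hy
      rw [LinearMap.mem_ker, LinearMap.comp_apply, Submodule.mkQ_apply,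
        Submodule.Quotient.mk_eq_zero, hP']
      exact hy
    let iB : (P ⧸ (I • ⊤ : Submodule B P)) →ₗ[B] (N ⧸ P') :=
      Submodule.liftQ _ (P'.mkQ ∘ₗ P.subtype) hker
    let i : (P ⧸ (I • ⊤ : Submodule B P)) →ₗ[A] (N ⧸ P') := iB.restrictScalars A
    have hi : Injective i := by
      change Injective iB
      rw [← LinearMap.ker_eq_bot]
      apply Submodule.ker_liftQ_eq_bot
      intro y hy
      rw [mem_smul_top_submodule_iff]
      rw [LinearMap.mem_ker, LinearMap.comp_apply, Submodule.mkQ_apply,
        Submodule.Quotient.mk_eq_zero, hP'] at hy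
      exact hy
    have hp : Surjective p := by
      intro z
      obtain ⟨w, rfl⟩ := Submodule.Quotient.mk_surjective _ z
      exact ⟨Submodule.Quotient.mk w, rfl⟩
    have hex : Function.Exact i p := by
      intro z
      obtain ⟨w, rfl⟩ := Submodule.Quotient.mk_surjective _ z
      change (Submodule.Quotient.mk w : N ⧸ P) = 0 ↔ _
      rw [Submodule.Quotient.mk_eq_zero]
      constructor
      · intro hw
        exact ⟨Submodule.Quotient.mk ⟨w, hw⟩, rfl⟩
      · rintro ⟨y, hy⟩
        obtain ⟨⟨y, hyP⟩, rfl⟩ := Submodule.Quotient.mk_surjective _ y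
        change (Submodule.Quotient.mk y : N ⧸ P') = Submodule.Quotient.mk w at hy
        rw [Submodule.Quotient.eq] at hy
        have : w = y - (y - w) := by abel
        rw [this]
        exact Submodule.sub_mem _ hyP (hle hy)
    exact flat_of_exact i p hi hp hex

end Groth.Agent.Lib.Helper2
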