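import Mathlib

/-! # Horizontal pasting of base change maps (abstract form) -/

set_option autoImplicit false

open CategoryTheory

namespace Groth.Agent.Lib.Helper2.BCPaste

universe v₁ v₂ v₃ v₄ v₅ v₆ u₁ u₂ u₃ u₄ u₅ u₆

variable {AX : Type u₁} {AY : Type u₂} {AZ : Type u₃} {AU : Type u₄} {AV : Type u₅} {AW : Type u₆}
  [Category.{v₁} AX] [Category.{v₂} AY] [Category.{v₃} AZ] [Category.{v₄} AU] [Category.{v₅} AV]
  [Category.{v₆} AW]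

variable {Lf : AY ⥤ AX} {Rf : AX ⥤ AY} (adjf : Lf ⊣ Rf)
  {Lg : AZ ⥤ AY} {Rg : AY ⥤ AZ} (adjg : Lg ⊣ Rg)
  {Lfg : AZ ⥤ AX} {Rfg : AX ⥤ AZ} (adjfg : Lfg ⊣ Rfg)
  {Lφ : AV ⥤ AU} {Rφ : AU ⥤ AV} (adjφ : Lφ ⊣ Rφ)
  {Lψ : AW ⥤ AV} {Rψ : AV ⥤ AW} (adjψ : Lψ ⊣ Rψ)
  {Lφψ : AW ⥤ AU} {Rφψ : AU ⥤ AW} (adjφψ : Lφψ ⊣ Rφψ)
  (Rξ : AX ⥤ AU) (Rη : AY ⥤ AV) (Rζ : AZ ⥤ AW)
  (αfg : Lg ⋙ Lf ≅ Lfg) (pfg : Rf ⋙ Rg ≅ Rfg)
  (hfg : conjugateEquiv (adjg.comp adjf) adjfg αfg.inv = pfg.hom)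
  (αφψ : Lψ ⋙ Lφ ≅ Lφψ) (pφψ : Rφ ⋙ Rψ ≅ Rφψ)
  (hφψ : conjugateEquiv (adjψ.comp adjφ) adjφψ αφψ.inv = pφψ.hom)
  (c₁ : Rfg ⋙ Rζ ⟶ Rξ ⋙ Rφψ) (c₂ : Rg ⋙ Rζ ⟶ Rη ⋙ Rψ) (c₃ : Rf ⋙ Rη ⟶ Rξ ⋙ Rφ)
  (hcoh : ∀ P : AX, Rζ.map (pfg.hom.app P) ≫ c₁.app P =
    c₂.app (Rf.obj P) ≫ Rψ.map (c₃.app P) ≫ pφψ.hom.app (Rξ.obj P))

include hφψ in
theorem counit_rel (d : AU) :
    αφψ.hom.app (Rψ.obj (Rφ.obj d)) ≫ Lφψ.map (pφψ.hom.app d) ≫ adjφψ.counit.app d =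
      Lφ.map (adjψ.counit.app (Rφ.obj d)) ≫ adjφ.counit.app d := by
  have h := conjugateEquiv_counit (adjψ.comp adjφ) adjφψ αφψ.inv d
  rw [hφψ] at h
  rw [h, ← Category.assoc]
  have h2 : αφψ.hom.app (Rψ.obj (Rφ.obj d)) ≫ αφψ.inv.app ((Rφ ⋙ Rψ).obj d) = 𝟙 _ :=
    αφψ.hom_inv_id_app _
  rw [h2, Category.id_comp]
  simp [Adjunction.comp_counit_app]

include hfg in
theorem unit_rel (L : AZ) :
    adjfg.unit.app L = adjg.unit.app L ≫ Rg.map (adjf.unit.app (Lg.obj L)) ≫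
      pfg.hom.app (Lf.obj (Lg.obj L)) ≫ Rfg.map (αfg.hom.app L) := by
  have h := unit_conjugateEquiv (adjg.comp adjf) adjfg αfg.inv L
  rw [hfg] at h
  have h2 : adjfg.unit.app L = (adjfg.unit.app L ≫ Rfg.map (αfg.inv.app L)) ≫
      Rfg.map (αfg.hom.app L) := by
    simp
  rw [h2, ← h]
  simp [Adjunction.comp_unit_app]

include hfg hφψ hcoh in
theorem paste (L : AZ) :
    αφψ.hom.app (Rζ.obj L) ≫ (adjφψ.homEquiv _ _).symm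
        (Rζ.map (adjfg.unit.app L) ≫ c₁.app (Lfg.obj L)) =
      Lφ.map ((adjψ.homEquiv _ _).symm (Rζ.map (adjg.unit.app L) ≫ c₂.app (Lg.obj L))) ≫
        (adjφ.homEquiv _ _).symm
          (Rη.map (adjf.unit.app (Lg.obj L)) ≫ c₃.app (Lf.obj (Lg.obj L))) ≫
        Rξ.map (αfg.hom.app L) := by
  set a := αfg.hom.app L with ha
  set Q := Lf.obj (Lg.obj L) with hQ
  set m₂ := Rζ.map (adjg.unit.app L) ≫ c₂.app (Lg.obj L) with hm₂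
  set m₃ := Rη.map (adjf.unit.app (Lg.obj L)) ≫ c₃.app Q with hm₃
  -- the transposed left side
  have hT : Rζ.map (adjfg.unit.app L) ≫ c₁.app (Lfg.obj L) =
      (m₂ ≫ Rψ.map (m₃ ≫ Rφ.map (Rξ.map a))) ≫ pφψ.hom.app (Rξ.obj (Lfg.obj L)) := by
    rw [unit_rel adjf adjg adjfg αfg pfg hfg L]
    simp only [Functor.map_comp, Category.assoc]
    have n1 : Rζ.map (Rfg.map a) ≫ c₁.app (Lfg.obj L) =
        c₁.app Q ≫ Rφψ.map (Rξ.map a) := c₁.naturality a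
    rw [n1]
    have n2 := hcoh Q
    rw [← Category.assoc (Rζ.map (pfg.hom.app Q)), n2]
    simp only [Category.assoc]
    have n3 : Rζ.map (Rg.map (adjf.unit.app (Lg.obj L))) ≫ c₂.app (Rf.obj Q) =
        c₂.app (Lg.obj L) ≫ Rψ.map (Rη.map (adjf.unit.app (Lg.obj L))) :=
      c₂.naturality (adjf.unit.app (Lg.obj L))
    rw [← Category.assoc (Rζ.map (Rg.map (adjf.unit.app (Lg.obj L)))), n3]
    have n4 : pφψ.hom.app (Rξ.obj Q) ≫ Rφψ.map (Rξ.map a) =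
        Rψ.map (Rφ.map (Rξ.map a)) ≫ pφψ.hom.app (Rξ.obj (Lfg.obj L)) :=
      (pφψ.hom.naturality (Rξ.map a)).symm
    rw [n4]
    simp only [hm₂, hm₃, Functor.map_comp, Category.assoc]
  rw [hT]
  simp only [Adjunction.homEquiv_counit, Functor.map_comp, Category.assoc]
  -- left side: move α across
  have n5 : ∀ {A B : AW} (h : A ⟶ B), αφψ.hom.app A ≫ Lφψ.map h =
      Lφ.map (Lψ.map h) ≫ αφψ.hom.app B := fun h => (αφψ.hom.naturality h).symm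
  rw [← Category.assoc (αφψ.hom.app _), n5, Category.assoc,
    ← Category.assoc (αφψ.hom.app _), n5, Category.assoc,
    ← Category.assoc (αφψ.hom.app _), n5, Category.assoc]
  have n8 := counit_rel adjφ adjψ adjφψ αφψ pφψ hφψ (Rξ.obj (Lfg.obj L))
  rw [n8]
  -- right side
  have n6 : adjφ.counit.app (Rξ.obj Q) ≫ Rξ.map a =
      Lφ.map (Rφ.map (Rξ.map a)) ≫ adjφ.counit.app (Rξ.obj (Lfg.obj L)) :=
    (adjφ.counit.naturality (Rξ.map a)).symm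
  rw [n6]
  have n7 : ∀ {A B : AV} (h : A ⟶ B), adjψ.counit.app A ≫ h =
      Lψ.map (Rψ.map h) ≫ adjψ.counit.app B := fun h => (adjψ.counit.naturality h).symm
  simp only [← Functor.map_comp_assoc, ← Functor.map_comp]
  congr 2
  have n9 := n7 (m₃ ≫ Rφ.map (Rξ.map a))
  rw [Functor.map_comp, Category.assoc, ← n9]
  rfl

end Groth.Agent.Lib.Helper2.BCPaste
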