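import Mathlib

/-! # Morphisms out of a quasi-coherent module on an affine scheme from maps of global sections -/

set_option autoImplicit false
universe u
open CategoryTheory CategoryTheory.Limits AlgebraicGeometry TopologicalSpace Opposite

namespace Groth.Agent.Lib.Helper2.TildeHom

variable {R : CommRingCat.{u}}

/-- A morphism out of a quasi-coherent module on `Spec R` with prescribed effect on global
sections. -/
theorem exists_hom_of_Γ (M G : (Spec (.of R)).Modules) [M.IsQuasicoherent]
    (l : (moduleSpecΓFunctor (R := R)).obj M ⟶ (moduleSpecΓFunctor (R := R)).obj G) :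
    ∃ u : M ⟶ G, (moduleSpecΓFunctor (R := R)).map u = l := by
  let adj := tilde.adjunction (R := R)
  haveI : IsIso (adj.counit.app M) := Scheme.Modules.isIso_fromTildeΓ_of_isQuasicoherent M
  refine ⟨inv (adj.counit.app M) ≫ (adj.homEquiv _ _).symm l, ?_⟩
  have h1 : adj.unit.app (moduleSpecΓFunctor.obj M) ≫ moduleSpecΓFunctor.map (adj.counit.app M) =
      𝟙 _ := adj.right_triangle_components M
  have h2 : moduleSpecΓFunctor.map (inv (adj.counit.app M)) =
      adj.unit.app (moduleSpecΓFunctor.obj M) := by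
    rw [Functor.map_inv]
    exact (IsIso.eq_inv_of_inv_hom_id h1).symm
  rw [Functor.map_comp, h2, ← Adjunction.homEquiv_unit, Equiv.apply_symm_apply]

theorem Γmap_apply {M G : (Spec (.of R)).Modules} (u : M ⟶ G) (m : Γ(M, ⊤)) :
    ((moduleSpecΓFunctor (R := R)).map u).hom m = u.app ⊤ m := rfl
/-- Version with an additive map of sections, linear over the global functions. -/
theorem exists_hom_of_top (M G : (Spec (.of R)).Modules) [M.IsQuasicoherent]
    (l : Γ(M, ⊤) →+ Γ(G, ⊤))
    (hl : ∀ (c : Γ(Spec (.of R), ⊤)) (m : Γ(M, ⊤)), l (c • m) = c • l m) :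
    ∃ u : M ⟶ G, ∀ m : Γ(M, ⊤), u.app ⊤ m = l m := by
  let L : ((moduleSpecΓFunctor (R := R)).obj M) →ₗ[(R : Type u)]
      ((moduleSpecΓFunctor (R := R)).obj G) :=
    { toFun := fun m => l m
      map_add' := fun a b => l.map_add a b
      map_smul' := fun r m => by
        exact hl (((Spec (.of R)).presheaf.map (⊤ : (Spec (.of R)).Opens).leTop.op)
          ((Scheme.ΓSpecIso (.of R)).inv r)) m }
  obtain ⟨u, hu⟩ := exists_hom_of_Γ M G (ConcreteCategory.ofHom (C := ModuleCat R) L)
  refine ⟨u, fun m => ?_⟩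
  rw [← Γmap_apply, hu]
  rfl

end Groth.Agent.Lib.Helper2.TildeHom
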