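import Mathlib
import Groth.Agent.Lib.Helper2.TildeHom
import Groth.Agent.Lib.Helper2.PrinPart.Zero
import Groth.Agent.Lib.Helper29.QCohQcqs

/-! # Morphisms out of a quasi-coherent module on an affine scheme (general affine `X`) -/

set_option autoImplicit false
universe u
open CategoryTheory CategoryTheory.Limits AlgebraicGeometry TopologicalSpace Opposite

namespace Groth.Agent.Lib.Helper2.TildeHom

theorem exists_hom_of_top_affine {X : Scheme.{u}} [IsAffine X] (M G : X.Modules)
    [M.IsQuasicoherent] (l : Γ(M, ⊤) →+ Γ(G, ⊤))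
    (hl : ∀ (c : Γ(X, ⊤)) (m : Γ(M, ⊤)), l (c • m) = c • l m) :
    ∃ u : M ⟶ G, ∀ m : Γ(M, ⊤), u.app ⊤ m = l m := by
  let φ : X ⟶ Spec (CommRingCat.of Γ(X, ⊤)) := X.isoSpec.hom
  haveI : IsIso φ := inferInstanceAs (IsIso X.isoSpec.hom)
  haveI : ((Scheme.Modules.pushforward φ).obj M).IsQuasicoherent :=
    Groth.Agent.Lib.Helper29.QCoh.isQuasicoherent_pushforward_of_qcqs φ M
  let l' : Γ((Scheme.Modules.pushforward φ).obj M, ⊤) →+
      Γ((Scheme.Modules.pushforward φ).obj G, ⊤) := l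
  obtain ⟨u', hu'⟩ := exists_hom_of_top (R := Γ(X, ⊤))
    ((Scheme.Modules.pushforward φ).obj M) ((Scheme.Modules.pushforward φ).obj G) l'
    (fun c m => hl ((φ.app ⊤).hom c) m)
  refine ⟨(Scheme.Modules.pushforward φ).preimage u', fun m => ?_⟩
  have h1 : (Scheme.Modules.pushforward φ).map ((Scheme.Modules.pushforward φ).preimage u') = u' :=
    Functor.map_preimage _ _
  have h2 := congrArg (fun ψ => Scheme.Modules.Hom.app ψ ⊤
    (show Γ((Scheme.Modules.pushforward φ).obj M, ⊤) from m)) h1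
  exact h2.trans (hu' m)

end Groth.Agent.Lib.Helper2.TildeHom
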