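import Mathlib.RingTheory.Flat.EquationalCriterion
import Mathlib.RingTheory.Ideal.Pure
import Mathlib.RingTheory.RingHom.Flat
import Mathlib.RingTheory.TensorProduct.Basic

/-! If the multiplication `B ⊗[A] B → B` is flat, then a `B`-module which is flat over `A`
is flat over `B` (helper2). -/

set_option autoImplicit false
universe u

namespace Groth.Agent.Lib.Helper2

open TensorProduct

/-- In a pure ideal, finitely many elements admit a common "local unit". -/
theorem exists_forall_eq_mul_of_pure {R : Type*} [CommRing R] (J : Ideal R) [J.Pure]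
    {ι : Type*} (s : Finset ι) (x : ι → R) (hx : ∀ i ∈ s, x i ∈ J) :
    ∃ y ∈ J, ∀ i ∈ s, x i = x i * y := by
  classical
  induction s using Finset.induction_on with
  | empty => exact ⟨0, J.zero_mem, by simp⟩
  | insert i s hi ih =>
    obtain ⟨y, hy, hys⟩ := ih (fun j hj => hx j (Finset.mem_insert_of_mem hj))
    obtain ⟨y', hy', hxy'⟩ := Ideal.exists_eq_mul_of_pure (hx i (Finset.mem_insert_self i s))
    refine ⟨y + y' - y * y', J.sub_mem (J.add_mem hy hy') (J.mul_mem_left _ hy'), ?_⟩
    intro j hj
    rw [Finset.mem_insert] at hj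
    rcases hj with rfl | hj
    · have : x j * (y + y' - y * y') = x j * y' + (x j - x j * y') * y := by ring
      rw [this, ← hxy', sub_self, zero_mul, add_zero]
    · have : x j * (y + y' - y * y') = x j * y + (x j - x j * y) * y' := by ring
      rw [this, ← hys j hj, sub_self, zero_mul, add_zero]

variable (A B : Type u) [CommRing A] [CommRing B] [Algebra A B]
variable (N : Type u) [AddCommGroup N] [Module B N] [Module A N] [IsScalarTower A B N]

/-- `τ (u ⊗ v) n = u ⊗ (v • n)`. -/
noncomputable def diagTau : B ⊗[A] B →ₗ[A] N →ₗ[A] B ⊗[A] N :=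
  TensorProduct.lift
    (LinearMap.mk₂ A (fun u v => (TensorProduct.mk A B N u) ∘ₗ
        ((Algebra.lsmul A A N : B →ₐ[A] Module.End A N) v))
      (fun u u' v => by ext n; simp)
      (fun c u v => by ext n; simp [smul_tmul'])
      (fun u v v' => by ext n; simp [tmul_add])
      (fun c u v => by ext n; simp))

@[simp]
theorem diagTau_tmul (u v : B) (n : N) : diagTau A B N (u ⊗ₜ v) n = u ⊗ₜ (v • n) := by
  simp [diagTau]

/-- The action map `B ⊗[A] N → N`. -/
noncomputable def diagAlpha : B ⊗[A] N →ₗ[B] N :=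
  TensorProduct.AlgebraTensorModule.lift
    { toFun := fun b => (LinearMap.lsmul B N b).restrictScalars A
      map_add' := fun b b' => by ext n; simp
      map_smul' := fun c b => by ext n; simp [mul_smul] }

@[simp]
theorem diagAlpha_tmul (b : B) (n : N) : diagAlpha A B N (b ⊗ₜ n) = b • n := by
  simp [diagAlpha]

theorem diagAlpha_diagTau (z : B ⊗[A] B) (n : N) :
    diagAlpha A B N (diagTau A B N z n) = (Algebra.TensorProduct.lmul' A (S := B) z) • n := by
  induction z using TensorProduct.induction_on with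
  | zero => simp
  | tmul u v => simp [mul_smul]
  | add z w hz hw => simp [hz, hw, add_smul]

theorem diagTau_mul_left (z : B ⊗[A] B) (b : B) (n : N) :
    diagTau A B N (z * (b ⊗ₜ 1)) n = b • diagTau A B N z n := by
  induction z using TensorProduct.induction_on with
  | zero => simp
  | tmul u v => simp [smul_tmul', mul_comm]
  | add z w hz hw => simp [add_mul, hz, hw]

theorem diagTau_mul_right (z : B ⊗[A] B) (b : B) (n : N) :
    diagTau A B N (z * (1 ⊗ₜ b)) n = diagTau A B N z (b • n) := by
  induction z using TensorProduct.induction_on with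
  | zero => simp
  | tmul u v => simp [mul_smul]
  | add z w hz hw => simp [add_mul, hz, hw]

/-- If the multiplication `B ⊗[A] B → B` is flat, then a `B`-module which is flat over `A`
is flat over `B`. -/
theorem flat_of_flat_lmul' (h : (Algebra.TensorProduct.lmul' A (S := B)).Flat)
    [Module.Flat A N] : Module.Flat B N := by
  classical
  let algBe : Algebra (B ⊗[A] B) B :=
    (Algebra.TensorProduct.lmul' A (S := B)).toRingHom.toAlgebra
  have hflat : Module.Flat (B ⊗[A] B) B := h
  have hsurj : Function.Surjective (Algebra.ofId (B ⊗[A] B) B) := fun b =>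
    ⟨b ⊗ₜ 1, by simp [Algebra.ofId_apply, RingHom.algebraMap_toAlgebra]⟩
  set J : Ideal (B ⊗[A] B) := RingHom.ker (Algebra.ofId (B ⊗[A] B) B) with hJ
  have hJmem : ∀ z : B ⊗[A] B, z ∈ J ↔ Algebra.TensorProduct.lmul' A (S := B) z = 0 := by
    intro z
    rw [hJ, RingHom.mem_ker]
    rfl
  have hJpure : J.Pure :=
    Module.Flat.of_linearEquiv (Ideal.quotientKerAlgEquivOfSurjective hsurj).toLinearEquiv
  rw [Module.Flat.iff_forall_isTrivialRelation]
  intro l b n hbn
  obtain ⟨y, hyJ, hy⟩ := exists_forall_eq_mul_of_pure J Finset.univ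
    (fun i => b i ⊗ₜ[A] (1 : B) - (1 : B) ⊗ₜ[A] b i)
    (fun i _ => by rw [hJmem]; simp)
  set e : B ⊗[A] B := 1 - y with he
  have hμe : Algebra.TensorProduct.lmul' A (S := B) e = 1 := by
    rw [he, map_sub, map_one, (hJmem y).1 hyJ, sub_zero]
  have hxe : ∀ i, e * (b i ⊗ₜ[A] (1 : B)) = e * ((1 : B) ⊗ₜ[A] b i) := by
    intro i
    have h1 := hy i (Finset.mem_univ i)
    have h2 : e * (b i ⊗ₜ[A] (1 : B) - (1 : B) ⊗ₜ[A] b i) = 0 := by
      rw [he, sub_mul, one_mul, mul_comm y, ← h1, sub_self]
    rw [mul_sub, sub_eq_zero] at h2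
    exact h2
  have hrel : ∑ i, b i • diagTau A B N e (n i) = 0 := by
    have h3 : ∀ i, b i • diagTau A B N e (n i) = diagTau A B N e (b i • n i) := by
      intro i
      rw [← diagTau_mul_left, ← diagTau_mul_right, hxe i]
    simp only [h3, ← map_sum, hbn, map_zero]
  obtain ⟨k, a, y', hay, ha⟩ := Module.Flat.isTrivialRelation_of_sum_smul_eq_zero hrel
  refine ⟨k, a, fun j => diagAlpha A B N (y' j), ?_, ha⟩
  intro i
  have h4 := congrArg (diagAlpha A B N) (hay i)
  rw [diagAlpha_diagTau, hμe, one_smul, map_sum] at h4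
  simpa using h4

end Groth.Agent.Lib.Helper2
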