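import Mathlib.RingTheory.GradedAlgebra.Homogeneous.Ideal
import Mathlib.RingTheory.GradedAlgebra.FiniteType
import Mathlib.RingTheory.FiniteType
import Mathlib.Algebra.DirectSum.Internal
import Mathlib.Algebra.Algebra.Operations

/-! Helper lemmas on `ℕ`-graded algebras (helper2). -/

set_option autoImplicit false
universe u

namespace Groth.Agent.Lib.Helper2

open DirectSum

variable {R A : Type u} [CommRing R] [CommRing A] [Algebra R A]
variable (𝒜 : ℕ → Submodule R A) [GradedAlgebra 𝒜]

/-- Induction principle: a homogeneous element of degree `m` lying in the ideal spanned by a set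
of homogeneous elements is a sum of products `c * e` with `e` in the set and `c` homogeneous of
complementary degree. -/
theorem span_homogeneous_induction (s : Set A) (hs : ∀ e ∈ s, ∃ d, e ∈ 𝒜 d) {m : ℕ} {x : A}
    (hxm : x ∈ 𝒜 m) (hx : x ∈ Ideal.span s) (P : A → Prop) (h0 : P 0)
    (hadd : ∀ a b, P a → P b → P (a + b))
    (hmul : ∀ e ∈ s, ∀ d k c, e ∈ 𝒜 d → c ∈ 𝒜 k → k + d = m → P (c * e)) : P x := by
  classical
  obtain ⟨l, rfl⟩ := (Finsupp.mem_span_iff_linearCombination A s x).1 hx
  rw [Finsupp.linearCombination_apply, Finsupp.sum] at hxm ⊢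
  have hdec : (decompose 𝒜 (∑ a ∈ l.support, l a • (a : A)) m : A) =
      ∑ a ∈ l.support, (decompose 𝒜 (l a • (a : A)) m : A) := by
    rw [decompose_sum, DFinsupp.finsetSum_apply, AddSubmonoidClass.coe_finsetSum]
  rw [← decompose_of_mem_same 𝒜 hxm, hdec]
  refine Finset.sum_induction _ P hadd h0 ?_
  intro e _
  obtain ⟨d, hd⟩ := hs e e.2
  rw [smul_eq_mul]
  by_cases hdm : d ≤ m
  · rw [coe_decompose_mul_of_right_mem_of_le 𝒜 hd hdm]
    exact hmul e e.2 d (m - d) _ hd (Submodule.coe_mem _) (Nat.sub_add_cancel hdm)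
  · rw [coe_decompose_mul_of_right_mem_of_not_le 𝒜 hd hdm]
    exact h0

/-- If the irrelevant ideal is contained in the ideal spanned by a set `E` of homogeneous elements
of positive degree, then `E` generates `A` as an algebra over the degree zero part. -/
theorem adjoin_eq_top_of_irrelevant_le_span (E : Set A) (hE : ∀ e ∈ E, ∃ d : ℕ, 0 < d ∧ e ∈ 𝒜 d)
    (h : (HomogeneousIdeal.irrelevant 𝒜).toIdeal ≤ Ideal.span E) :
    Algebra.adjoin (𝒜 0) E = ⊤ := by
  classical
  have key : ∀ n : ℕ, ∀ x ∈ 𝒜 n, x ∈ Algebra.adjoin (𝒜 0) E := by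
    intro n
    induction n using Nat.strong_induction_on with
    | _ n ih =>
      intro x hx
      rcases Nat.eq_zero_or_pos n with rfl | hn
      · exact Subalgebra.algebraMap_mem _ (⟨x, hx⟩ : 𝒜 0)
      · have hx' : x ∈ Ideal.span E := h (HomogeneousIdeal.mem_irrelevant_of_mem 𝒜 hn hx)
        refine span_homogeneous_induction 𝒜 E (fun e he => (hE e he).imp fun d hd => hd.2) hx hx'
          (fun y => y ∈ Algebra.adjoin (𝒜 0) E) (zero_mem _) (fun a b => add_mem) ?_
        intro e he d k c hd hc hkd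
        obtain ⟨d', hd'pos, hd'⟩ := hE e he
        by_cases he0 : e = 0
        · rw [he0, mul_zero]; exact zero_mem _
        have hdd : d = d' := DirectSum.degree_eq_of_mem_mem 𝒜 hd hd' he0
        refine mul_mem (ih k (by omega) c hc) (Algebra.subset_adjoin he)
  rw [eq_top_iff]
  intro x _
  rw [← DirectSum.sum_support_decompose 𝒜 x]
  exact sum_mem fun i _ => key i _ (Submodule.coe_mem _)

/-- If a set `E` of homogeneous elements of positive degree generates `A` as an algebra over the
degree zero part, then the irrelevant ideal is contained in the ideal spanned by `E`. -/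
theorem irrelevant_le_span_of_adjoin_eq_top (E : Set A) (hE : ∀ e ∈ E, ∃ d : ℕ, 0 < d ∧ e ∈ 𝒜 d)
    (h : Algebra.adjoin (𝒜 0) E = ⊤) :
    (HomogeneousIdeal.irrelevant 𝒜).toIdeal ≤ Ideal.span E := by
  classical
  have key : ∀ x ∈ Algebra.adjoin (𝒜 0) E,
      x - GradedRing.projZeroRingHom 𝒜 x ∈ Ideal.span E := by
    intro x hx
    induction hx using Algebra.adjoin_induction with
    | mem e he =>
      obtain ⟨d, hd, hed⟩ := hE e he
      have : GradedRing.projZeroRingHom 𝒜 e = 0 :=
        HomogeneousIdeal.mem_irrelevant_of_mem 𝒜 hd hed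
      rw [this, sub_zero]
      exact Ideal.subset_span he
    | algebraMap a =>
      have : GradedRing.projZeroRingHom 𝒜 (algebraMap (𝒜 0) A a) = a := by
        simp [GradedRing.projZeroRingHom_apply]
      rw [this]
      simp
    | add a b _ _ ha hb =>
      rw [map_add]
      have := add_mem ha hb
      convert this using 1
      ring
    | mul a b _ _ ha hb =>
      rw [map_mul]
      have := add_mem (Ideal.mul_mem_right b _ ha)
        (Ideal.mul_mem_left _ (GradedRing.projZeroRingHom 𝒜 a) hb)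
      convert this using 1
      ring
  intro x hx
  have h0 : GradedRing.projZeroRingHom 𝒜 x = 0 := hx
  have := key x (h ▸ Algebra.mem_top)
  rwa [h0, sub_zero] at this

/-- A set `E` of homogeneous elements of positive degree spans the irrelevant ideal iff it
generates `A` as an algebra over the degree zero part. -/
theorem irrelevant_eq_span_iff (E : Set A) (hE : ∀ e ∈ E, ∃ d : ℕ, 0 < d ∧ e ∈ 𝒜 d) :
    (HomogeneousIdeal.irrelevant 𝒜).toIdeal = Ideal.span E ↔ Algebra.adjoin (𝒜 0) E = ⊤ := by
  constructor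
  · intro h
    exact adjoin_eq_top_of_irrelevant_le_span 𝒜 E hE h.le
  · intro h
    refine le_antisymm (irrelevant_le_span_of_adjoin_eq_top 𝒜 E hE h) ?_
    rw [Ideal.span_le]
    intro e he
    obtain ⟨d, hd, hed⟩ := hE e he
    exact HomogeneousIdeal.mem_irrelevant_of_mem 𝒜 hd hed

/-- The irrelevant ideal is finitely generated iff `A` is of finite type over the degree zero
part. -/
theorem irrelevant_fg_iff :
    (HomogeneousIdeal.irrelevant 𝒜).toIdeal.FG ↔ Algebra.FiniteType (𝒜 0) A := by
  classical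
  constructor
  · rintro ⟨F, hF⟩
    let E : Set A := ⋃ f ∈ F, (fun i => (decompose 𝒜 f i : A)) '' ((decompose 𝒜 f).support.filter (0 < ·))
    have hEfin : E.Finite := by
      refine Set.Finite.biUnion F.finite_toSet fun f _ => ?_
      exact (Finset.finite_toSet _).image _
    have hE : ∀ e ∈ E, ∃ d : ℕ, 0 < d ∧ e ∈ 𝒜 d := by
      intro e he
      simp only [E, Set.mem_iUnion, Set.mem_image, Finset.coe_filter, Set.mem_ofPred_eq] at he
      obtain ⟨f, _, i, ⟨_, hi⟩, rfl⟩ := he
      exact ⟨i, hi, Submodule.coe_mem _⟩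
    have hle : (HomogeneousIdeal.irrelevant 𝒜).toIdeal ≤ Ideal.span E := by
      rw [← hF, Ideal.span_le]
      intro f hf
      have hf0 : (decompose 𝒜 f 0 : A) = 0 := by
        have : f ∈ (HomogeneousIdeal.irrelevant 𝒜).toIdeal := hF ▸ Ideal.subset_span hf
        exact this
      rw [SetLike.mem_coe, ← DirectSum.sum_support_decompose 𝒜 f]
      refine sum_mem fun i hi => ?_
      rcases Nat.eq_zero_or_pos i with rfl | hpos
      · rw [hf0]; exact zero_mem _
      · refine Ideal.subset_span ?_
        simp only [E, Set.mem_iUnion, Set.mem_image, Finset.coe_filter, Set.mem_ofPred_eq]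
        exact ⟨f, hf, i, ⟨hi, hpos⟩, rfl⟩
    have := adjoin_eq_top_of_irrelevant_le_span 𝒜 E hE hle
    refine ⟨⟨hEfin.toFinset, ?_⟩⟩
    rw [Set.Finite.coe_toFinset, this]
  · intro hft
    obtain ⟨s, hs, hs'⟩ := GradedAlgebra.exists_finset_adjoin_eq_top_and_homogeneous_ne_zero 𝒜
    have hE : ∀ e ∈ (s : Set A), ∃ d : ℕ, 0 < d ∧ e ∈ 𝒜 d := by
      intro e he
      obtain ⟨n, hn, hen⟩ := hs' e he
      exact ⟨n, Nat.pos_of_ne_zero hn, hen⟩
    exact ⟨s, ((irrelevant_eq_span_iff 𝒜 (s : Set A) hE).2 hs).symm⟩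

/-- If `A` is of finite type over its degree zero part then high degree parts lie in powers of
the irrelevant ideal. -/
theorem exists_forall_le_irrelevant_pow [Algebra.FiniteType (𝒜 0) A] (n : ℕ) :
    ∃ m₀ : ℕ, ∀ m : ℕ, m₀ ≤ m →
      (𝒜 m : Set A) ⊆ ((HomogeneousIdeal.irrelevant 𝒜).toIdeal ^ n : Ideal A) := by
  classical
  obtain ⟨s, hs, hs'⟩ := GradedAlgebra.exists_finset_adjoin_eq_top_and_homogeneous_ne_zero 𝒜
  have hE : ∀ e ∈ (s : Set A), ∃ d : ℕ, 0 < d ∧ e ∈ 𝒜 d := by
    intro e he
    obtain ⟨n, hn, hen⟩ := hs' e he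
    exact ⟨n, Nat.pos_of_ne_zero hn, hen⟩
  have hspan : (HomogeneousIdeal.irrelevant 𝒜).toIdeal = Ideal.span (s : Set A) :=
    (irrelevant_eq_span_iff 𝒜 (s : Set A) hE).2 hs
  choose! deg hdegpos hdeg using hE
  set D := s.sup deg with hD
  have key : ∀ n : ℕ, ∀ m : ℕ, n * D + 1 ≤ m →
      (𝒜 m : Set A) ⊆ ((HomogeneousIdeal.irrelevant 𝒜).toIdeal ^ n : Ideal A) := by
    intro n
    induction n with
    | zero => intro m _ x _; simp
    | succ n ih =>
      intro m hm x hx
      have hmpos : 0 < m := by omega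
      have hxI : x ∈ Ideal.span (s : Set A) :=
        hspan ▸ HomogeneousIdeal.mem_irrelevant_of_mem 𝒜 hmpos hx
      refine span_homogeneous_induction 𝒜 (s : Set A) (fun e he => ⟨deg e, hdeg e he⟩) hx hxI
        (fun y => y ∈ ((HomogeneousIdeal.irrelevant 𝒜).toIdeal ^ (n + 1) : Ideal A))
        (zero_mem _) (fun a b => add_mem) ?_
      intro e he d k c hd hc hkd
      by_cases he0 : e = 0
      · rw [he0, mul_zero]; exact zero_mem _
      have hdd : d = deg e := DirectSum.degree_eq_of_mem_mem 𝒜 hd (hdeg e he) he0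
      have hdD : d ≤ D := hdd ▸ Finset.le_sup (f := deg) he
      have hk : n * D + 1 ≤ k := by
        have : (n + 1) * D = n * D + D := by ring
        omega
      have hcI := ih k hk hc
      have heI : e ∈ (HomogeneousIdeal.irrelevant 𝒜).toIdeal :=
        HomogeneousIdeal.mem_irrelevant_of_mem 𝒜 (hdegpos e he) (hdeg e he)
      rw [pow_succ]
      exact Ideal.mul_mem_mul hcI heI
  exact ⟨n * D + 1, key n⟩

end Groth.Agent.Lib.Helper2
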