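import Mathlib
import Groth.Agent.Lib.Helper4.TorLES
import Groth.Agent.Lib.Helper21.TorBridge

/-! Natural dimension shifting for `X ⊗ Q` (first variable), via towers of short exact sequences. -/

set_option autoImplicit false
universe u

open CategoryTheory MonoidalCategory Limits
open Groth.Agent.Lib.Helper4 Groth.Agent.Lib.Helper21

namespace Groth.Agent.Lib.Helper2.TorNat

variable {R : Type u} [CommRing R]

/-- `X ⊗ Q` for a chain complex `Q`. -/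
noncomputable abbrev TX (X : ModuleCat.{u} R) (Q : ChainComplex (ModuleCat.{u} R) ℕ) :
    ChainComplex (ModuleCat.{u} R) ℕ :=
  (((tensoringLeft (ModuleCat.{u} R)).obj X).mapHomologicalComplex (ComplexShape.down ℕ)).obj Q

noncomputable abbrev tmap {X X' : ModuleCat.{u} R} (f : X ⟶ X')
    (Q : ChainComplex (ModuleCat.{u} R) ℕ) : TX X Q ⟶ TX X' Q :=
  (NatTrans.mapHomologicalComplex ((tensoringLeft (ModuleCat.{u} R)).map f)
    (ComplexShape.down ℕ)).app Q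

noncomputable abbrev qmap (X : ModuleCat.{u} R) {Q Q' : ChainComplex (ModuleCat.{u} R) ℕ}
    (ψ : Q ⟶ Q') : TX X Q ⟶ TX X Q' :=
  (((tensoringLeft (ModuleCat.{u} R)).obj X).mapHomologicalComplex (ComplexShape.down ℕ)).map ψ

noncomputable abbrev bmap {X X' : ModuleCat.{u} R} (f : X ⟶ X')
    {Q Q' : ChainComplex (ModuleCat.{u} R) ℕ} (ψ : Q ⟶ Q') : TX X Q ⟶ TX X' Q' :=
  tmap f Q ≫ qmap X' ψ

lemma tmap_f {X X' : ModuleCat.{u} R} (f : X ⟶ X') (Q : ChainComplex (ModuleCat.{u} R) ℕ)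
    (n : ℕ) : (tmap f Q).f n = f ▷ Q.X n := rfl

lemma qmap_f (X : ModuleCat.{u} R) {Q Q' : ChainComplex (ModuleCat.{u} R) ℕ} (ψ : Q ⟶ Q')
    (n : ℕ) : (qmap X ψ).f n = X ◁ ψ.f n := rfl

lemma tmap_id (X : ModuleCat.{u} R) (Q : ChainComplex (ModuleCat.{u} R) ℕ) :
    tmap (𝟙 X) Q = 𝟙 _ := by
  apply HomologicalComplex.hom_ext
  intro n
  rw [tmap_f]
  simp
  rfl

lemma tmap_comp {X X' X'' : ModuleCat.{u} R} (f : X ⟶ X') (g : X' ⟶ X'')
    (Q : ChainComplex (ModuleCat.{u} R) ℕ) : tmap (f ≫ g) Q = tmap f Q ≫ tmap g Q := by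
  apply HomologicalComplex.hom_ext
  intro n
  rw [HomologicalComplex.comp_f, tmap_f, tmap_f, tmap_f]
  simp
  rfl

lemma qmap_id (X : ModuleCat.{u} R) (Q : ChainComplex (ModuleCat.{u} R) ℕ) :
    qmap X (𝟙 Q) = 𝟙 _ := CategoryTheory.Functor.map_id _ _

lemma qmap_comp (X : ModuleCat.{u} R) {Q Q' Q'' : ChainComplex (ModuleCat.{u} R) ℕ}
    (ψ : Q ⟶ Q') (ψ' : Q' ⟶ Q'') : qmap X (ψ ≫ ψ') = qmap X ψ ≫ qmap X ψ' :=
  CategoryTheory.Functor.map_comp _ _ _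

lemma tmap_qmap {X X' : ModuleCat.{u} R} (f : X ⟶ X')
    {Q Q' : ChainComplex (ModuleCat.{u} R) ℕ} (ψ : Q ⟶ Q') :
    tmap f Q ≫ qmap X' ψ = qmap X ψ ≫ tmap f Q' := by
  apply HomologicalComplex.hom_ext
  intro n
  rw [HomologicalComplex.comp_f, HomologicalComplex.comp_f, tmap_f, tmap_f, qmap_f, qmap_f]
  exact (whisker_exchange f (ψ.f n)).symm

lemma bmap_id_right {X X' : ModuleCat.{u} R} (f : X ⟶ X')
    (Q : ChainComplex (ModuleCat.{u} R) ℕ) : bmap f (𝟙 Q) = tmap f Q := by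
  rw [bmap, qmap_id, Category.comp_id]

lemma bmap_id_left (X : ModuleCat.{u} R)
    {Q Q' : ChainComplex (ModuleCat.{u} R) ℕ} (ψ : Q ⟶ Q') : bmap (𝟙 X) ψ = qmap X ψ := by
  rw [bmap, tmap_id, Category.id_comp]

lemma bmap_comp_tmap {X X' X'' : ModuleCat.{u} R} (f : X ⟶ X') (g : X' ⟶ X'')
    {Q Q' : ChainComplex (ModuleCat.{u} R) ℕ} (ψ : Q ⟶ Q') :
    bmap f ψ ≫ tmap g Q' = tmap f Q ≫ bmap g ψ := by
  rw [bmap, bmap, Category.assoc, ← tmap_qmap g ψ]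

section Delta

variable (T : ShortComplex (ModuleCat.{u} R)) (hT : T.ShortExact)
  (Q : ChainComplex (ModuleCat.{u} R) ℕ) (hQ : ∀ n, Projective (Q.X n))

/-- the connecting map `H_{j+1}(X₃ ⊗ Q) ⟶ H_j(X₁ ⊗ Q)` -/
noncomputable def hδ (j : ℕ) : (TX T.X₃ Q).homology (j + 1) ⟶ (TX T.X₁ Q).homology j :=
  (tensorSC_shortExact T hT Q hQ).δ (j + 1) j (by simp)

lemma hδ_comp (j : ℕ) :
    hδ T hT Q hQ j ≫ HomologicalComplex.homologyMap (tmap T.f Q) j = 0 :=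
  (tensorSC_shortExact T hT Q hQ).δ_comp (j + 1) j (by simp)

lemma hδ_exact (j : ℕ) :
    (ShortComplex.mk (hδ T hT Q hQ j) (HomologicalComplex.homologyMap (tmap T.f Q) j)
      (hδ_comp T hT Q hQ j)).Exact :=
  (tensorSC_shortExact T hT Q hQ).homology_exact₁ (j + 1) j (by simp)

lemma hδ_mono (j : ℕ) (hz : IsZero ((TX T.X₂ Q).homology (j + 1))) :
    Mono (hδ T hT Q hQ j) :=
  ((tensorSC_shortExact T hT Q hQ).homology_exact₃ (j + 1) j (by simp)).mono_g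
    (hz.eq_of_src _ _)

lemma hδ_epi (j : ℕ) (hz : IsZero ((TX T.X₂ Q).homology j)) :
    Epi (hδ T hT Q hQ j) :=
  (hδ_exact T hT Q hQ j).epi_f (hz.eq_of_tgt _ _)

lemma hδ_isIso (j : ℕ) (hz : IsZero ((TX T.X₂ Q).homology (j + 1)))
    (hz' : IsZero ((TX T.X₂ Q).homology j)) : IsIso (hδ T hT Q hQ j) := by
  have := hδ_mono T hT Q hQ j hz
  have := hδ_epi T hT Q hQ j hz'
  exact isIso_of_mono_of_epi _

end Delta

/-- morphism of short complexes of complexes induced by `m : T ⟶ T'` and `ψ : Q ⟶ Q'` -/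
noncomputable def scHom {T T' : ShortComplex (ModuleCat.{u} R)} (m : T ⟶ T')
    {Q Q' : ChainComplex (ModuleCat.{u} R) ℕ} (ψ : Q ⟶ Q') :
    tensorSC T Q ⟶ tensorSC T' Q' where
  τ₁ := bmap m.τ₁ ψ
  τ₂ := bmap m.τ₂ ψ
  τ₃ := bmap m.τ₃ ψ
  comm₁₂ := by
    change bmap m.τ₁ ψ ≫ tmap T'.f Q' = tmap T.f Q ≫ bmap m.τ₂ ψ
    rw [bmap_comp_tmap, bmap, bmap, ← Category.assoc, ← Category.assoc, ← tmap_comp,
      ← tmap_comp, m.comm₁₂]
  comm₂₃ := by
    change bmap m.τ₂ ψ ≫ tmap T'.g Q' = tmap T.g Q ≫ bmap m.τ₃ ψ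
    rw [bmap_comp_tmap, bmap, bmap, ← Category.assoc, ← Category.assoc, ← tmap_comp,
      ← tmap_comp, m.comm₂₃]

lemma hδ_naturality {T T' : ShortComplex (ModuleCat.{u} R)} (hT : T.ShortExact)
    (hT' : T'.ShortExact) (m : T ⟶ T') {Q Q' : ChainComplex (ModuleCat.{u} R) ℕ}
    (hQ : ∀ n, Projective (Q.X n)) (hQ' : ∀ n, Projective (Q'.X n)) (ψ : Q ⟶ Q') (j : ℕ) :
    hδ T hT Q hQ j ≫ HomologicalComplex.homologyMap (bmap m.τ₁ ψ) j =
      HomologicalComplex.homologyMap (bmap m.τ₃ ψ) (j + 1) ≫ hδ T' hT' Q' hQ' j :=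
  HomologicalComplex.HomologySequence.δ_naturality (scHom m ψ)
    (tensorSC_shortExact T hT Q hQ) (tensorSC_shortExact T' hT' Q' hQ') (j + 1) j (by simp)

/-! ### Towers -/

variable (R) in
/-- A tower of short exact sequences `Ω_{j+1} → P_j → Ω_j`. -/
structure Tower where
  Ω : ℕ → ModuleCat.{u} R
  P : ℕ → ModuleCat.{u} R
  i : ∀ j, Ω (j + 1) ⟶ P j
  p : ∀ j, P j ⟶ Ω j
  w : ∀ j, i j ≫ p j = 0
  hS : ∀ j, (ShortComplex.mk (i j) (p j) (w j)).ShortExact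

namespace Tower

abbrev sc (S : Tower R) (j : ℕ) : ShortComplex (ModuleCat.{u} R) :=
  ShortComplex.mk (S.i j) (S.p j) (S.w j)

/-- the shifted tower -/
abbrev shift (S : Tower R) : Tower R where
  Ω j := S.Ω (j + 1)
  P j := S.P (j + 1)
  i j := S.i (j + 1)
  p j := S.p (j + 1)
  w j := S.w (j + 1)
  hS j := S.hS (j + 1)

/-- morphisms of towers -/
structure Hom (S S' : Tower R) where
  a : ∀ j, S.Ω j ⟶ S'.Ω j
  b : ∀ j, S.P j ⟶ S'.P j
  ci : ∀ j, S.i j ≫ b j = a (j + 1) ≫ S'.i j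
  cp : ∀ j, S.p j ≫ a j = b j ≫ S'.p j

abbrev Hom.shift {S S' : Tower R} (μ : Hom S S') : Hom S.shift S'.shift where
  a j := μ.a (j + 1)
  b j := μ.b (j + 1)
  ci j := μ.ci (j + 1)
  cp j := μ.cp (j + 1)

def Hom.sc {S S' : Tower R} (μ : Hom S S') (j : ℕ) : S.sc j ⟶ S'.sc j where
  τ₁ := μ.a (j + 1)
  τ₂ := μ.b j
  τ₃ := μ.a j
  comm₁₂ := (μ.ci j).symm
  comm₂₃ := (μ.cp j).symm

end Tower

section CT

variable (Q : ChainComplex (ModuleCat.{u} R) ℕ) (hQ : ∀ n, Projective (Q.X n))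

/-- the iterated connecting map `H_{k+1}(Ω_0 ⊗ Q) ⟶ H_0(Ω_{k+1} ⊗ Q)` -/
noncomputable def cT : (k : ℕ) → (S : Tower R) →
    ((TX (S.Ω 0) Q).homology (k + 1) ⟶ (TX (S.Ω (k + 1)) Q).homology 0)
  | 0, S => hδ (S.sc 0) (S.hS 0) Q hQ 0
  | k + 1, S => hδ (S.sc 0) (S.hS 0) Q hQ (k + 1) ≫ cT k S.shift

lemma cT_zero (S : Tower R) : cT Q hQ 0 S = hδ (S.sc 0) (S.hS 0) Q hQ 0 := rfl

lemma cT_succ (k : ℕ) (S : Tower R) :
    cT Q hQ (k + 1) S = hδ (S.sc 0) (S.hS 0) Q hQ (k + 1) ≫ cT Q hQ k S.shift := rfl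

end CT

lemma cT_naturality {Q Q' : ChainComplex (ModuleCat.{u} R) ℕ}
    (hQ : ∀ n, Projective (Q.X n)) (hQ' : ∀ n, Projective (Q'.X n)) (ψ : Q ⟶ Q') :
    ∀ (k : ℕ) {S S' : Tower R} (μ : Tower.Hom S S'),
      cT Q hQ k S ≫ HomologicalComplex.homologyMap (bmap (μ.a (k + 1)) ψ) 0 =
        HomologicalComplex.homologyMap (bmap (μ.a 0) ψ) (k + 1) ≫ cT Q' hQ' k S' := by
  intro k
  induction k with
  | zero =>
    intro S S' μ
    exact hδ_naturality (S.hS 0) (S'.hS 0) (μ.sc 0) hQ hQ' ψ 0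
  | succ k ih =>
    intro S S' μ
    rw [cT_succ, cT_succ, Category.assoc]
    have h1 := ih μ.shift
    have h2 := hδ_naturality (S.hS 0) (S'.hS 0) (μ.sc 0) hQ hQ' ψ (k + 1)
    change cT Q hQ k S.shift ≫ HomologicalComplex.homologyMap (bmap (μ.a (k + 1 + 1)) ψ) 0 =
      HomologicalComplex.homologyMap (bmap (μ.a 1) ψ) (k + 1) ≫ cT Q' hQ' k S'.shift at h1
    rw [h1, ← Category.assoc]
    change hδ (S.sc 0) (S.hS 0) Q hQ (k + 1) ≫
      HomologicalComplex.homologyMap (bmap (μ.a 1) ψ) (k + 1) =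
      HomologicalComplex.homologyMap (bmap (μ.a 0) ψ) (k + 1 + 1) ≫
        hδ (S'.sc 0) (S'.hS 0) Q' hQ' (k + 1) at h2
    rw [h2, Category.assoc]

section Ker

variable (Q : ChainComplex (ModuleCat.{u} R) ℕ) (hQ : ∀ n, Projective (Q.X n))

/-- vanishing hypothesis -/
def TVan (S : Tower R) : Prop :=
  ∀ j n, IsZero ((TX (S.P j) Q).homology (n + 1))

lemma TVan.shift {S : Tower R} (h : TVan Q S) : TVan Q S.shift := fun j n => h (j + 1) n

lemma cT_mono : ∀ (k : ℕ) (S : Tower R), TVan Q S → Mono (cT Q hQ k S) := by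
  intro k
  induction k with
  | zero =>
    intro S hv
    exact hδ_mono (S.sc 0) (S.hS 0) Q hQ 0 (hv 0 0)
  | succ k ih =>
    intro S hv
    rw [cT_succ]
    have := hδ_mono (S.sc 0) (S.hS 0) Q hQ (k + 1) (hv 0 (k + 1))
    have := ih S.shift hv.shift
    exact mono_comp _ _

lemma cT_comp : ∀ (k : ℕ) (S : Tower R),
    cT Q hQ k S ≫ HomologicalComplex.homologyMap (tmap (S.i k) Q) 0 = 0 := by
  intro k
  induction k with
  | zero =>
    intro S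
    exact hδ_comp (S.sc 0) (S.hS 0) Q hQ 0
  | succ k ih =>
    intro S
    rw [cT_succ, Category.assoc]
    have := ih S.shift
    change cT Q hQ k S.shift ≫ HomologicalComplex.homologyMap (tmap (S.i (k + 1)) Q) 0 = 0 at this
    rw [this, comp_zero]

lemma cT_exact : ∀ (k : ℕ) (S : Tower R), TVan Q S →
    (ShortComplex.mk (cT Q hQ k S) (HomologicalComplex.homologyMap (tmap (S.i k) Q) 0)
      (cT_comp Q hQ k S)).Exact := by
  intro k
  induction k with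
  | zero =>
    intro S _
    exact hδ_exact (S.sc 0) (S.hS 0) Q hQ 0
  | succ k ih =>
    intro S hv
    have h1 := ih S.shift hv.shift
    have hiso : IsIso (hδ (S.sc 0) (S.hS 0) Q hQ (k + 1)) :=
      hδ_isIso (S.sc 0) (S.hS 0) Q hQ (k + 1) (hv 0 (k + 1)) (hv 0 k)
    let φ : ShortComplex.mk (cT Q hQ (k + 1) S)
        (HomologicalComplex.homologyMap (tmap (S.i (k + 1)) Q) 0) (cT_comp Q hQ (k + 1) S) ⟶
        ShortComplex.mk (cT Q hQ k S.shift)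
          (HomologicalComplex.homologyMap (tmap (S.shift.i k) Q) 0) (cT_comp Q hQ k S.shift) :=
      { τ₁ := hδ (S.sc 0) (S.hS 0) Q hQ (k + 1)
        τ₂ := 𝟙 _
        τ₃ := 𝟙 _
        comm₁₂ := by
          dsimp
          rw [Category.comp_id, cT_succ]
        comm₂₃ := by
          dsimp
          rw [Category.comp_id, Category.id_comp] }
    have : Epi φ.τ₁ := by dsimp [φ]; infer_instance
    have : IsIso φ.τ₂ := by dsimp [φ]; infer_instance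
    have : Mono φ.τ₃ := by dsimp [φ]; infer_instance
    exact (ShortComplex.exact_iff_of_epi_of_isIso_of_mono φ).mpr h1

end Ker

end Groth.Agent.Lib.Helper2.TorNat
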