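import Mathlib
import Groth.Agent.Lib.Helper2.TorNat1
import Groth.Agent.Lib.Helper2.TorBalance

/-! Natural balancing of `H_{k+1}(M ⊗ Q)` and `H_{k+1}(N ⊗ P)` for projective resolutions. -/

set_option autoImplicit false
universe u

open CategoryTheory MonoidalCategory Limits
open Groth.Agent.Lib.Helper4 Groth.Agent.Lib.Helper21 Groth.Agent.Lib.Helper2.TorBalance

namespace Groth.Agent.Lib.Helper2.TorNat

variable {R : Type u} [CommRing R]

section TwoKernels

variable {C : Type*} [Category C] [Abelian C] {A A' B D : C} (c : A ⟶ B) (c' : A' ⟶ B)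
  (u : B ⟶ D) (w : c ≫ u = 0) (w' : c' ≫ u = 0) [Mono c] [Mono c']
  (h : (ShortComplex.mk c u w).Exact) (h' : (ShortComplex.mk c' u w').Exact)

/-- two kernels of the same map are isomorphic -/
noncomputable def kerIso : A ≅ A' where
  hom := h'.lift c w
  inv := h.lift c' w'
  hom_inv_id := by
    rw [← cancel_mono c, Category.assoc, Category.id_comp]
    have e1 : h.lift c' w' ≫ c = c' := h.lift_f c' w'
    have e2 : h'.lift c w ≫ c' = c := h'.lift_f c w
    rw [e1, e2]
  inv_hom_id := by
    rw [← cancel_mono c', Category.assoc, Category.id_comp]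
    have e1 : h.lift c' w' ≫ c = c' := h.lift_f c' w'
    have e2 : h'.lift c w ≫ c' = c := h'.lift_f c w
    rw [e2, e1]

lemma kerIso_hom_comp : (kerIso c c' u w w' h h').hom ≫ c' = c := h'.lift_f c w

end TwoKernels

/-! ### naturality of `h0Iso` in the resolution -/

theorem h0Iso_naturality_right (X : ModuleCat.{u} R) {N N' : ModuleCat.{u} R} (g : N ⟶ N')
    (Q : ProjectiveResolution N) (Q' : ProjectiveResolution N') (ψ : Q.complex ⟶ Q'.complex)
    (comm : ψ.f 0 ≫ Q'.π.f 0 = Q.π.f 0 ≫ g) :
    HomologicalComplex.homologyMap (qmap X ψ) 0 ≫ (h0Iso Q' X).hom =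
      (h0Iso Q X).hom ≫ X ◁ g := by
  simp only [h0Iso, Iso.trans_hom, asIso_hom, Category.assoc]
  have h1 := ProjectiveResolution.fromLeftDerivedZero'_naturality g Q Q' ψ comm
    ((tensoringLeft (ModuleCat.{u} R)).obj X)
  have h2 : ((tensoringLeft (ModuleCat.{u} R)).obj X).map g = X ◁ g := rfl
  rw [h2] at h1
  rw [← h1]
  simp only [← Category.assoc]
  congr 1
  exact HomologicalComplex.homologyι_naturality _ 0

/-! ### the tower of a resolution -/

section TowerOf

variable {M M' : ModuleCat.{u} R}

/-- the tower of syzygies of a projective resolution -/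
noncomputable abbrev towerOf (P : ProjectiveResolution M) : Tower R where
  Ω j := P.complex.opcycles j
  P j := P.complex.X j
  i j := P.complex.fromOpcycles (j + 1) j
  p j := P.complex.pOpcycles j
  w j := (syz P j).zero
  hS j := syz_shortExact P j

lemma fromOpcycles_naturality {K K' : ChainComplex (ModuleCat.{u} R) ℕ} (φ : K ⟶ K') (j : ℕ) :
    K.fromOpcycles (j + 1) j ≫ φ.f j =
      HomologicalComplex.opcyclesMap φ (j + 1) ≫ K'.fromOpcycles (j + 1) j := by
  rw [← cancel_epi (K.pOpcycles (j + 1)), HomologicalComplex.p_fromOpcycles_assoc,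
    HomologicalComplex.p_opcyclesMap_assoc, HomologicalComplex.p_fromOpcycles, φ.comm]

/-- the morphism of towers induced by a chain map -/
noncomputable abbrev towerHom (P : ProjectiveResolution M) (P' : ProjectiveResolution M')
    (φ : P.complex ⟶ P'.complex) : Tower.Hom (towerOf P) (towerOf P') where
  a j := HomologicalComplex.opcyclesMap φ j
  b j := φ.f j
  ci j := fromOpcycles_naturality φ j
  cp j := HomologicalComplex.p_opcyclesMap φ j

lemma tvan_towerOf (P : ProjectiveResolution M) {N : ModuleCat.{u} R}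
    (Q : ProjectiveResolution N) : TVan Q.complex (towerOf P) := by
  intro j n
  have := P.projective j
  have h1 : Module.Projective R (P.complex.X j) := ModuleCat.projective_of_module_projective _
  have h2 : Module.Flat R (P.complex.X j) := inferInstance
  change IsZero ((TX (P.complex.X j) Q.complex).homology (n + 1))
  erw [← HomologicalComplex.exactAt_iff_isZero_homology]
  have h := Q.complex_exactAt_succ n
  exact ShortComplex.Exact.map h (tensorLeft (P.complex.X j))

lemma p_opcyclesZeroIso_hom (P : ProjectiveResolution M) :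
    P.complex.pOpcycles 0 ≫ (opcyclesZeroIso P).hom = P.π.f 0 :=
  IsColimit.comp_coconePointUniqueUpToIso_hom (P.complex.opcyclesIsCokernel 1 0 (by simp))
    P.isColimitCokernelCofork WalkingParallelPair.one

lemma opcyclesZeroIso_naturality (P : ProjectiveResolution M) (P' : ProjectiveResolution M')
    (f : M ⟶ M') (φ : P.complex ⟶ P'.complex) (comm : φ.f 0 ≫ P'.π.f 0 = P.π.f 0 ≫ f) :
    HomologicalComplex.opcyclesMap φ 0 ≫ (opcyclesZeroIso P').hom =
      (opcyclesZeroIso P).hom ≫ f := by
  rw [← cancel_epi (P.complex.pOpcycles 0), HomologicalComplex.p_opcyclesMap_assoc,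
    p_opcyclesZeroIso_hom, ← Category.assoc, p_opcyclesZeroIso_hom]
  exact comm

lemma opcyclesZeroIso_inv_naturality (P : ProjectiveResolution M) (P' : ProjectiveResolution M')
    (f : M ⟶ M') (φ : P.complex ⟶ P'.complex) (comm : φ.f 0 ≫ P'.π.f 0 = P.π.f 0 ≫ f) :
    f ≫ (opcyclesZeroIso P').inv =
      (opcyclesZeroIso P).inv ≫ HomologicalComplex.opcyclesMap φ 0 := by
  rw [← cancel_mono (opcyclesZeroIso P').hom, Category.assoc, Category.assoc, Iso.inv_hom_id,
    Category.comp_id, opcyclesZeroIso_naturality P P' f φ comm, Iso.inv_hom_id_assoc]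

end TowerOf

end Groth.Agent.Lib.Helper2.TorNat
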