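import Mathlib
import Groth.Agent.Lib.Helper2.TorNat2

/-! The two kernel maps `γ`, `γ'` and the balancing isomorphism `Psi`. -/

set_option autoImplicit false
universe u

open CategoryTheory MonoidalCategory Limits
open Groth.Agent.Lib.Helper4 Groth.Agent.Lib.Helper21 Groth.Agent.Lib.Helper2.TorBalance

namespace Groth.Agent.Lib.Helper2.TorNat

variable {R : Type u} [CommRing R]

lemma exact_of_isos {C : Type*} [Category C] [Abelian C] {A B D A' B' D' : C}
    (c : A ⟶ B) (u : B ⟶ D) (w : c ≫ u = 0) (h : (ShortComplex.mk c u w).Exact)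
    (c' : A' ⟶ B') (u' : B' ⟶ D') (w' : c' ≫ u' = 0)
    (e₁ : A' ⟶ A) (e₂ : B' ⟶ B) (e₃ : D' ⟶ D) [Epi e₁] [IsIso e₂] [Mono e₃]
    (h₁ : c' ≫ e₂ = e₁ ≫ c) (h₂ : u' ≫ e₃ = e₂ ≫ u) : (ShortComplex.mk c' u' w').Exact := by
  let φ : ShortComplex.mk c' u' w' ⟶ ShortComplex.mk c u w :=
    { τ₁ := e₁, τ₂ := e₂, τ₃ := e₃, comm₁₂ := h₁.symm, comm₂₃ := h₂.symm }
  have : Epi φ.τ₁ := by dsimp [φ]; infer_instance
  have : IsIso φ.τ₂ := by dsimp [φ]; infer_instance
  have : Mono φ.τ₃ := by dsimp [φ]; infer_instance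
  exact (ShortComplex.exact_iff_of_epi_of_isIso_of_mono φ).mpr h

lemma isIso_homologyMap_tmap {X X' : ModuleCat.{u} R} (e : X ≅ X')
    (Q : ChainComplex (ModuleCat.{u} R) ℕ) (n : ℕ) :
    IsIso (HomologicalComplex.homologyMap (tmap e.inv Q) n) :=
  ⟨HomologicalComplex.homologyMap (tmap e.hom Q) n, by
    rw [← HomologicalComplex.homologyMap_comp, ← tmap_comp, e.inv_hom_id, tmap_id,
      HomologicalComplex.homologyMap_id], by
    rw [← HomologicalComplex.homologyMap_comp, ← tmap_comp, e.hom_inv_id, tmap_id,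
      HomologicalComplex.homologyMap_id]⟩

section Gamma

variable {M N : ModuleCat.{u} R} (P : ProjectiveResolution M) (Q : ProjectiveResolution N)

/-- first kernel map: `H_{k+1}(M ⊗ Q) ⟶ Ω_{k+1}(P) ⊗ N` -/
noncomputable def gam (k : ℕ) :
    (TX M Q.complex).homology (k + 1) ⟶ P.complex.opcycles (k + 1) ⊗ N :=
  HomologicalComplex.homologyMap (tmap (opcyclesZeroIso P).inv Q.complex) (k + 1) ≫
    cT Q.complex Q.projective k (towerOf P) ≫ (h0Iso Q (P.complex.opcycles (k + 1))).hom

lemma h0Iso_nat_i (k : ℕ) :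
    (h0Iso Q (P.complex.opcycles (k + 1))).hom ≫ P.complex.fromOpcycles (k + 1) k ▷ N =
      HomologicalComplex.homologyMap (tmap (P.complex.fromOpcycles (k + 1) k) Q.complex) 0 ≫
        (h0Iso Q (P.complex.X k)).hom :=
  (h0Iso_naturality (P.complex.fromOpcycles (k + 1) k) Q).symm

lemma gam_comp (k : ℕ) : gam P Q k ≫ P.complex.fromOpcycles (k + 1) k ▷ N = 0 := by
  have h2 := cT_comp Q.complex Q.projective k (towerOf P)
  change cT Q.complex Q.projective k (towerOf P) ≫
    HomologicalComplex.homologyMap (tmap (P.complex.fromOpcycles (k + 1) k) Q.complex) 0 = 0 at h2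
  rw [gam, Category.assoc, Category.assoc, h0Iso_nat_i, ← Category.assoc _ _ (h0Iso Q _).hom, h2,
    zero_comp, comp_zero]

instance gam_mono (k : ℕ) : Mono (gam P Q k) := by
  have := isIso_homologyMap_tmap (opcyclesZeroIso P) Q.complex (k + 1)
  have := cT_mono Q.complex Q.projective k (towerOf P) (tvan_towerOf P Q)
  rw [gam]
  infer_instance

lemma gam_exact (k : ℕ) :
    (ShortComplex.mk (gam P Q k) (P.complex.fromOpcycles (k + 1) k ▷ N) (gam_comp P Q k)).Exact := by
  have h := cT_exact Q.complex Q.projective k (towerOf P) (tvan_towerOf P Q)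
  have := isIso_homologyMap_tmap (opcyclesZeroIso P) Q.complex (k + 1)
  refine exact_of_isos _ _ _ h _ _ _
    (HomologicalComplex.homologyMap (tmap (opcyclesZeroIso P).inv Q.complex) (k + 1))
    (h0Iso Q (P.complex.opcycles (k + 1))).inv (h0Iso Q (P.complex.X k)).inv ?_ ?_
  · rw [gam, Category.assoc, Category.assoc, Iso.hom_inv_id, Category.comp_id]
  · rw [← cancel_mono (h0Iso Q (P.complex.X k)).hom, Category.assoc, Iso.inv_hom_id,
      Category.comp_id, Category.assoc]
    rw [← cancel_epi (h0Iso Q (P.complex.opcycles (k + 1))).hom, Iso.hom_inv_id_assoc]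
    exact h0Iso_nat_i P Q k

end Gamma

section GammaNat

variable {M M' N N' : ModuleCat.{u} R} (P : ProjectiveResolution M)
  (P' : ProjectiveResolution M') (Q : ProjectiveResolution N) (Q' : ProjectiveResolution N')
  (f : M ⟶ M') (φ : P.complex ⟶ P'.complex) (comm : φ.f 0 ≫ P'.π.f 0 = P.π.f 0 ≫ f)
  (g : N ⟶ N') (ψ : Q.complex ⟶ Q'.complex) (comm' : ψ.f 0 ≫ Q'.π.f 0 = Q.π.f 0 ≫ g)

include comm in
lemma bmap_oz (k : ℕ) :
    bmap f ψ ≫ tmap (opcyclesZeroIso P').inv Q'.complex =
      tmap (opcyclesZeroIso P).inv Q.complex ≫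
        bmap (HomologicalComplex.opcyclesMap φ 0) ψ := by
  rw [bmap_comp_tmap, bmap, bmap, ← Category.assoc, ← Category.assoc, ← tmap_comp, ← tmap_comp,
    opcyclesZeroIso_inv_naturality P P' f φ comm]

include comm' in
lemma h0Iso_bmap {X X' : ModuleCat.{u} R} (a : X ⟶ X') :
    HomologicalComplex.homologyMap (bmap a ψ) 0 ≫ (h0Iso Q' X').hom =
      (h0Iso Q X).hom ≫ (a ⊗ₘ g) := by
  rw [bmap, HomologicalComplex.homologyMap_comp, Category.assoc,
    h0Iso_naturality_right X' g Q Q' ψ comm', ← Category.assoc]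
  have h := h0Iso_naturality a Q
  change HomologicalComplex.homologyMap (tmap a Q.complex) 0 ≫ (h0Iso Q X').hom =
    (h0Iso Q X).hom ≫ a ▷ N at h
  rw [h, Category.assoc, MonoidalCategory.tensorHom_def]

include comm comm' in
lemma gam_naturality (k : ℕ) :
    HomologicalComplex.homologyMap (bmap f ψ) (k + 1) ≫ gam P' Q' k =
      gam P Q k ≫ (HomologicalComplex.opcyclesMap φ (k + 1) ⊗ₘ g) := by
  have h1 : HomologicalComplex.homologyMap (bmap f ψ) (k + 1) ≫
      HomologicalComplex.homologyMap (tmap (opcyclesZeroIso P').inv Q'.complex) (k + 1) =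
      HomologicalComplex.homologyMap (tmap (opcyclesZeroIso P).inv Q.complex) (k + 1) ≫
        HomologicalComplex.homologyMap (bmap (HomologicalComplex.opcyclesMap φ 0) ψ) (k + 1) := by
    rw [← HomologicalComplex.homologyMap_comp, ← HomologicalComplex.homologyMap_comp,
      bmap_oz P P' Q Q' f φ comm ψ k]
  have h2 := cT_naturality Q.projective Q'.projective ψ k (towerHom P P' φ)
  change cT Q.complex Q.projective k (towerOf P) ≫
      HomologicalComplex.homologyMap (bmap (HomologicalComplex.opcyclesMap φ (k + 1)) ψ) 0 =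
    HomologicalComplex.homologyMap (bmap (HomologicalComplex.opcyclesMap φ 0) ψ) (k + 1) ≫
      cT Q'.complex Q'.projective k (towerOf P') at h2
  have h3 := h0Iso_bmap Q Q' g ψ comm' (HomologicalComplex.opcyclesMap φ (k + 1))
  rw [gam, gam, ← Category.assoc, h1, Category.assoc, Category.assoc, Category.assoc, ← h3,
    ← Category.assoc (cT Q.complex Q.projective k (towerOf P)), h2, Category.assoc]

end GammaNat

end Groth.Agent.Lib.Helper2.TorNat
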