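import Mathlib
import Groth.Agent.Lib.Helper2.TorNat3

/-! The second kernel map `γ'` and the balancing isomorphism `Psi`. -/

set_option autoImplicit false
universe u

open CategoryTheory MonoidalCategory Limits
open Groth.Agent.Lib.Helper4 Groth.Agent.Lib.Helper21 Groth.Agent.Lib.Helper2.TorBalance

namespace Groth.Agent.Lib.Helper2.TorNat

variable {R : Type u} [CommRing R]

section Kap

variable (N : ModuleCat.{u} R) (K : ChainComplex (ModuleCat.{u} R) ℕ) (k : ℕ)

/-- `pOpcycles` with a clean source -/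
noncomputable def po : N ⊗ K.X (k + 1) ⟶ (TX N K).opcycles (k + 1) :=
  (TX N K).pOpcycles (k + 1)

instance : Epi (po N K k) := inferInstanceAs (Epi ((TX N K).pOpcycles (k + 1)))

/-- `fromOpcycles` with a clean target -/
noncomputable def fo : (TX N K).opcycles (k + 1) ⟶ N ⊗ K.X k :=
  (TX N K).fromOpcycles (k + 1) k

lemma po_fo : po N K k ≫ fo N K k = N ◁ K.d (k + 1) k :=
  HomologicalComplex.p_fromOpcycles _ _ _

lemma ι_fo : (TX N K).homologyι (k + 1) ≫ fo N K k = 0 :=
  HomologicalComplex.homologyι_comp_fromOpcycles _ _ _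

lemma ι_fo_exact :
    (ShortComplex.mk ((TX N K).homologyι (k + 1)) (fo N K k) (ι_fo N K k)).Exact :=
  ShortComplex.exact_of_f_is_kernel _ ((TX N K).homologyIsKernel (k + 1) k (by simp))

/-- `opcycles (N ⊗ K) ≅ N ⊗ opcycles K` (right exactness) -/
noncomputable def kap : (TX N K).opcycles (k + 1) ≅ N ⊗ K.opcycles (k + 1) :=
  IsColimit.coconePointUniqueUpToIso ((TX N K).opcyclesIsCokernel (k + 2) (k + 1) (by simp))
    (CokernelCofork.mapIsColimit _ (K.opcyclesIsCokernel (k + 2) (k + 1) (by simp))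
      (tensorLeft N))

lemma po_kap : po N K k ≫ (kap N K k).hom = N ◁ K.pOpcycles (k + 1) :=
  IsColimit.comp_coconePointUniqueUpToIso_hom
    ((TX N K).opcyclesIsCokernel (k + 2) (k + 1) (by simp))
    (CokernelCofork.mapIsColimit _ (K.opcyclesIsCokernel (k + 2) (k + 1) (by simp))
      (tensorLeft N)) WalkingParallelPair.one

lemma kap_hom_fo : (kap N K k).hom ≫ N ◁ K.fromOpcycles (k + 1) k = fo N K k := by
  rw [← cancel_epi (po N K k), ← Category.assoc, po_kap, po_fo,
    ← MonoidalCategory.whiskerLeft_comp, HomologicalComplex.p_fromOpcycles]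

lemma kap_inv_fo : (kap N K k).inv ≫ fo N K k = N ◁ K.fromOpcycles (k + 1) k := by
  rw [← kap_hom_fo, Iso.inv_hom_id_assoc]

/-- second kernel map: `H_{k+1}(N ⊗ K) ⟶ Ω_{k+1}(K) ⊗ N` -/
noncomputable def gam' : (TX N K).homology (k + 1) ⟶ K.opcycles (k + 1) ⊗ N :=
  (TX N K).homologyι (k + 1) ≫ (kap N K k).hom ≫ (β_ N (K.opcycles (k + 1))).hom

lemma gam'_comp : gam' N K k ≫ K.fromOpcycles (k + 1) k ▷ N = 0 := by
  rw [gam', Category.assoc, Category.assoc, ← BraidedCategory.braiding_naturality_right,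
    ← Category.assoc (kap N K k).hom, kap_hom_fo, ← Category.assoc, ι_fo, zero_comp]

instance gam'_mono : Mono (gam' N K k) := by
  rw [gam']
  infer_instance

lemma gam'_exact :
    (ShortComplex.mk (gam' N K k) (K.fromOpcycles (k + 1) k ▷ N) (gam'_comp N K k)).Exact := by
  refine exact_of_isos _ _ _ (ι_fo_exact N K k) _ _ _ (𝟙 _)
    ((β_ N (K.opcycles (k + 1))).inv ≫ (kap N K k).inv) (β_ N (K.X k)).inv ?_ ?_
  · rw [gam', Category.id_comp, Category.assoc, Category.assoc, Iso.hom_inv_id_assoc,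
      Iso.hom_inv_id, Category.comp_id]
  · rw [Category.assoc, kap_inv_fo, BraidedCategory.braiding_inv_naturality_left]

end Kap

section Gam'Nat

variable {N N' : ModuleCat.{u} R} (g : N ⟶ N') {K K' : ChainComplex (ModuleCat.{u} R) ℕ}
  (φ : K ⟶ K') (k : ℕ)

lemma po_opcyclesMap :
    po N K k ≫ HomologicalComplex.opcyclesMap (bmap g φ) (k + 1) =
      (g ▷ K.X (k + 1) ≫ N' ◁ φ.f (k + 1)) ≫ po N' K' k :=
  HomologicalComplex.p_opcyclesMap (bmap g φ) (k + 1)

lemma opcyclesMap_kap :
    HomologicalComplex.opcyclesMap (bmap g φ) (k + 1) ≫ (kap N' K' k).hom =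
      (kap N K k).hom ≫ (g ⊗ₘ HomologicalComplex.opcyclesMap φ (k + 1)) := by
  rw [← cancel_epi (po N K k), ← Category.assoc, po_opcyclesMap, Category.assoc, po_kap,
    ← Category.assoc (po N K k), po_kap, Category.assoc, ← MonoidalCategory.whiskerLeft_comp,
    ← HomologicalComplex.p_opcyclesMap, MonoidalCategory.whiskerLeft_comp,
    MonoidalCategory.tensorHom_def, ← Category.assoc, ← Category.assoc, whisker_exchange]

lemma gam'_naturality :
    HomologicalComplex.homologyMap (bmap g φ) (k + 1) ≫ gam' N' K' k =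
      gam' N K k ≫ (HomologicalComplex.opcyclesMap φ (k + 1) ⊗ₘ g) := by
  rw [gam', gam', HomologicalComplex.homologyι_naturality_assoc, Category.assoc, Category.assoc,
    ← BraidedCategory.braiding_naturality, ← Category.assoc (HomologicalComplex.opcyclesMap _ _),
    opcyclesMap_kap, Category.assoc]

end Gam'Nat

section Psi

variable {M N : ModuleCat.{u} R} (P : ProjectiveResolution M) (Q : ProjectiveResolution N)

/-- the balancing isomorphism `H_{k+1}(M ⊗ Q) ≅ H_{k+1}(N ⊗ P)` -/
noncomputable def Psi (k : ℕ) :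
    (TX M Q.complex).homology (k + 1) ≅ (TX N P.complex).homology (k + 1) :=
  kerIso (gam P Q k) (gam' N P.complex k) (P.complex.fromOpcycles (k + 1) k ▷ N)
    (gam_comp P Q k) (gam'_comp N P.complex k) (gam_exact P Q k) (gam'_exact N P.complex k)

lemma Psi_hom_gam' (k : ℕ) : (Psi P Q k).hom ≫ gam' N P.complex k = gam P Q k :=
  kerIso_hom_comp _ _ _ _ _ _ _

end Psi

section PsiNat

variable {M M' N N' : ModuleCat.{u} R} (P : ProjectiveResolution M)
  (P' : ProjectiveResolution M') (Q : ProjectiveResolution N) (Q' : ProjectiveResolution N')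
  (f : M ⟶ M') (φ : P.complex ⟶ P'.complex) (comm : φ.f 0 ≫ P'.π.f 0 = P.π.f 0 ≫ f)
  (g : N ⟶ N') (ψ : Q.complex ⟶ Q'.complex) (comm' : ψ.f 0 ≫ Q'.π.f 0 = Q.π.f 0 ≫ g)

include comm comm' in
lemma Psi_naturality (k : ℕ) :
    HomologicalComplex.homologyMap (bmap f ψ) (k + 1) ≫ (Psi P' Q' k).hom =
      (Psi P Q k).hom ≫ HomologicalComplex.homologyMap (bmap g φ) (k + 1) := by
  rw [← cancel_mono (gam' N' P'.complex k), Category.assoc, Category.assoc, Psi_hom_gam',
    gam'_naturality, ← Category.assoc, Psi_hom_gam',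
    gam_naturality P P' Q Q' f φ comm g ψ comm' k]

end PsiNat

end Groth.Agent.Lib.Helper2.TorNat
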