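import Mathlib
import Groth.Agent.Lib.Helper2.TorNat4

/-! Natural symmetry of `Tor` for modules. -/

set_option autoImplicit false
universe u

open CategoryTheory MonoidalCategory Limits
open Groth.Agent.Lib.Helper4 Groth.Agent.Lib.Helper21 Groth.Agent.Lib.Helper2.TorBalance

namespace Groth.Agent.Lib.Helper2.TorNat

variable {R : Type u} [CommRing R]

section Psi0

variable {M N : ModuleCat.{u} R} (P : ProjectiveResolution M) (Q : ProjectiveResolution N)

/-- degree zero balancing -/
noncomputable def Psi0 : (TX M Q.complex).homology 0 ≅ (TX N P.complex).homology 0 :=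
  h0Iso Q M ≪≫ β_ M N ≪≫ (h0Iso P N).symm

/-- balancing in all degrees -/
noncomputable def PsiAll : (n : ℕ) → ((TX M Q.complex).homology n ≅ (TX N P.complex).homology n)
  | 0 => Psi0 P Q
  | k + 1 => Psi P Q k

end Psi0

section Nat

variable {M M' N N' : ModuleCat.{u} R} (P : ProjectiveResolution M)
  (P' : ProjectiveResolution M') (Q : ProjectiveResolution N) (Q' : ProjectiveResolution N')
  (f : M ⟶ M') (φ : P.complex ⟶ P'.complex) (comm : φ.f 0 ≫ P'.π.f 0 = P.π.f 0 ≫ f)
  (g : N ⟶ N') (ψ : Q.complex ⟶ Q'.complex) (comm' : ψ.f 0 ≫ Q'.π.f 0 = Q.π.f 0 ≫ g)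

include comm comm' in
lemma Psi0_naturality :
    HomologicalComplex.homologyMap (bmap f ψ) 0 ≫ (Psi0 P' Q').hom =
      (Psi0 P Q).hom ≫ HomologicalComplex.homologyMap (bmap g φ) 0 := by
  have h1 := h0Iso_bmap Q Q' g ψ comm' f
  have h2 := h0Iso_bmap P P' f φ comm g
  have h3 : (g ⊗ₘ f) ≫ (h0Iso P' N').inv =
      (h0Iso P N).inv ≫ HomologicalComplex.homologyMap (bmap g φ) 0 := by
    rw [← cancel_mono (h0Iso P' N').hom, Category.assoc, Category.assoc, Iso.inv_hom_id,
      Category.comp_id, h2, Iso.inv_hom_id_assoc]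
  simp only [Psi0, Iso.trans_hom, Iso.symm_hom, Category.assoc]
  rw [← h3, ← Category.assoc, h1, Category.assoc, BraidedCategory.braiding_naturality_assoc]

include comm comm' in
lemma PsiAll_naturality (n : ℕ) :
    HomologicalComplex.homologyMap (bmap f ψ) n ≫ (PsiAll P' Q' n).hom =
      (PsiAll P Q n).hom ≫ HomologicalComplex.homologyMap (bmap g φ) n := by
  cases n with
  | zero => exact Psi0_naturality P P' Q Q' f φ comm g ψ comm'
  | succ k => exact Psi_naturality P P' Q Q' f φ comm g ψ comm' k

end Nat

section Theta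

/-- `Tor_n(M, N) ≅ H_n(M ⊗ Q_N)` with clean types -/
noncomputable def tI (n : ℕ) (M N : ModuleCat.{u} R) :
    ((Tor (ModuleCat.{u} R) n).obj M).obj N ≅
      (TX M (projectiveResolution N).complex).homology n :=
  (projectiveResolution N).isoLeftDerivedObj ((tensoringLeft (ModuleCat.{u} R)).obj M) n

lemma tI_nat_left (n : ℕ) {M M' : ModuleCat.{u} R} (f : M ⟶ M') (N : ModuleCat.{u} R) :
    ((Tor (ModuleCat.{u} R) n).map f).app N ≫ (tI n M' N).hom =
      (tI n M N).hom ≫
        HomologicalComplex.homologyMap (tmap f (projectiveResolution N).complex) n := by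
  have h1 := ProjectiveResolution.leftDerived_app_eq
    ((tensoringLeft (ModuleCat.{u} R)).map f) (projectiveResolution N) n
  change (NatTrans.leftDerived ((tensoringLeft (ModuleCat.{u} R)).map f) n).app N ≫
    ((projectiveResolution N).isoLeftDerivedObj
      ((tensoringLeft (ModuleCat.{u} R)).obj M') n).hom =
    ((projectiveResolution N).isoLeftDerivedObj
      ((tensoringLeft (ModuleCat.{u} R)).obj M) n).hom ≫
      (HomologicalComplex.homologyFunctor _ _ n).map
        ((NatTrans.mapHomologicalComplex ((tensoringLeft (ModuleCat.{u} R)).map f)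
          (ComplexShape.down ℕ)).app (projectiveResolution N).complex)
  rw [h1, Category.assoc, Category.assoc, Iso.inv_hom_id, Category.comp_id]

lemma tI_nat_right (n : ℕ) (M : ModuleCat.{u} R) {N N' : ModuleCat.{u} R} (g : N ⟶ N') :
    ((Tor (ModuleCat.{u} R) n).obj M).map g ≫ (tI n M N').hom =
      (tI n M N).hom ≫ HomologicalComplex.homologyMap
        (qmap M (ProjectiveResolution.lift g (projectiveResolution N)
          (projectiveResolution N'))) n :=
  ProjectiveResolution.isoLeftDerivedObj_hom_naturality g (projectiveResolution N)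
    (projectiveResolution N') _
    (ProjectiveResolution.lift_commutes_zero g (projectiveResolution N) (projectiveResolution N'))
    ((tensoringLeft (ModuleCat.{u} R)).obj M) n

lemma tI_inv_nat_right (n : ℕ) (M : ModuleCat.{u} R) {N N' : ModuleCat.{u} R} (g : N ⟶ N') :
    (tI n M N).inv ≫ ((Tor (ModuleCat.{u} R) n).obj M).map g =
      HomologicalComplex.homologyMap
        (qmap M (ProjectiveResolution.lift g (projectiveResolution N)
          (projectiveResolution N'))) n ≫ (tI n M N').inv := by
  rw [← cancel_mono (tI n M N').hom, Category.assoc, Category.assoc, Iso.inv_hom_id,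
    Category.comp_id, tI_nat_right, Iso.inv_hom_id_assoc]

lemma tI_inv_nat_left (n : ℕ) {M M' : ModuleCat.{u} R} (f : M ⟶ M') (N : ModuleCat.{u} R) :
    (tI n M N).inv ≫ ((Tor (ModuleCat.{u} R) n).map f).app N =
      HomologicalComplex.homologyMap (tmap f (projectiveResolution N).complex) n ≫
        (tI n M' N).inv := by
  rw [← cancel_mono (tI n M' N).hom, Category.assoc, Category.assoc, Iso.inv_hom_id,
    Category.comp_id, tI_nat_left, Iso.inv_hom_id_assoc]

/-- the isomorphism `Tor_n(M, N) ≅ Tor_n(N, M)` -/
noncomputable def Theta (n : ℕ) (M N : ModuleCat.{u} R) :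
    ((Tor (ModuleCat.{u} R) n).obj M).obj N ≅ ((Tor (ModuleCat.{u} R) n).obj N).obj M :=
  tI n M N ≪≫ PsiAll (projectiveResolution M) (projectiveResolution N) n ≪≫ (tI n N M).symm

lemma id_comm {M : ModuleCat.{u} R} (P : ProjectiveResolution M) :
    (𝟙 P.complex : P.complex ⟶ P.complex).f 0 ≫ P.π.f 0 = P.π.f 0 ≫ 𝟙 M := by
  erw [Category.id_comp]

lemma Theta_nat1 (n : ℕ) {M M' : ModuleCat.{u} R} (f : M ⟶ M') (N : ModuleCat.{u} R) :
    ((Tor (ModuleCat.{u} R) n).map f).app N ≫ (Theta n M' N).hom =
      (Theta n M N).hom ≫ ((Tor (ModuleCat.{u} R) n).obj N).map f := by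
  have h3 := PsiAll_naturality (projectiveResolution M) (projectiveResolution M')
    (projectiveResolution N) (projectiveResolution N) f
    (ProjectiveResolution.lift f (projectiveResolution M) (projectiveResolution M'))
    (ProjectiveResolution.lift_commutes_zero f _ _) (𝟙 N) (𝟙 _)
    (id_comm (projectiveResolution N)) n
  rw [bmap_id_right, bmap_id_left] at h3
  simp only [Theta, Iso.trans_hom, Iso.symm_hom, Category.assoc]
  rw [tI_inv_nat_right, ← Category.assoc, tI_nat_left, Category.assoc,
    ← Category.assoc (HomologicalComplex.homologyMap _ n), h3, Category.assoc]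

lemma Theta_nat2 (n : ℕ) (M : ModuleCat.{u} R) {N N' : ModuleCat.{u} R} (g : N ⟶ N') :
    ((Tor (ModuleCat.{u} R) n).obj M).map g ≫ (Theta n M N').hom =
      (Theta n M N).hom ≫ ((Tor (ModuleCat.{u} R) n).map g).app M := by
  have h3 := PsiAll_naturality (projectiveResolution M) (projectiveResolution M)
    (projectiveResolution N) (projectiveResolution N') (𝟙 M) (𝟙 _)
    (id_comm (projectiveResolution M)) g
    (ProjectiveResolution.lift g (projectiveResolution N) (projectiveResolution N'))
    (ProjectiveResolution.lift_commutes_zero g _ _) n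
  rw [bmap_id_right, bmap_id_left] at h3
  simp only [Theta, Iso.trans_hom, Iso.symm_hom, Category.assoc]
  rw [tI_inv_nat_left, ← Category.assoc, tI_nat_right, Category.assoc,
    ← Category.assoc (HomologicalComplex.homologyMap _ n), h3, Category.assoc]

/-- **Natural symmetry of `Tor`.** -/
noncomputable def torFlipIso (n : ℕ) :
    Tor (ModuleCat.{u} R) n ≅ (Tor (ModuleCat.{u} R) n).flip :=
  NatIso.ofComponents
    (fun M => NatIso.ofComponents (fun N => Theta n M N) (fun g => Theta_nat2 n M g))
    (fun f => by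
      apply NatTrans.ext
      funext N
      simp only [NatTrans.comp_app, NatIso.ofComponents_hom_app, Functor.flip_map_app]
      exact Theta_nat1 n f N)

end Theta

end Groth.Agent.Lib.Helper2.TorNat
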