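import Mathlib

set_option autoImplicit false
universe u

namespace Groth.Agent.Lib.Helper2.HilbZeta

open PowerSeries

variable {k : Type u} [Field k]

lemma le_order_iff_X_pow_dvd (n : ℕ) (g : PowerSeries k) :
    (n : ℕ∞) ≤ g.order ↔ (X : PowerSeries k) ^ n ∣ g := by
  rw [order_eq_emultiplicity_X, pow_dvd_iff_le_emultiplicity]

/-- division with control on the order. -/
lemma exists_eq_mul_of_order (f g : PowerSeries k) (l c : ℕ) (hf : f.order = (l : ℕ∞))
    (hg : ((l + c : ℕ) : ℕ∞) ≤ g.order) : ∃ h : PowerSeries k, g = f * h ∧ (c : ℕ∞) ≤ h.order := by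
  have hf0 : f ≠ 0 := by
    rintro rfl
    simp at hf
  obtain ⟨u, hu⟩ := isUnit_divided_by_X_pow_order hf0
  have hfe : f = X ^ l * (u : PowerSeries k) := by
    have := X_pow_order_mul_divXPowOrder (f := f)
    rw [hf] at this
    simpa [hu] using this.symm
  obtain ⟨w, hw⟩ := (le_order_iff_X_pow_dvd _ _).mp hg
  refine ⟨X ^ c * w * ((u⁻¹ : (PowerSeries k)ˣ) : PowerSeries k), ?_, ?_⟩
  · rw [hw, hfe, pow_add]
    have : (u : PowerSeries k) * ((u⁻¹ : (PowerSeries k)ˣ) : PowerSeries k) = 1 := by simp
    calc X ^ l * X ^ c * w = X ^ l * X ^ c * w * ((u : PowerSeries k) * ((u⁻¹ : (PowerSeries k)ˣ) : PowerSeries k)) := by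
          rw [this, mul_one]
      _ = _ := by ring
  · rw [mul_assoc, order_mul, order_X_pow]
    exact le_self_add

section
variable {s : ℕ} (R : Subalgebra k (Fin s → PowerSeries k)) (c : Fin s → ℕ)
  (hc : ∀ f : Fin s → PowerSeries k,
      (∀ g : Fin s → PowerSeries k, g * f ∈ R) ↔ ∀ i, ((c i : ℕ) : ℕ∞) ≤ (f i).order)

include hc

lemma mem_of_le_order (f : Fin s → PowerSeries k) (hf : ∀ i, ((c i : ℕ) : ℕ∞) ≤ (f i).order) :
    f ∈ R := by
  have := (hc f).mpr hf 1
  simpa using this

lemma single_mem (j : Fin s) (p : PowerSeries k) (hp : ((c j : ℕ) : ℕ∞) ≤ p.order) :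
    Pi.single j p ∈ R := by
  apply mem_of_le_order R c hc
  intro i
  by_cases hij : i = j
  · subst hij
    simpa using hp
  · rw [Pi.single_eq_of_ne hij]
    simp

/-- `F^{l+c} ⊆ J` if `J` has elements with exact order `l i` at each branch. -/
lemma mem_ideal_of_order (J : Ideal ↥R) (l : Fin s → ℕ)
    (hl : ∀ i : Fin s, ∃ f ∈ J, ((f : Fin s → PowerSeries k) i).order = ((l i : ℕ) : ℕ∞))
    (g : Fin s → PowerSeries k) (hg : ∀ i : Fin s, ((l i + c i : ℕ) : ℕ∞) ≤ (g i).order) :
    ∃ hgR : g ∈ R, (⟨g, hgR⟩ : ↥R) ∈ J := by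
  classical
  have key : ∀ i : Fin s, ∃ x ∈ J, (x : Fin s → PowerSeries k) = Pi.single i (g i) := by
    intro i
    obtain ⟨f, hfJ, hfo⟩ := hl i
    obtain ⟨h, hgh, hho⟩ := exists_eq_mul_of_order _ (g i) (l i) (c i) hfo (hg i)
    have hmem : Pi.single i h ∈ R := single_mem R c hc i h hho
    refine ⟨f * ⟨Pi.single i h, hmem⟩, J.mul_mem_right _ hfJ, ?_⟩
    funext t
    simp only [Subalgebra.coe_mul, Pi.mul_apply]
    by_cases hti : t = i
    · subst hti
      simp [hgh]
    · simp [Pi.single_eq_of_ne hti]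
  choose x hxJ hx using key
  have hsum : ((∑ i, x i : ↥R) : Fin s → PowerSeries k) = g := by
    rw [AddSubmonoidClass.coe_finsetSum]
    simp only [hx]
    exact Finset.univ_sum_single g
  have hgR : g ∈ R := hsum ▸ (∑ i, x i : ↥R).2
  refine ⟨hgR, ?_⟩
  have : (⟨g, hgR⟩ : ↥R) = ∑ i, x i := Subtype.ext hsum.symm
  rw [this]
  exact J.sum_mem (fun i _ => hxJ i)

end

section
variable {s : ℕ} (R : Subalgebra k (Fin s → PowerSeries k))

/-- the evaluation at a branch. -/
noncomputable abbrev evB (i : Fin s) : ↥R →ₐ[k] PowerSeries k :=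
  (Pi.evalAlgHom k (fun _ : Fin s => PowerSeries k) i).comp R.val

lemma le_order_of_map_eq (I : Ideal ↥R) (i : Fin s) (a : ℕ)
    (ha : Ideal.map (evB R i) I = Ideal.span {(X : PowerSeries k) ^ a}) (f : ↥R) (hf : f ∈ I) :
    (a : ℕ∞) ≤ ((f : Fin s → PowerSeries k) i).order := by
  have h1 : evB R i f ∈ Ideal.map (evB R i) I := Ideal.mem_map_of_mem _ hf
  rw [ha, Ideal.mem_span_singleton] at h1
  exact (le_order_iff_X_pow_dvd _ _).mpr h1

lemma exists_order_eq_of_map_eq (I : Ideal ↥R) (i : Fin s) (a : ℕ)
    (ha : Ideal.map (evB R i) I = Ideal.span {(X : PowerSeries k) ^ a}) :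
    ∃ f ∈ I, ((f : Fin s → PowerSeries k) i).order = (a : ℕ∞) := by
  by_contra hcon
  push Not at hcon
  have h1 : Ideal.map (evB R i) I ≤ Ideal.span {(X : PowerSeries k) ^ (a + 1)} := by
    rw [Ideal.map_le_iff_le_comap]
    intro f hf
    rw [Ideal.mem_comap, Ideal.mem_span_singleton, ← le_order_iff_X_pow_dvd]
    have h2 := le_order_of_map_eq R I i a ha f hf
    have h3 := hcon f hf
    change ((a + 1 : ℕ) : ℕ∞) ≤ ((f : Fin s → PowerSeries k) i).order
    rw [Nat.cast_add, Nat.cast_one]
    exact Order.add_one_le_of_lt (lt_of_le_of_ne h2 (Ne.symm h3))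
  rw [ha, Ideal.span_singleton_le_span_singleton, ← le_order_iff_X_pow_dvd, order_X_pow] at h1
  have : (a + 1 : ℕ) ≤ a := by exact_mod_cast h1
  omega

end

section Colength

variable {s : ℕ}

/-- colength of a `k`-subspace of the product of power series rings. -/
noncomputable def cl (W : Submodule k (Fin s → PowerSeries k)) : ℕ∞ :=
  Module.length k ((Fin s → PowerSeries k) ⧸ W)

lemma length_eq_natCast_iff (M : Type*) [AddCommGroup M] [Module k M] (d : ℕ) :
    Module.length k M = (d : ℕ∞) ↔ Module.Finite k M ∧ Module.finrank k M = d := by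
  constructor
  · intro h
    have hne : Module.length k M ≠ ⊤ := by rw [h]; exact ENat.natCast_ne_top d
    have hfl : IsFiniteLength k M := Module.length_ne_top_iff.mp hne
    have hN : IsNoetherian k M := (isFiniteLength_iff_isNoetherian_isArtinian.mp hfl).1
    have hfin : Module.Finite k M := inferInstance
    refine ⟨hfin, ?_⟩
    rw [Module.length_eq_finrank] at h
    exact_mod_cast h
  · rintro ⟨hfin, h⟩
    rw [Module.length_eq_finrank, h]

/-- exact sequence `0 → O/W → O/μW → O/range μ → 0`. -/
lemma cl_map_of_injective (μ : (Fin s → PowerSeries k) →ₗ[k] (Fin s → PowerSeries k))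
    (hμ : Function.Injective μ) (W : Submodule k (Fin s → PowerSeries k)) :
    cl (W.map μ) = cl W + cl (LinearMap.range μ) := by
  have hle1 : W ≤ (W.map μ).comap μ := Submodule.le_comap_map _ _
  have hle2 : W.map μ ≤ (LinearMap.range μ).comap LinearMap.id := by
    rintro _ ⟨x, -, rfl⟩
    exact ⟨x, rfl⟩
  unfold cl
  refine Module.length_eq_add_of_exact (Submodule.mapQ W (W.map μ) μ hle1)
    (Submodule.mapQ (W.map μ) (LinearMap.range μ) LinearMap.id hle2) ?_ ?_ ?_
  · rw [injective_iff_map_eq_zero]
    intro x hx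
    obtain ⟨x, rfl⟩ := Submodule.Quotient.mk_surjective _ x
    rw [Submodule.mapQ_apply, Submodule.Quotient.mk_eq_zero] at hx
    obtain ⟨y, hy, hxy⟩ := hx
    rw [Submodule.Quotient.mk_eq_zero, ← hμ hxy]
    exact hy
  · intro x
    obtain ⟨x, rfl⟩ := Submodule.Quotient.mk_surjective _ x
    exact ⟨Submodule.Quotient.mk x, rfl⟩
  · intro x
    obtain ⟨x, rfl⟩ := Submodule.Quotient.mk_surjective _ x
    rw [Submodule.mapQ_apply, Submodule.Quotient.mk_eq_zero]
    constructor
    · rintro ⟨y, hy⟩
      refine ⟨Submodule.Quotient.mk y, ?_⟩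
      rw [Submodule.mapQ_apply]
      exact congrArg _ hy
    · rintro ⟨y, hy⟩
      obtain ⟨y, rfl⟩ := Submodule.Quotient.mk_surjective _ y
      rw [Submodule.mapQ_apply, Submodule.Quotient.eq] at hy
      obtain ⟨z, -, hz⟩ := hy
      refine ⟨y - z, ?_⟩
      rw [map_sub, hz]
      simp

lemma cl_anti {A B : Submodule k (Fin s → PowerSeries k)} (h : A ≤ B) : cl B ≤ cl A := by
  unfold cl
  refine Module.length_le_of_surjective (Submodule.mapQ A B LinearMap.id h) ?_
  intro x
  obtain ⟨x, rfl⟩ := Submodule.Quotient.mk_surjective _ x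
  exact ⟨Submodule.Quotient.mk x, rfl⟩

lemma eq_of_le_of_cl_eq {A B : Submodule k (Fin s → PowerSeries k)} (h : A ≤ B)
    (hcl : cl A = cl B) (hfin : cl B ≠ ⊤) : A = B := by
  refine le_antisymm h ?_
  set π := Submodule.mapQ A B LinearMap.id h with hπ
  have hsurj : Function.Surjective π := by
    intro x
    obtain ⟨x, rfl⟩ := Submodule.Quotient.mk_surjective _ x
    exact ⟨Submodule.Quotient.mk x, rfl⟩
  have hlen := Module.length_eq_add_of_exact (LinearMap.ker π).subtype π
    (Submodule.subtype_injective _) hsurj (LinearMap.exact_subtype_ker_map π)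
  unfold cl at hcl hfin
  rw [hcl] at hlen
  have h0 : Module.length k (LinearMap.ker π) = 0 := by
    generalize Module.length k (LinearMap.ker π) = x at hlen
    generalize Module.length k ((Fin s → PowerSeries k) ⧸ B) = b at hlen hfin
    lift b to ℕ using hfin
    cases x with
    | top => simp at hlen
    | coe n =>
      have : b = n + b := by exact_mod_cast hlen
      have hn : n = 0 := by omega
      simp [hn]
  rw [Module.length_eq_zero_iff] at h0
  intro b hb
  have hb' : (Submodule.Quotient.mk b : (Fin s → PowerSeries k) ⧸ A) ∈ LinearMap.ker π := by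
    rw [LinearMap.mem_ker, hπ, Submodule.mapQ_apply, Submodule.Quotient.mk_eq_zero]
    exact hb
  have := congrArg Subtype.val (Subsingleton.elim (⟨_, hb'⟩ : LinearMap.ker π) 0)
  simpa [Submodule.Quotient.mk_eq_zero] using this

/-- the element `ξ_j`. -/
noncomputable abbrev xi (j : Fin s) : Fin s → PowerSeries k := Pi.mulSingle j PowerSeries.X

lemma xi_ne_zero (j i : Fin s) : (xi (k := k) j) i ≠ 0 := by
  by_cases h : i = j
  · subst h
    simp [xi, PowerSeries.X_ne_zero]
  · simp [xi, Pi.mulSingle_eq_of_ne h]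

/-- multiplication by `ξ_j`. -/
noncomputable def mulXi (j : Fin s) : (Fin s → PowerSeries k) →ₗ[k] (Fin s → PowerSeries k) :=
  LinearMap.mulLeft k (xi j)

@[simp] lemma mulXi_apply (j : Fin s) (f : Fin s → PowerSeries k) : mulXi j f = xi j * f := rfl

lemma mulXi_injective (j : Fin s) : Function.Injective (mulXi (k := k) j) := by
  intro f g hfg
  funext i
  have := congrFun hfg i
  simp only [mulXi_apply, Pi.mul_apply] at this
  exact mul_left_cancel₀ (xi_ne_zero j i) this

lemma cl_range_mulXi (j : Fin s) : cl (LinearMap.range (mulXi (k := k) j)) = 1 := by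
  classical
  let ε : (Fin s → PowerSeries k) →ₗ[k] k :=
    { toFun := fun f => PowerSeries.constantCoeff (f j)
      map_add' := by intro f g; simp
      map_smul' := by intro c f; simp }
  have hε : Function.Surjective ε := by
    intro c
    refine ⟨fun _ => PowerSeries.C c, ?_⟩
    simp [ε]
  have hker : LinearMap.ker ε = LinearMap.range (mulXi (k := k) j) := by
    ext f
    rw [LinearMap.mem_ker, LinearMap.mem_range]
    constructor
    · intro hf
      have hf' : PowerSeries.constantCoeff (f j) = 0 := hf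
      obtain ⟨w, hw⟩ := PowerSeries.X_dvd_iff.mpr hf'
      refine ⟨Function.update f j w, ?_⟩
      funext i
      by_cases hij : i = j
      · subst hij
        simp [xi, hw]
      · simp [xi, Pi.mulSingle_eq_of_ne hij, Function.update_of_ne hij]
    · rintro ⟨g, rfl⟩
      change PowerSeries.constantCoeff (mulXi j g j) = 0
      simp [xi]
  unfold cl
  rw [← hker, (LinearMap.quotKerEquivOfSurjective ε hε).length_eq, Module.length_eq_finrank,
    Module.finrank_self]
  rfl

lemma cl_map_mulXi (j : Fin s) (W : Submodule k (Fin s → PowerSeries k)) :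
    cl (W.map (mulXi j)) = cl W + 1 := by
  rw [cl_map_of_injective _ (mulXi_injective j), cl_range_mulXi]

variable (R : Subalgebra k (Fin s → PowerSeries k))

/-- the image in `O` of an ideal of `R`. -/
noncomputable def idealImage (I : Ideal ↥R) : Submodule k (Fin s → PowerSeries k) :=
  (I.restrictScalars k).map R.val.toLinearMap

lemma mem_idealImage (I : Ideal ↥R) (f : Fin s → PowerSeries k) :
    f ∈ idealImage R I ↔ ∃ hf : f ∈ R, (⟨f, hf⟩ : ↥R) ∈ I := by
  unfold idealImage
  rw [Submodule.mem_map]
  constructor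
  · rintro ⟨x, hx, rfl⟩
    exact ⟨x.2, hx⟩
  · rintro ⟨hf, h⟩
    exact ⟨⟨f, hf⟩, h, rfl⟩

lemma idealImage_le (I : Ideal ↥R) : idealImage R I ≤ Subalgebra.toSubmodule R := by
  intro f hf
  obtain ⟨hf', -⟩ := (mem_idealImage R I f).mp hf
  exact hf'

/-- `0 → R/I → O/I → O/R → 0`. -/
lemma cl_idealImage (I : Ideal ↥R) :
    cl (idealImage R I) = Module.length k (↥R ⧸ I) + cl (Subalgebra.toSubmodule R) := by
  rw [← (Submodule.Quotient.restrictScalarsEquiv k I).length_eq]
  have hle1 : I.restrictScalars k ≤ (idealImage R I).comap R.val.toLinearMap :=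
    Submodule.le_comap_map _ _
  have hle2 : idealImage R I ≤ (Subalgebra.toSubmodule R).comap LinearMap.id := idealImage_le R I
  unfold cl
  refine Module.length_eq_add_of_exact
    (Submodule.mapQ (I.restrictScalars k) (idealImage R I) R.val.toLinearMap hle1)
    (Submodule.mapQ (idealImage R I) (Subalgebra.toSubmodule R) LinearMap.id hle2) ?_ ?_ ?_
  · rw [injective_iff_map_eq_zero]
    intro x hx
    obtain ⟨x, rfl⟩ := Submodule.Quotient.mk_surjective _ x
    rw [Submodule.mapQ_apply, Submodule.Quotient.mk_eq_zero, mem_idealImage] at hx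
    obtain ⟨hf, h⟩ := hx
    rw [Submodule.Quotient.mk_eq_zero]
    exact h
  · intro x
    obtain ⟨x, rfl⟩ := Submodule.Quotient.mk_surjective _ x
    exact ⟨Submodule.Quotient.mk x, rfl⟩
  · intro x
    obtain ⟨x, rfl⟩ := Submodule.Quotient.mk_surjective _ x
    rw [Submodule.mapQ_apply, Submodule.Quotient.mk_eq_zero]
    constructor
    · intro hx
      refine ⟨Submodule.Quotient.mk ⟨x, hx⟩, ?_⟩
      rw [Submodule.mapQ_apply]
      rfl
    · rintro ⟨y, hy⟩
      obtain ⟨y, rfl⟩ := Submodule.Quotient.mk_surjective _ y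
      rw [Submodule.mapQ_apply, Submodule.Quotient.eq] at hy
      have h1 : R.val.toLinearMap y - x ∈ Subalgebra.toSubmodule R := idealImage_le R I hy
      have h2 : (y : Fin s → PowerSeries k) ∈ Subalgebra.toSubmodule R := y.2
      have : x = (y : Fin s → PowerSeries k) - (R.val.toLinearMap y - x) := by
        simp
      change x ∈ Subalgebra.toSubmodule R
      rw [this]
      exact Submodule.sub_mem _ h2 h1

end Colength

section Strata

open scoped Pointwise

variable {s : ℕ} (R : Subalgebra k (Fin s → PowerSeries k)) (c : Fin s → ℕ)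
  (hc : ∀ f : Fin s → PowerSeries k,
      (∀ g : Fin s → PowerSeries k, g * f ∈ R) ↔ ∀ i, ((c i : ℕ) : ℕ∞) ≤ (f i).order)

include hc in
lemma xi_mul_mem (j : Fin s) (f : Fin s → PowerSeries k) (hf : f ∈ R)
    (hfo : ((c j : ℕ) : ℕ∞) ≤ (f j).order) : xi j * f ∈ R := by
  classical
  have h1 : xi j * f = f + Pi.single j ((PowerSeries.X - 1) * f j) := by
    funext i
    by_cases hij : i = j
    · subst hij
      simp [xi]
      ring
    · simp [xi, Pi.mulSingle_eq_of_ne hij, Pi.single_eq_of_ne hij]
  rw [h1]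
  refine R.add_mem hf (single_mem R c hc j _ ?_)
  rw [PowerSeries.order_mul]
  exact le_add_left hfo

include hc in
lemma exists_div_xi (j : Fin s) (y : Fin s → PowerSeries k) (hy : y ∈ R)
    (hyo : ((c j + 1 : ℕ) : ℕ∞) ≤ (y j).order) : ∃ x ∈ R, xi j * x = y := by
  classical
  obtain ⟨w, hw⟩ : PowerSeries.X ∣ y j := by
    have := (le_order_iff_X_pow_dvd _ _).mp hyo
    exact dvd_trans (dvd_pow_self _ (by omega)) this
  have hwo : ((c j : ℕ) : ℕ∞) ≤ w.order := by
    rw [hw, PowerSeries.order_mul, PowerSeries.order_X, Nat.cast_add, Nat.cast_one,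
      add_comm (1 : ℕ∞)] at hyo
    exact (ENat.add_le_add_iff_right ENat.one_ne_top).mp hyo
  have h1 : Function.update y j w = y + Pi.single j (w - y j) := by
    funext i
    by_cases hij : i = j
    · subst hij
      simp
    · simp [Function.update_of_ne hij, Pi.single_eq_of_ne hij]
  refine ⟨Function.update y j w, ?_, ?_⟩
  · rw [h1]
    refine R.add_mem hy (single_mem R c hc j _ ?_)
    rw [sub_eq_add_neg]
    refine le_trans ?_ (PowerSeries.min_order_le_order_add _ _)
    rw [PowerSeries.order_neg]
    refine le_min hwo ?_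
    refine le_trans ?_ hyo
    exact_mod_cast Nat.le_succ _
  · funext i
    by_cases hij : i = j
    · subst hij
      simp [xi, hw]
    · simp [xi, Pi.mulSingle_eq_of_ne hij, Function.update_of_ne hij]

variable {R}

/-- consequences of `J = ξ_j I` on the branch ideals. -/
lemma map_evB_of_image_eq (j : Fin s) (I J : Ideal ↥R)
    (h : (Subtype.val '' (J : Set ↥R)) =
      (fun f => Pi.mulSingle j PowerSeries.X * f) '' (Subtype.val '' (I : Set ↥R))) (i : Fin s) :
    Ideal.map (evB R i) J =
      Ideal.span ({xi (k := k) j i} : Set (PowerSeries k)) * Ideal.map (evB R i) I := by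
  have hset : (evB R i) '' (J : Set ↥R) =
      ({xi (k := k) j i} : Set (PowerSeries k)) * ((evB R i) '' (I : Set ↥R)) := by
    ext p
    rw [Set.singleton_mul]
    constructor
    · rintro ⟨y, hy, rfl⟩
      have : (y : Fin s → PowerSeries k) ∈ Subtype.val '' (J : Set ↥R) := ⟨y, hy, rfl⟩
      rw [h] at this
      obtain ⟨_, ⟨x, hx, rfl⟩, hxy⟩ := this
      refine ⟨evB R i x, ⟨x, hx, rfl⟩, ?_⟩
      have := congrFun hxy i
      exact this
    · rintro ⟨_, ⟨x, hx, rfl⟩, rfl⟩
      have : (fun f => Pi.mulSingle j PowerSeries.X * f) (x : Fin s → PowerSeries k) ∈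
          Subtype.val '' (J : Set ↥R) := by
        rw [h]
        exact ⟨_, ⟨x, hx, rfl⟩, rfl⟩
      obtain ⟨y, hy, hyx⟩ := this
      refine ⟨y, hy, ?_⟩
      have := congrFun hyx i
      exact this
  unfold Ideal.map
  rw [hset, ← Ideal.span_mul_span']

lemma idealImage_of_image_eq (j : Fin s) (I J : Ideal ↥R)
    (h : (Subtype.val '' (J : Set ↥R)) =
      (fun f => Pi.mulSingle j PowerSeries.X * f) '' (Subtype.val '' (I : Set ↥R))) :
    idealImage R J = (idealImage R I).map (mulXi j) := by
  apply SetLike.coe_injective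
  have h1 : ∀ K : Ideal ↥R, ((idealImage R K : Submodule k _) : Set (Fin s → PowerSeries k)) =
      Subtype.val '' (K : Set ↥R) := by
    intro K
    ext f
    simp only [SetLike.mem_coe, mem_idealImage, Set.mem_image, Subtype.exists, exists_and_right,
      exists_eq_right]
  rw [Submodule.map_coe, h1, h1, h]
  rfl

lemma length_of_image_eq (hfin : Module.Finite k ((Fin s → PowerSeries k) ⧸ Subalgebra.toSubmodule R))
    (j : Fin s) (I J : Ideal ↥R)
    (h : (Subtype.val '' (J : Set ↥R)) =
      (fun f => Pi.mulSingle j PowerSeries.X * f) '' (Subtype.val '' (I : Set ↥R))) :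
    Module.length k (↥R ⧸ J) = Module.length k (↥R ⧸ I) + 1 := by
  have h1 := cl_idealImage R J
  rw [idealImage_of_image_eq j I J h, cl_map_mulXi, cl_idealImage R I] at h1
  have hδ : cl (Subalgebra.toSubmodule R) ≠ ⊤ := by
    unfold cl
    rw [Module.length_eq_finrank]
    exact ENat.natCast_ne_top _
  generalize cl (Subalgebra.toSubmodule R) = δ at h1 hδ
  lift δ to ℕ using hδ
  generalize Module.length k (↥R ⧸ J) = x at h1 ⊢
  generalize Module.length k (↥R ⧸ I) = y at h1 ⊢
  cases x with
  | top =>
    cases y with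
    | top => rfl
    | coe m =>
      exfalso
      have : ((m + δ + 1 : ℕ) : ℕ∞) = ⊤ := by
        push_cast
        rw [h1]; rfl
      exact ENat.natCast_ne_top _ this
  | coe n =>
    cases y with
    | top =>
      exfalso
      have : ((n + δ : ℕ) : ℕ∞) = ⊤ := by
        push_cast
        rw [← h1]; rfl
      exact ENat.natCast_ne_top _ this
    | coe m =>
      have : m + δ + 1 = n + δ := by exact_mod_cast h1
      have : n = m + 1 := by omega
      rw [this]
      rfl

end Strata

section Filtration

variable {s : ℕ}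

/-- the subspace `F^a` of tuples with `v_i ≥ a_i`. -/
noncomputable def Fil (a : Fin s → ℕ) : Submodule k (Fin s → PowerSeries k) :=
  Submodule.pi Set.univ (fun i => (Ideal.span {(X : PowerSeries k) ^ (a i)}).restrictScalars k)

lemma mem_Fil (a : Fin s → ℕ) (f : Fin s → PowerSeries k) :
    f ∈ Fil a ↔ ∀ i, ((a i : ℕ) : ℕ∞) ≤ (f i).order := by
  unfold Fil
  simp only [Submodule.mem_pi, Set.mem_univ, Submodule.restrictScalars_mem,
    Ideal.mem_span_singleton, forall_true_left, le_order_iff_X_pow_dvd]

lemma Fil_update (a : Fin s → ℕ) (j : Fin s) :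
    Fil (k := k) (Function.update a j (a j + 1)) = (Fil a).map (mulXi j) := by
  classical
  ext g
  rw [Submodule.mem_map, mem_Fil]
  constructor
  · intro hg
    have hgj := hg j
    rw [Function.update_self, le_order_iff_X_pow_dvd] at hgj
    obtain ⟨w, hw⟩ := hgj
    refine ⟨Function.update g j (X ^ (a j) * w), ?_, ?_⟩
    · rw [mem_Fil]
      intro i
      by_cases hij : i = j
      · subst hij
        rw [Function.update_self, le_order_iff_X_pow_dvd]
        exact Dvd.intro _ rfl
      · have := hg i
        rw [Function.update_of_ne hij] at this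
        rwa [Function.update_of_ne hij]
    · funext i
      by_cases hij : i = j
      · subst hij
        simp [xi, hw, pow_succ']
        ring
      · simp [xi, Pi.mulSingle_eq_of_ne hij, Function.update_of_ne hij]
  · rintro ⟨f, hf, rfl⟩
    rw [mem_Fil] at hf
    intro i
    rw [mulXi_apply, Pi.mul_apply, PowerSeries.order_mul]
    by_cases hij : i = j
    · subst hij
      rw [Function.update_self]
      simp only [xi, Pi.mulSingle_eq_same, PowerSeries.order_X, Nat.cast_add, Nat.cast_one]
      rw [add_comm (1 : ℕ∞)]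
      exact add_le_add_left (hf i) 1
    · rw [Function.update_of_ne hij]
      exact le_add_left (hf i)

lemma cl_Fil (a : Fin s → ℕ) : cl (Fil (k := k) a) = ((∑ i, a i : ℕ) : ℕ∞) := by
  classical
  suffices h : ∀ (n : ℕ) (a : Fin s → ℕ), ∑ i, a i = n → cl (Fil (k := k) a) = (n : ℕ∞) from
    h _ a rfl
  intro n
  induction n with
  | zero =>
    intro a ha
    have ha0 : ∀ i, a i = 0 := by
      intro i
      have := (Finset.sum_eq_zero_iff.mp ha) i (Finset.mem_univ i)
      exact this
    have : Fil (k := k) a = ⊤ := by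
      rw [eq_top_iff]
      intro f _
      rw [mem_Fil]
      intro i
      rw [ha0 i]
      simp
    rw [this]
    unfold cl
    rw [Nat.cast_zero, Module.length_eq_zero_iff]
    infer_instance
  | succ n ih =>
    intro a ha
    obtain ⟨j, hj⟩ : ∃ j, a j ≠ 0 := by
      by_contra hcon
      push Not at hcon
      have : ∑ i, a i = 0 := Finset.sum_eq_zero (fun i _ => hcon i)
      omega
    set a' := Function.update a j (a j - 1) with ha'
    have haa' : a = Function.update a' j (a' j + 1) := by
      rw [ha', Function.update_self, Function.update_idem]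
      have : a j - 1 + 1 = a j := by omega
      rw [this, Function.update_eq_self]
    have hsum : ∑ i, a' i = n := by
      have h1 : ∑ i, a' i = (a j - 1) + ∑ i ∈ Finset.univ \ {j}, a i := by
        rw [ha', Finset.sum_update_of_mem (Finset.mem_univ j)]
      have h2 : ∑ i, a i = a j + ∑ i ∈ Finset.univ \ {j}, a i :=
        Finset.sum_eq_add_sum_sdiff_singleton_of_mem (Finset.mem_univ j) a
      omega
    rw [haa', Fil_update, cl_map_mulXi, ih a' hsum]
    push_cast
    rfl

end Filtration

end Groth.Agent.Lib.Helper2.HilbZeta
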