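import Mathlib
import Groth.Prelude.Def_DerCA

/-!
# Pro-systems indexed by ℕ in (pre)triangulated categories (helper2)

* `exists_iso_biprod_of_retraction`: a split monomorphism with chosen retraction in a pretriangulated
  category gives a biproduct decomposition with prescribed `inl` and `fst`.
-/

set_option autoImplicit false
universe v u
open CategoryTheory CategoryTheory.Limits Opposite CategoryTheory.Pretriangulated

namespace Groth.Agent.Lib.Helper2.ProSys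


section Pro

variable {C : Type u} [Category.{v} C]

lemma tr_comp (X : ARSys.PS C) {a b d : ℕ} (hab : a ≤ b) (hbd : b ≤ d) :
    ARSys.tr X hbd ≫ ARSys.tr X hab = ARSys.tr X (hab.trans hbd) := by
  dsimp [ARSys.tr]
  rw [← X.map_comp]
  rfl

lemma tr_comp_assoc (X : ARSys.PS C) {a b d : ℕ} (hab : a ≤ b) (hbd : b ≤ d) {T : C}
    (φ : X.obj (op a) ⟶ T) :
    ARSys.tr X hbd ≫ ARSys.tr X hab ≫ φ = ARSys.tr X (hab.trans hbd) ≫ φ := by
  rw [← Category.assoc, tr_comp]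

lemma tr_nat {X Y : ARSys.PS C} (a : X ⟶ Y) {n m : ℕ} (h : n ≤ m) :
    a.app (op m) ≫ ARSys.tr Y h = ARSys.tr X h ≫ a.app (op n) :=
  (a.naturality (homOfLE h).op).symm

lemma tr_nat_assoc {X Y : ARSys.PS C} (a : X ⟶ Y) {n m : ℕ} (h : n ≤ m) {T : C}
    (φ : Y.obj (op n) ⟶ T) :
    a.app (op m) ≫ ARSys.tr Y h ≫ φ = ARSys.tr X h ≫ a.app (op n) ≫ φ := by
  rw [← Category.assoc, tr_nat, Category.assoc]

/-- Injectivity of `colim Hom(Y_n, T) ⟶ colim Hom(X_n, T)`, unfolded. -/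
def ProInj [HasZeroMorphisms C] {X Y : ARSys.PS C} (a : X ⟶ Y) (T : C) : Prop :=
  ∀ (n : ℕ) (ψ : Y.obj (op n) ⟶ T), a.app (op n) ≫ ψ = 0 →
    ∃ (m : ℕ) (h : n ≤ m), ARSys.tr Y h ≫ ψ = 0

/-- Surjectivity of `colim Hom(Y_n, T) ⟶ colim Hom(X_n, T)`, unfolded. -/
def ProSurj {X Y : ARSys.PS C} (a : X ⟶ Y) (T : C) : Prop :=
  ∀ (n : ℕ) (φ : X.obj (op n) ⟶ T),
    ∃ (m : ℕ) (h : n ≤ m) (ψ : Y.obj (op m) ⟶ T), a.app (op m) ≫ ψ = ARSys.tr X h ≫ φ

lemma proInj_of_isProIso [HasZeroMorphisms C] {X Y : ARSys.PS C} {a : X ⟶ Y} (ha : DerCA.IsProIso a)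
    (T : C) : ProInj a T := by
  intro n ψ hψ
  obtain ⟨m, h, b, -, hb⟩ := ha n
  refine ⟨m, h, ?_⟩
  rw [← hb, Category.assoc, hψ, comp_zero]

lemma proSurj_of_isProIso {X Y : ARSys.PS C} {a : X ⟶ Y} (ha : DerCA.IsProIso a)
    (T : C) : ProSurj a T := by
  intro n φ
  obtain ⟨m, h, b, hb, -⟩ := ha n
  exact ⟨m, h, b ≫ φ, by rw [← Category.assoc, hb]⟩

lemma isProIso_of_proInj_proSurj [Preadditive C] {X Y : ARSys.PS C} (a : X ⟶ Y)
    (hi : ∀ T, ProInj a T) (hs : ∀ T, ProSurj a T) : DerCA.IsProIso a := by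
  intro n
  obtain ⟨m, h, b, hb⟩ := hs _ n (𝟙 _)
  rw [Category.comp_id] at hb
  have h0 : a.app (op m) ≫ (b ≫ a.app (op n) - ARSys.tr Y h) = 0 := by
    rw [Preadditive.comp_sub, ← Category.assoc, hb, tr_nat, sub_self]
  obtain ⟨m', h', hm'⟩ := hi _ m _ h0
  refine ⟨m', h.trans h', ARSys.tr Y h' ≫ b, ?_, ?_⟩
  · rw [← Category.assoc, tr_nat, Category.assoc, hb, tr_comp]
  · rw [Preadditive.comp_sub, sub_eq_zero, tr_comp] at hm'
    rw [Category.assoc, hm']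

lemma isProIso_whiskerRight {E : Type*} [Category E] {X Y : ARSys.PS C} {a : X ⟶ Y}
    (ha : DerCA.IsProIso a) (F : C ⥤ E) : DerCA.IsProIso (Functor.whiskerRight a F) := by
  intro n
  obtain ⟨m, h, b, hb1, hb2⟩ := ha n
  refine ⟨m, h, F.map b, ?_, ?_⟩
  · dsimp [ARSys.tr] at hb1 ⊢
    rw [← F.map_comp, hb1]
  · dsimp [ARSys.tr] at hb2 ⊢
    rw [← F.map_comp, hb2]


lemma tr_const (B : C) {n m : ℕ} (h : n ≤ m) :
    ARSys.tr ((Functor.const ℕᵒᵖ).obj B) h = 𝟙 B := rfl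

lemma tr_shift (Y : ARSys.PS C) (r : ℕ) {n m : ℕ} (h : n ≤ m) :
    ARSys.tr ((ARSys.shift C r).obj Y) h = ARSys.tr Y (Nat.add_le_add_right h r) := rfl

theorem essConstant_aux (Y : ARSys.PS C) (B : C) (r : ℕ)
    (bb : ∀ n : ℕ, Y.obj (op (n + r)) ⟶ B)
    (hbn : ∀ (n k : ℕ) (h : n ≤ k), ARSys.tr Y (Nat.add_le_add_right h r) ≫ bb n = bb k)
    (m : ℕ → ℕ) (hm : ∀ n, n ≤ m n) (β : ∀ n : ℕ, B ⟶ Y.obj (op (n + r)))
    (hβ1 : ∀ n, bb (m n) ≫ β n = ARSys.tr Y (Nat.add_le_add_right (hm n) r))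
    (hsplit : ∀ n, β n ≫ bb n = 𝟙 B) :
    ∃ cB : (Functor.const ℕᵒᵖ).obj B ⟶ Y, DerCA.IsEssConstant Y B cB := by
  have hepi : ∀ n, Epi (bb n) := fun n => ⟨fun u v huv => by
    have := congrArg (fun w => β n ≫ w) huv
    simp only [← Category.assoc] at this
    rw [hsplit] at this
    simpa using this⟩
  have hbig : ∀ (n M : ℕ) (hM : m n ≤ M),
      bb M ≫ β n = ARSys.tr Y (Nat.add_le_add_right ((hm n).trans hM) r) := by
    intro n M hM
    rw [← hbn _ _ hM, Category.assoc, hβ1, tr_comp]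
  have key : ∀ {n n' : ℕ} (h : n ≤ n'), β n' ≫ ARSys.tr Y (Nat.add_le_add_right h r) = β n := by
    intro n n' h
    have := hepi (max (m n) (m n'))
    rw [← cancel_epi (bb (max (m n) (m n')))]
    rw [← Category.assoc, hbig n' _ (le_max_right _ _), hbig n _ (le_max_left _ _), tr_comp]
  refine ⟨{ app := fun j => β j.unop ≫ ARSys.tr Y (Nat.le_add_right j.unop r), naturality := ?_ }, ?_⟩
  · intro j' j φ
    have hjj : j.unop ≤ j'.unop := leOfHom φ.unop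
    have e1 : Y.map φ = ARSys.tr Y hjj := by
      congr 1
    dsimp only [Functor.const_obj_obj, Functor.const_obj_map]
    rw [Category.id_comp, e1, Category.assoc, tr_comp, ← key hjj, Category.assoc, tr_comp]
  · refine ⟨0 + r, bb 0, ?_, ?_⟩
    · dsimp only
      have : β (0 + r) ≫ ARSys.tr Y (Nat.le_add_right (0 + r) r) = β 0 :=
        key (Nat.zero_le (0 + r))
      rw [this]
      exact hsplit 0
    · intro j
      refine ⟨m j + r, Nat.add_le_add_right (Nat.zero_le _) r,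
        (Nat.le_add_right j r).trans (Nat.add_le_add_right (hm j) r), ?_⟩
      dsimp only
      rw [← Category.assoc, hbn 0 (m j) (Nat.zero_le _), ← Category.assoc, hβ1, tr_comp]

/-- A system which, after a translation, is pro-isomorphic to a constant system is essentially constant. -/
theorem essConstant_of_isProIso_const (Y : ARSys.PS C) (B : C) (r : ℕ)
    (b : (ARSys.shift C r).obj Y ⟶ (Functor.const ℕᵒᵖ).obj B) (hb : DerCA.IsProIso b) :
    ∃ cB : (Functor.const ℕᵒᵖ).obj B ⟶ Y, DerCA.IsEssConstant Y B cB := by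
  choose m hm β hβ1 hβ2 using hb
  have hbn : ∀ (n k : ℕ) (h : n ≤ k),
      ARSys.tr ((ARSys.shift C r).obj Y) h ≫ b.app (op n) = b.app (op k) := by
    intro n k h
    rw [← tr_nat b h, tr_const]
    exact Category.comp_id _
  exact essConstant_aux Y B r (fun n => b.app (op n)) hbn m hm β hβ1 hβ2


/-- The map of systems `Y[r] ⟶ const B` induced by a single map `β : Y_r ⟶ B`. -/
def coneMap (Y : ARSys.PS C) (B : C) (r : ℕ) (β : Y.obj (op r) ⟶ B) :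
    (ARSys.shift C r).obj Y ⟶ (Functor.const ℕᵒᵖ).obj B where
  app n := ARSys.tr Y (Nat.le_add_left r n.unop) ≫ β
  naturality := by
    intro n' n φ
    have hnn : n.unop ≤ n'.unop := leOfHom φ.unop
    have e1 : ((ARSys.shift C r).obj Y).map φ = ARSys.tr Y (Nat.add_le_add_right hnn r) := by
      change Y.map _ = Y.map _
      congr 1
    rw [e1]
    change ARSys.tr Y (Nat.add_le_add_right hnn r) ≫ ARSys.tr Y (Nat.le_add_left r n.unop) ≫ β =
      (ARSys.tr Y (Nat.le_add_left r n'.unop) ≫ β) ≫ 𝟙 B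
    rw [Category.comp_id, tr_comp_assoc]

lemma coneMap_app (Y : ARSys.PS C) (B : C) (r : ℕ) (β : Y.obj (op r) ⟶ B) (n : ℕ) :
    (coneMap Y B r β).app (op n) = ARSys.tr Y (Nat.le_add_left r n) ≫ β := rfl

/-- An essentially constant system maps pro-isomorphically to the constant system on its value
(after a translation). -/
theorem isProIso_coneMap_of_essConstant (X : ARSys.PS C) (A : C) (c : (Functor.const ℕᵒᵖ).obj A ⟶ X)
    (i : ℕ) (s : X.obj (op i) ⟶ A) (hs : c.app (op i) ≫ s = 𝟙 A)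
    (hk : ∀ j : ℕ, ∃ (k : ℕ) (hi : i ≤ k) (hj : j ≤ k),
      ARSys.tr X hj = ARSys.tr X hi ≫ s ≫ c.app (op j))
    (r : ℕ) (hr : i ≤ r) : DerCA.IsProIso (coneMap X A r (ARSys.tr X hr ≫ s)) := by
  have hcn : ∀ (a b : ℕ) (hab : a ≤ b), c.app (op b) ≫ ARSys.tr X hab = c.app (op a) := by
    intro a b hab
    have := c.naturality (homOfLE hab).op
    simpa using this.symm
  intro n
  obtain ⟨k, hi, hj, hk'⟩ := hk (n + r)
  have hnk : n ≤ k := (Nat.le_add_right n r).trans hj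
  refine ⟨k, hnk, c.app (op (n + r)), ?_, ?_⟩
  · change (ARSys.tr X (Nat.le_add_left r k) ≫ ARSys.tr X hr ≫ s) ≫ c.app (op (n + r)) =
      ARSys.tr X (Nat.add_le_add_right hnk r)
    have e : ARSys.tr X (Nat.add_le_add_right hnk r) = ARSys.tr X (Nat.le_add_right k r) ≫ ARSys.tr X hj := by
      rw [tr_comp]
    rw [e, hk', tr_comp_assoc, tr_comp_assoc]
    simp only [Category.assoc]
  · change c.app (op (n + r)) ≫ ARSys.tr X (Nat.le_add_left r n) ≫ ARSys.tr X hr ≫ s = 𝟙 A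
    rw [tr_comp_assoc, ← Category.assoc, hcn, hs]


lemma isProIso_of_isZero [HasZeroMorphisms C] {X Y : ARSys.PS C} (a : X ⟶ Y)
    (hX : ∀ n : ℕ, IsZero (X.obj (op n))) (hY : ∀ n : ℕ, IsZero (Y.obj (op n))) :
    DerCA.IsProIso a := by
  intro n
  exact ⟨n, le_rfl, 0, (hX n).eq_of_src _ _, (hY n).eq_of_src _ _⟩

/-- Pro-isomorphisms transfer along levelwise isomorphisms of systems. -/
lemma isProIso_of_iso_square {X Y X' Y' : ARSys.PS C} (a : X ⟶ Y) (a' : X' ⟶ Y')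
    (e : ∀ n : ℕ, X.obj (op n) ≅ X'.obj (op n)) (e' : ∀ n : ℕ, Y.obj (op n) ≅ Y'.obj (op n))
    (he : ∀ (n m : ℕ) (h : n ≤ m), ARSys.tr X h ≫ (e n).hom = (e m).hom ≫ ARSys.tr X' h)
    (he' : ∀ (n m : ℕ) (h : n ≤ m), ARSys.tr Y h ≫ (e' n).hom = (e' m).hom ≫ ARSys.tr Y' h)
    (comm : ∀ n : ℕ, a.app (op n) ≫ (e' n).hom = (e n).hom ≫ a'.app (op n))
    (ha : DerCA.IsProIso a) : DerCA.IsProIso a' := by
  intro n
  obtain ⟨m, h, b, hb1, hb2⟩ := ha n
  refine ⟨m, h, (e' m).inv ≫ b ≫ (e n).hom, ?_, ?_⟩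
  · have h1 : a'.app (op m) ≫ (e' m).inv = (e m).inv ≫ a.app (op m) := by
      rw [Iso.comp_inv_eq, Category.assoc, comm, Iso.inv_hom_id_assoc]
    rw [← Category.assoc, h1, Category.assoc, ← Category.assoc (a.app (op m)), hb1, he,
      Iso.inv_hom_id_assoc]
  · rw [Category.assoc, Category.assoc, ← comm, ← Category.assoc b, hb2, he', Iso.inv_hom_id_assoc]


/-- Variant of `isProIso_of_iso_square` with the levelwise isomorphisms in the other direction. -/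
lemma isProIso_of_iso_square' {X Y X' Y' : ARSys.PS C} (a : X ⟶ Y) (a' : X' ⟶ Y')
    (e : ∀ n : ℕ, X'.obj (op n) ≅ X.obj (op n)) (e' : ∀ n : ℕ, Y'.obj (op n) ≅ Y.obj (op n))
    (he : ∀ (n m : ℕ) (h : n ≤ m), ARSys.tr X' h ≫ (e n).hom = (e m).hom ≫ ARSys.tr X h)
    (he' : ∀ (n m : ℕ) (h : n ≤ m), ARSys.tr Y' h ≫ (e' n).hom = (e' m).hom ≫ ARSys.tr Y h)
    (comm : ∀ n : ℕ, a'.app (op n) ≫ (e' n).hom = (e n).hom ≫ a.app (op n))
    (ha : DerCA.IsProIso a) : DerCA.IsProIso a' := by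
  refine isProIso_of_iso_square a a' (fun n => (e n).symm) (fun n => (e' n).symm) ?_ ?_ ?_ ha
  · intro n m h
    dsimp only [Iso.symm_hom]
    rw [Iso.comp_inv_eq, Category.assoc, he, Iso.inv_hom_id_assoc]
  · intro n m h
    dsimp only [Iso.symm_hom]
    rw [Iso.comp_inv_eq, Category.assoc, he', Iso.inv_hom_id_assoc]
  · intro n
    dsimp only [Iso.symm_hom]
    rw [Iso.comp_inv_eq, Category.assoc, comm, Iso.inv_hom_id_assoc]


/-- Essential constancy transfers along levelwise isomorphisms of systems. -/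
lemma essConstant_of_iso {X X' : ARSys.PS C} (e : ∀ n : ℕ, X.obj (op n) ≅ X'.obj (op n))
    (he : ∀ (n m : ℕ) (h : n ≤ m), ARSys.tr X h ≫ (e n).hom = (e m).hom ≫ ARSys.tr X' h)
    (hX : ∃ (B : C) (c : (Functor.const ℕᵒᵖ).obj B ⟶ X), DerCA.IsEssConstant X B c) :
    ∃ (B : C) (c : (Functor.const ℕᵒᵖ).obj B ⟶ X'), DerCA.IsEssConstant X' B c := by
  obtain ⟨B, c, i, s, hs, hk⟩ := hX
  have hcn : ∀ (a b : ℕ) (hab : a ≤ b), c.app (op b) ≫ ARSys.tr X hab = c.app (op a) := by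
    intro a b hab
    have := c.naturality (homOfLE hab).op
    simpa using this.symm
  have he2 : ∀ (n m : ℕ) (h : n ≤ m), (e m).inv ≫ ARSys.tr X h = ARSys.tr X' h ≫ (e n).inv := by
    intro n m h
    rw [Iso.inv_comp_eq, ← Category.assoc, ← he, Category.assoc, Iso.hom_inv_id, Category.comp_id]
  refine ⟨B, { app := fun n => c.app (op n.unop) ≫ (e n.unop).hom, naturality := ?_ }, i,
    (e i).inv ≫ s, ?_, ?_⟩
  · intro n' n φ
    have hnn : n.unop ≤ n'.unop := leOfHom φ.unop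
    have e1 : X'.map φ = ARSys.tr X' hnn := by
      congr 1
    dsimp only [Functor.const_obj_obj, Functor.const_obj_map]
    rw [Category.id_comp, e1, Category.assoc, ← he, ← Category.assoc, hcn]
  · dsimp only
    rw [Category.assoc, Iso.hom_inv_id_assoc, hs]
  · intro j
    obtain ⟨k, hi, hj, hk'⟩ := hk j
    refine ⟨k, hi, hj, ?_⟩
    dsimp only
    have : ARSys.tr X' hj = (e k).inv ≫ ARSys.tr X hj ≫ (e j).hom := by
      rw [he, Iso.inv_hom_id_assoc]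
    rw [this, hk']
    simp only [Category.assoc]
    rw [← Category.assoc (ARSys.tr X' hi), ← he2]
    simp only [Category.assoc]

open ZeroObject in
lemma essConstant_of_isZero [HasZeroObject C] [HasZeroMorphisms C] (X : ARSys.PS C)
    (hX : ∀ n : ℕ, IsZero (X.obj (op n))) :
    ∃ (B : C) (c : (Functor.const ℕᵒᵖ).obj B ⟶ X), DerCA.IsEssConstant X B c := by
  refine ⟨0, { app := fun _ => 0, naturality := ?_ }, 0, 0, ?_, ?_⟩
  · intro n' n φ
    exact (isZero_zero C).eq_of_src _ _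
  · exact (isZero_zero C).eq_of_src _ _
  · intro j
    exact ⟨j, Nat.zero_le j, le_rfl, (hX j).eq_of_src _ _⟩

end Pro

section Tri

variable {D : Type u} [Category.{v} D] [Preadditive D] [HasZeroObject D] [HasShift D ℤ]
    [∀ n : ℤ, (shiftFunctor D n).Additive] [Pretriangulated D]

/-- A split monomorphism `c` with retraction `s` in a pretriangulated category: there is a complement `Z`
and an isomorphism `X ≅ A ⊞ Z` carrying `c` to `inl` and `s` to `fst`. -/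
theorem exists_iso_biprod_of_retraction {A X : D} (c : A ⟶ X) (s : X ⟶ A) (h : c ≫ s = 𝟙 A) :
    ∃ (Z : D) (e : X ≅ A ⊞ Z), c ≫ e.hom = biprod.inl ∧ e.hom ≫ biprod.fst = s := by
  obtain ⟨Z, p, w, hT⟩ := distinguished_cocone_triangle c
  have : Mono c := ⟨fun u v huv => by
    have := congrArg (· ≫ s) huv
    simpa [h] using this⟩
  have hw : (Triangle.mk c p w).mor₃ = 0 := (Triangle.mor₃_eq_zero_iff_mono₁ _ hT).2 this
  have hepi : Epi p := (Triangle.mor₃_eq_zero_iff_epi₂ _ hT).1 hw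
  have h0 : c ≫ (𝟙 X - s ≫ c) = 0 := by
    rw [Preadditive.comp_sub, ← Category.assoc, h]
    simp
  obtain ⟨inr, hinr⟩ : ∃ inr : Z ⟶ X, 𝟙 X - s ≫ c = p ≫ inr :=
    Triangle.yoneda_exact₂ _ hT (𝟙 X - s ≫ c) h0
  have hinr' : inr ≫ p = 𝟙 Z := by
    rw [← cancel_epi p, ← Category.assoc, ← hinr, Preadditive.sub_comp, Category.assoc]
    have : c ≫ p = 0 := comp_distTriang_mor_zero₁₂ _ hT
    rw [this]
    simp
  have htot : s ≫ c + p ≫ inr = 𝟙 X := by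
    rw [← hinr]
    simp
  let d := binaryBiproductData (Triangle.mk c p w) hT hw inr hinr' s htot
  have he : (biprod.uniqueUpToIso _ _ d.isBilimit).hom = (biprod.lift s p : X ⟶ A ⊞ Z) := rfl
  refine ⟨Z, biprod.uniqueUpToIso _ _ d.isBilimit, ?_, ?_⟩
  · rw [he]
    ext
    · rw [Category.assoc, biprod.lift_fst, biprod.inl_fst, h]
    · rw [Category.assoc, biprod.lift_snd, biprod.inl_snd]
      exact comp_distTriang_mor_zero₁₂ _ hT
  · rw [he]
    exact biprod.lift_fst s p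


/-- Exactness of `Hom(-, X)` at `obj₁`: a map out of `obj₁` whose shift is killed by `mor₃` extends along `mor₁`. -/
theorem yoneda_exact₁' (T : Triangle D) (hT : T ∈ distTriang D) {X : D} (φ : T.obj₁ ⟶ X)
    (hφ : T.mor₃ ≫ φ⟦(1 : ℤ)⟧' = 0) : ∃ ψ : T.obj₂ ⟶ X, φ = T.mor₁ ≫ ψ := by
  obtain ⟨ψ', hψ'⟩ : ∃ ψ' : (T.obj₂)⟦(1 : ℤ)⟧ ⟶ X⟦(1 : ℤ)⟧, φ⟦(1 : ℤ)⟧' = (-T.mor₁⟦(1 : ℤ)⟧') ≫ ψ' :=
    Triangle.yoneda_exact₂ _ (rot_of_distTriang _ (rot_of_distTriang _ hT)) (φ⟦(1 : ℤ)⟧') hφ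
  refine ⟨-(shiftFunctor D (1 : ℤ)).preimage ψ', ?_⟩
  apply (shiftFunctor D (1 : ℤ)).map_injective
  rw [hψ', Preadditive.comp_neg, Functor.map_neg, Functor.map_comp, Functor.map_preimage,
    Preadditive.neg_comp]

section TwoThree

variable {X Y Z X' Y' Z' : ARSys.PS D}
  (f : X ⟶ Y) (g : Y ⟶ Z) (h : Z ⟶ X ⋙ shiftFunctor D (1 : ℤ))
  (f' : X' ⟶ Y') (g' : Y' ⟶ Z') (h' : Z' ⟶ X' ⋙ shiftFunctor D (1 : ℤ))
  (hT : ∀ n : ℕ, Triangle.mk (f.app (op n)) (g.app (op n)) (h.app (op n)) ∈ distTriang D)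
  (hT' : ∀ n : ℕ, Triangle.mk (f'.app (op n)) (g'.app (op n)) (h'.app (op n)) ∈ distTriang D)
  (a : X ⟶ X') (b : Y ⟶ Y') (c : Z ⟶ Z')
  (h1 : ∀ n : ℕ, f.app (op n) ≫ b.app (op n) = a.app (op n) ≫ f'.app (op n))
  (h2 : ∀ n : ℕ, g.app (op n) ≫ c.app (op n) = b.app (op n) ≫ g'.app (op n))
  (h3 : ∀ n : ℕ, h.app (op n) ≫ (a.app (op n))⟦(1 : ℤ)⟧' = c.app (op n) ≫ h'.app (op n))

include hT hT' h1 h2 h3

theorem proInj_mid (T : D) (ha : ProInj a T)
    (ha1 : ProSurj (Functor.whiskerRight a (shiftFunctor D (1 : ℤ))) T) (hc : ProInj c T) :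
    ProInj b T := by
  intro n ψ hψ
  -- step 1
  obtain ⟨m, hnm, hm⟩ := ha n (f'.app (op n) ≫ ψ) (by
    rw [← Category.assoc, ← h1, Category.assoc, hψ, comp_zero])
  have hm' : f'.app (op m) ≫ (ARSys.tr Y' hnm ≫ ψ) = 0 := by
    rw [tr_nat_assoc]; exact hm
  -- step 2
  obtain ⟨χ, hχ⟩ : ∃ χ : Z'.obj (op m) ⟶ T, ARSys.tr Y' hnm ≫ ψ = g'.app (op m) ≫ χ :=
    Triangle.yoneda_exact₂ _ (hT' m) (ARSys.tr Y' hnm ≫ ψ) hm'
  -- step 3
  have h3' : g.app (op m) ≫ (c.app (op m) ≫ χ) = 0 := by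
    rw [← Category.assoc, h2, Category.assoc, ← hχ, tr_nat_assoc, hψ, comp_zero]
  obtain ⟨ω, hω⟩ : ∃ ω : (X.obj (op m))⟦(1 : ℤ)⟧ ⟶ T, c.app (op m) ≫ χ = h.app (op m) ≫ ω :=
    Triangle.yoneda_exact₃ _ (hT m) (c.app (op m) ≫ χ) h3'
  -- step 4
  obtain ⟨p, hmp, ω', hω'⟩ := ha1 m ω
  have hω'' : (a.app (op p))⟦(1 : ℤ)⟧' ≫ ω' = (ARSys.tr X hmp)⟦(1 : ℤ)⟧' ≫ ω := hω'
  -- step 5
  have h5 : c.app (op p) ≫ (ARSys.tr Z' hmp ≫ χ - h'.app (op p) ≫ ω') = 0 := by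
    rw [Preadditive.comp_sub, sub_eq_zero, tr_nat_assoc, hω, ← Category.assoc (c.app (op p)), ← h3,
      Category.assoc, hω'']
    have := tr_nat h hmp
    rw [← Category.assoc, ← this, Category.assoc]
    rfl
  -- step 6
  obtain ⟨q, hpq, hq⟩ := hc p _ h5
  rw [Preadditive.comp_sub, sub_eq_zero, tr_comp_assoc] at hq
  -- step 7
  refine ⟨q, hnm.trans (hmp.trans hpq), ?_⟩
  have e1 : ARSys.tr Y' (hnm.trans (hmp.trans hpq)) ≫ ψ =
      ARSys.tr Y' (hmp.trans hpq) ≫ ARSys.tr Y' hnm ≫ ψ := by rw [tr_comp_assoc]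
  rw [e1, hχ, ← tr_nat_assoc, hq, ← Category.assoc (ARSys.tr Z' hpq), ← tr_nat h' hpq, Category.assoc,
    ← Category.assoc]
  have : g'.app (op q) ≫ h'.app (op q) = 0 := comp_distTriang_mor_zero₂₃ _ (hT' q)
  rw [this, zero_comp]

theorem proSurj_mid (T : D) (ha : ProSurj a T) (hc1 : ProInj c (T⟦(1 : ℤ)⟧)) (hc : ProSurj c T) :
    ProSurj b T := by
  intro n φ
  -- step 1
  obtain ⟨m, hnm, ξ, hξ⟩ := ha n (f.app (op n) ≫ φ)
  -- step 2
  have h2' : c.app (op m) ≫ (h'.app (op m) ≫ ξ⟦(1 : ℤ)⟧') = 0 := by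
    rw [← Category.assoc, ← h3, Category.assoc, ← Functor.map_comp, hξ, ← tr_nat_assoc,
      Functor.map_comp, ← Category.assoc]
    have : h.app (op m) ≫ (f.app (op m))⟦(1 : ℤ)⟧' = 0 := comp_distTriang_mor_zero₃₁ _ (hT m)
    rw [this, zero_comp]
  obtain ⟨p, hmp, hp⟩ := hc1 m _ h2'
  have hp' : h'.app (op p) ≫ (ARSys.tr X' hmp ≫ ξ)⟦(1 : ℤ)⟧' = 0 := by
    rw [Functor.map_comp, ← Category.assoc]
    have := tr_nat h' hmp
    have e : ARSys.tr (X' ⋙ shiftFunctor D (1 : ℤ)) hmp = (ARSys.tr X' hmp)⟦(1 : ℤ)⟧' := rfl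
    rw [e] at this
    rw [this, Category.assoc]
    exact hp
  -- step 3
  obtain ⟨ψ₀, hψ₀⟩ : ∃ ψ₀ : Y'.obj (op p) ⟶ T, ARSys.tr X' hmp ≫ ξ = f'.app (op p) ≫ ψ₀ :=
    yoneda_exact₁' _ (hT' p) (ARSys.tr X' hmp ≫ ξ) hp'
  -- step 4
  have h4 : f.app (op p) ≫ (ARSys.tr Y (hnm.trans hmp) ≫ φ - b.app (op p) ≫ ψ₀) = 0 := by
    rw [Preadditive.comp_sub, sub_eq_zero, ← Category.assoc _ (b.app (op p)), h1, Category.assoc, ← hψ₀,
      tr_nat_assoc a, hξ, tr_comp_assoc, tr_nat_assoc f]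
  -- step 5
  obtain ⟨ζ, hζ⟩ : ∃ ζ : Z.obj (op p) ⟶ T,
      ARSys.tr Y (hnm.trans hmp) ≫ φ - b.app (op p) ≫ ψ₀ = g.app (op p) ≫ ζ :=
    Triangle.yoneda_exact₂ _ (hT p) _ h4
  -- step 6
  obtain ⟨q, hpq, ζ', hζ'⟩ := hc p ζ
  -- step 7
  refine ⟨q, hnm.trans (hmp.trans hpq), ARSys.tr Y' hpq ≫ ψ₀ + g'.app (op q) ≫ ζ', ?_⟩
  rw [Preadditive.comp_add, tr_nat_assoc b, ← Category.assoc _ (g'.app (op q)), ← h2, Category.assoc, hζ',
    tr_nat_assoc g, ← hζ, ← Preadditive.comp_add, add_sub_cancel, tr_comp_assoc]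

theorem isProIso_mid (ha : DerCA.IsProIso a) (hc : DerCA.IsProIso c) : DerCA.IsProIso b := by
  apply isProIso_of_proInj_proSurj
  · intro T
    exact proInj_mid f g h f' g' h' hT hT' a b c h1 h2 h3 T (proInj_of_isProIso ha T)
      (proSurj_of_isProIso (isProIso_whiskerRight ha _) T) (proInj_of_isProIso hc T)
  · intro T
    exact proSurj_mid f g h f' g' h' hT hT' a b c h1 h2 h3 T (proSurj_of_isProIso ha T)
      (proInj_of_isProIso hc _) (proSurj_of_isProIso hc T)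

end TwoThree


/-- In an inverse system of distinguished triangles, if the outer systems are essentially constant
then so is the middle one. -/
theorem essConstant_mid {D : Type u} [Category.{v} D] [Preadditive D] [HasZeroObject D] [HasShift D ℤ]
    [∀ n : ℤ, (shiftFunctor D n).Additive] [Pretriangulated D]
    (X Y Z : ARSys.PS D) (f : X ⟶ Y) (g : Y ⟶ Z) (h : Z ⟶ X ⋙ shiftFunctor D (1 : ℤ))
    (hT : ∀ n : ℕ, Triangle.mk (f.app (op n)) (g.app (op n)) (h.app (op n)) ∈ distinguishedTriangles)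
    (A : D) (cA : (Functor.const ℕᵒᵖ).obj A ⟶ X) (hX : DerCA.IsEssConstant X A cA)
    (C : D) (cC : (Functor.const ℕᵒᵖ).obj C ⟶ Z) (hZ : DerCA.IsEssConstant Z C cC) :
    ∃ (B : D) (cB : (Functor.const ℕᵒᵖ).obj B ⟶ Y), DerCA.IsEssConstant Y B cB := by
  obtain ⟨iA, sA, hsA, hkA⟩ := hX
  obtain ⟨iC, sC, hsC, hkC⟩ := hZ
  obtain ⟨n0, hC0, hA0, hn0⟩ := hkC iA
  -- the connecting map of the values
  let δ : C ⟶ A⟦(1 : ℤ)⟧ := cC.app (op iA) ≫ h.app (op iA) ≫ sA⟦(1 : ℤ)⟧'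
  have hnat_h : ∀ {n m : ℕ} (hnm : n ≤ m),
      ARSys.tr Z hnm ≫ h.app (op n) = h.app (op m) ≫ (ARSys.tr X hnm)⟦(1 : ℤ)⟧' := by
    intro n m hnm
    exact (tr_nat h hnm).symm
  have comm : h.app (op n0) ≫ (ARSys.tr X hA0 ≫ sA)⟦(1 : ℤ)⟧' = (ARSys.tr Z hC0 ≫ sC) ≫ δ := by
    have e : (ARSys.tr Z hC0 ≫ sC) ≫ δ = ARSys.tr Z hA0 ≫ h.app (op iA) ≫ sA⟦(1 : ℤ)⟧' := by
      rw [hn0]
      simp only [δ, Category.assoc]
    rw [e, ← Category.assoc, hnat_h, Category.assoc, ← Functor.map_comp]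
  obtain ⟨B, α, γ, hB⟩ := distinguished_cocone_triangle₂ δ
  obtain ⟨β, hβ1, hβ2⟩ : ∃ β : Y.obj (op n0) ⟶ B,
      f.app (op n0) ≫ β = (ARSys.tr X hA0 ≫ sA) ≫ α ∧
      g.app (op n0) ≫ ARSys.tr Z hC0 ≫ sC = β ≫ γ :=
    complete_distinguished_triangle_morphism₂ _ _ (hT n0) hB
      (ARSys.tr X hA0 ≫ sA) (ARSys.tr Z hC0 ≫ sC) comm
  -- the translated systems and the maps to the constant systems
  let fS : (ARSys.shift D n0).obj X ⟶ (ARSys.shift D n0).obj Y := (ARSys.shift D n0).map f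
  let gS : (ARSys.shift D n0).obj Y ⟶ (ARSys.shift D n0).obj Z := (ARSys.shift D n0).map g
  let hS : (ARSys.shift D n0).obj Z ⟶ (ARSys.shift D n0).obj X ⋙ shiftFunctor D (1 : ℤ) :=
    (ARSys.shift D n0).map h
  let f' : (Functor.const ℕᵒᵖ).obj A ⟶ (Functor.const ℕᵒᵖ).obj B := (Functor.const ℕᵒᵖ).map α
  let g' : (Functor.const ℕᵒᵖ).obj B ⟶ (Functor.const ℕᵒᵖ).obj C := (Functor.const ℕᵒᵖ).map γ
  let h' : (Functor.const ℕᵒᵖ).obj C ⟶ (Functor.const ℕᵒᵖ).obj A ⋙ shiftFunctor D (1 : ℤ) :=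
    { app := fun _ => δ
      naturality := by
        intro n m φ
        dsimp
        simp }
  have ha := isProIso_coneMap_of_essConstant X A cA iA sA hsA hkA n0 hA0
  have hc := isProIso_coneMap_of_essConstant Z C cC iC sC hsC hkC n0 hC0
  have hb : DerCA.IsProIso (coneMap Y B n0 β) := by
    refine isProIso_mid fS gS hS f' g' h' (fun n => hT (n + n0)) (fun n => hB)
      (coneMap X A n0 (ARSys.tr X hA0 ≫ sA)) (coneMap Y B n0 β) (coneMap Z C n0 (ARSys.tr Z hC0 ≫ sC))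
      ?_ ?_ ?_ ha hc
    · intro n
      change f.app (op (n + n0)) ≫ ARSys.tr Y (Nat.le_add_left n0 n) ≫ β =
        (ARSys.tr X (Nat.le_add_left n0 n) ≫ ARSys.tr X hA0 ≫ sA) ≫ α
      rw [tr_nat_assoc, hβ1]
      simp only [Category.assoc]
    · intro n
      change g.app (op (n + n0)) ≫ ARSys.tr Z (Nat.le_add_left n0 n) ≫ ARSys.tr Z hC0 ≫ sC =
        (ARSys.tr Y (Nat.le_add_left n0 n) ≫ β) ≫ γ
      rw [tr_nat_assoc, hβ2]
      simp only [Category.assoc]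
    · intro n
      change h.app (op (n + n0)) ≫ (ARSys.tr X (Nat.le_add_left n0 n) ≫ ARSys.tr X hA0 ≫ sA)⟦(1 : ℤ)⟧' =
        (ARSys.tr Z (Nat.le_add_left n0 n) ≫ ARSys.tr Z hC0 ≫ sC) ≫ δ
      rw [Functor.map_comp, ← Category.assoc, ← hnat_h, Category.assoc, comm]
      simp only [Category.assoc]
  exact ⟨B, essConstant_of_isProIso_const Y B n0 _ hb⟩


end Tri

end Groth.Agent.Lib.Helper2.ProSys
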