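import Mathlib.RingTheory.Flat.Basic
import Mathlib.RingTheory.Flat.Localization
import Mathlib.RingTheory.Ideal.Pure
import Mathlib.RingTheory.KrullDimension.Zero
import Mathlib.RingTheory.LocalProperties.Reduced
import Mathlib.RingTheory.Localization.AtPrime.Basic
import Mathlib.Data.List.TFAE

/-! Absolutely flat (von Neumann regular) commutative rings (helper2). -/

set_option autoImplicit false
universe u

namespace Groth.Agent.Lib.Helper2

variable (A : Type u) [CommRing A]

/-- If all localizations at maximal ideals are fields, every module is flat. -/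
theorem flat_of_forall_isField_localization
    (h : ∀ (m : Ideal A) [m.IsMaximal], IsField (Localization.AtPrime m))
    (M : Type u) [AddCommGroup M] [Module A M] : Module.Flat A M := by
  refine Module.flat_of_localized_maximal M fun P hP => ?_
  let _ : Field (Localization.AtPrime P) := (h P).toField
  have h1 : Module.Flat (Localization.AtPrime P) (LocalizedModule P.primeCompl M) :=
    inferInstance
  exact Module.Flat.trans A (Localization.AtPrime P) (LocalizedModule P.primeCompl M)

variable {A}

/-- A von Neumann regular ring is reduced. -/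
theorem isReduced_of_vnr (h : ∀ a : A, ∃ c : A, a = a * a * c) : IsReduced A := by
  refine ⟨fun x hx => ?_⟩
  obtain ⟨c, hc⟩ := h x
  have he : IsIdempotentElem (x * c) := by
    unfold IsIdempotentElem
    calc x * c * (x * c) = (x * x * c) * c := by ring
      _ = x * c := by rw [← hc]
  have hnil : IsNilpotent (x * c) := (Commute.all x c).isNilpotent_mul_right hx
  have h0 : x * c = 0 := by
    obtain ⟨n, hn⟩ := hnil
    rcases Nat.eq_zero_or_pos n with rfl | hpos
    · have h1 : (1 : A) = 0 := by simpa using hn
      calc x * c = x * c * 1 := by ring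
        _ = 0 := by rw [h1, mul_zero]
    · rw [← he.pow_succ_eq (n - 1), Nat.sub_add_cancel hpos, hn]
  calc x = x * x * c := hc
    _ = x * (x * c) := mul_assoc _ _ _
    _ = 0 := by rw [h0, mul_zero]

/-- In a von Neumann regular ring every prime ideal is maximal. -/
theorem isMaximal_of_vnr (h : ∀ a : A, ∃ c : A, a = a * a * c) (p : Ideal A) (hp : p.IsPrime) :
    p.IsMaximal := by
  rw [Ideal.isMaximal_iff]
  refine ⟨fun h1 => hp.ne_top ((Ideal.eq_top_iff_one _).2 h1), fun J x hpJ hxp hxJ => ?_⟩
  obtain ⟨c, hc⟩ := h x
  have h0 : x * (1 - x * c) = 0 := by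
    have : x * (1 - x * c) = x - x * x * c := by ring
    rw [this, ← hc, sub_self]
  have h1 : 1 - x * c ∈ p := by
    rcases hp.mem_or_mem (h0 ▸ p.zero_mem : x * (1 - x * c) ∈ p) with h' | h'
    · exact absurd h' hxp
    · exact h'
  have : (1 : A) = (1 - x * c) + x * c := by ring
  rw [this]
  exact J.add_mem (hpJ h1) (J.mul_mem_right c hxJ)

/-- If `A` is reduced and all primes are maximal, the localizations at primes are fields. -/
theorem isField_localization_of_isReduced [IsReduced A]
    (h : ∀ p : Ideal A, p.IsPrime → p.IsMaximal) (p : Ideal A) [p.IsPrime] :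
    IsField (Localization.AtPrime p) := by
  have : Ring.KrullDimLE 0 A := Ring.KrullDimLE.mk₀ h
  have hp : p ∈ minimalPrimes A := by
    rw [Ring.KrullDimLE.minimalPrimes_eq_setOfPred_isPrime]
    exact ‹p.IsPrime›
  have : Ring.KrullDimLE 0 (Localization.AtPrime p) :=
    Ring.KrullDimLE.of_isLocalization p hp (Localization.AtPrime p)
  exact Ring.KrullDimLE.isField_of_isReduced

/-- If every cyclic module `A ⧸ (a)` is flat then `A` is von Neumann regular. -/
theorem vnr_of_forall_flat (h : ∀ a : A, Module.Flat A (A ⧸ Ideal.span {a})) (a : A) :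
    ∃ c : A, a = a * a * c := by
  have : (Ideal.span {a}).Pure := h a
  obtain ⟨y, hy, hay⟩ := Ideal.exists_eq_mul_of_pure (I := Ideal.span {a})
    (Ideal.subset_span (Set.mem_singleton a))
  obtain ⟨c, rfl⟩ := Ideal.mem_span_singleton'.1 hy
  exact ⟨c, by rw [mul_assoc, mul_comm a c]; exact hay⟩

end Groth.Agent.Lib.Helper2
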