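import Mathlib
import Groth.Prelude.Def_QuadGrp

/-! Half-discriminant: universal identities. -/

set_option autoImplicit false

namespace Groth.Agent.Lib.Helper2.HalfDisc

open QuadGrp MvPolynomial Matrix

universe u v

section Even

variable (n : ℕ)

/-- generic skew-symmetric matrix -/
noncomputable def skewMat : Matrix (Fin n) (Fin n) (MvPolynomial (Sym2 (Fin n)) ℤ) :=
  Matrix.of fun i j => if i < j then X (Sym2.mk i j) else if j < i then - X (Sym2.mk i j) else 0

lemma skewMat_transpose : (skewMat n)ᵀ = - skewMat n := by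
  refine Matrix.ext fun i j => ?_
  simp only [skewMat, transpose_apply, of_apply, Matrix.neg_apply]
  rcases lt_trichotomy i j with h | h | h
  · rw [if_neg (not_lt.mpr h.le), if_pos h, if_pos h, Sym2.eq_swap]
  · subst h; simp
  · rw [if_pos h, if_neg (not_lt.mpr h.le), if_pos h, Sym2.eq_swap]; simp

lemma det_skewMat (hn : Odd n) : (skewMat n).det = 0 := by
  have h1 : (skewMat n).det = - (skewMat n).det := by
    conv_lhs => rw [← det_transpose, skewMat_transpose, det_neg, Fintype.card_fin, hn.neg_one_pow]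
    ring
  have h2 : (2 : MvPolynomial (Sym2 (Fin n)) ℤ) * (skewMat n).det = 0 := by
    rw [two_mul]; nth_rewrite 1 [h1]; ring
  rcases mul_eq_zero.mp h2 with h | h
  · exact absurd h two_ne_zero
  · exact h

lemma map_univPolarMat_eq :
    (MvPolynomial.map (Int.castRingHom (ZMod 2))).mapMatrix (univPolarMat n)
      = (MvPolynomial.map (Int.castRingHom (ZMod 2))).mapMatrix (skewMat n) := by
  refine Matrix.ext fun i j => ?_
  simp only [RingHom.mapMatrix_apply, Matrix.map_apply, univPolarMat, skewMat, of_apply]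
  rcases lt_trichotomy i j with h | h | h
  · rw [if_neg h.ne, if_pos h]
  · subst h
    rw [if_pos rfl, if_neg (lt_irrefl _), if_neg (lt_irrefl _), map_mul, map_zero]
    have : (MvPolynomial.map (Int.castRingHom (ZMod 2))) (2 : MvPolynomial (Sym2 (Fin n)) ℤ) = 0 := by
      rw [map_ofNat]
      have : ((2 : ℕ) : MvPolynomial (Sym2 (Fin n)) (ZMod 2)) = 0 := by
        rw [← map_natCast (C : ZMod 2 →+* MvPolynomial (Sym2 (Fin n)) (ZMod 2))]
        have : ((2 : ℕ) : ZMod 2) = 0 := by decide
        rw [this, map_zero]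
      exact_mod_cast this
    rw [this, zero_mul]
  · rw [if_neg h.ne', if_neg (not_lt.mpr h.le), if_pos h, map_neg]
    have : ∀ x : MvPolynomial (Sym2 (Fin n)) (ZMod 2), -x = x := by
      intro x
      have h2 : (2 : MvPolynomial (Sym2 (Fin n)) (ZMod 2)) = 0 := by
        have : ((2 : ℕ) : MvPolynomial (Sym2 (Fin n)) (ZMod 2)) = 0 := by
          rw [← map_natCast (C : ZMod 2 →+* MvPolynomial (Sym2 (Fin n)) (ZMod 2))]
          have : ((2 : ℕ) : ZMod 2) = 0 := by decide
          rw [this, map_zero]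
        exact_mod_cast this
      have : x + x = 0 := by rw [← two_mul, h2, zero_mul]
      exact neg_eq_of_add_eq_zero_left this
    rw [this]

lemma map_discUniv_eq_zero (hn : Odd n) :
    MvPolynomial.map (Int.castRingHom (ZMod 2)) (discUniv n) = 0 := by
  unfold discUniv
  rw [RingHom.map_det, map_univPolarMat_eq, ← RingHom.map_det, det_skewMat n hn, map_zero]

lemma two_dvd_coeff_discUniv (hn : Odd n) (s : Sym2 (Fin n) →₀ ℕ) :
    (2 : ℤ) ∣ coeff s (discUniv n) := by
  have := congrArg (coeff s) (map_discUniv_eq_zero n hn)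
  rw [coeff_map, coeff_zero] at this
  exact (ZMod.intCast_zmod_eq_zero_iff_dvd _ 2).mp this

lemma two_mul_halfDiscUniv (hn : Odd n) : 2 * halfDiscUniv n = discUniv n := by
  ext s
  have h2 : (2 : MvPolynomial (Sym2 (Fin n)) ℤ) = C 2 := by simp
  rw [h2, coeff_C_mul, coeff_halfDiscUniv]
  exact Int.mul_ediv_cancel' (two_dvd_coeff_discUniv n hn s)

end Even

section Cf
variable {n : ℕ} {R : Type u} [CommRing R]

/-- coefficients from a (not necessarily triangular) matrix -/
def cf (W : Matrix (Fin n) (Fin n) R) : Sym2 (Fin n) → R :=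
  Sym2.lift ⟨fun i j => if i = j then W i i else W i j + W j i, fun i j => by
    by_cases h : i = j
    · subst h; rfl
    · simp only [if_neg h, if_neg (Ne.symm h)]; rw [add_comm]⟩

lemma cf_mk (W : Matrix (Fin n) (Fin n) R) (i j : Fin n) :
    cf W (Sym2.mk i j) = if i = j then W i i else W i j + W j i := rfl

/-- half-discriminant of a matrix of a bilinear lift -/
noncomputable def hd (W : Matrix (Fin n) (Fin n) R) : R :=
  eval₂ (Int.castRingHom R) (cf W) (halfDiscUniv n)

lemma eval₂_discUniv (W : Matrix (Fin n) (Fin n) R) :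
    eval₂ (Int.castRingHom R) (cf W) (discUniv n) = (W + Wᵀ).det := by
  unfold discUniv
  have := RingHom.map_det (eval₂Hom (Int.castRingHom R) (cf W)) (univPolarMat n)
  rw [← coe_eval₂Hom, this]
  congr 1
  refine Matrix.ext fun i j => ?_
  simp only [RingHom.mapMatrix_apply, Matrix.map_apply, univPolarMat, of_apply, Matrix.add_apply,
    transpose_apply]
  split_ifs with h
  · subst h
    rw [map_mul, coe_eval₂Hom, eval₂_X, cf_mk, if_pos rfl]
    have : eval₂ (Int.castRingHom R) (cf W) (2 : MvPolynomial (Sym2 (Fin n)) ℤ) = 2 := by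
      have h2 : (2 : MvPolynomial (Sym2 (Fin n)) ℤ) = C 2 := by simp
      rw [h2, eval₂_C]; simp
    rw [this, two_mul]
  · rw [coe_eval₂Hom, eval₂_X, cf_mk, if_neg h]

lemma two_mul_hd (hn : Odd n) (W : Matrix (Fin n) (Fin n) R) : 2 * hd W = (W + Wᵀ).det := by
  rw [← eval₂_discUniv, ← two_mul_halfDiscUniv n hn, eval₂_mul]
  congr 1
  have : (2 : MvPolynomial (Sym2 (Fin n)) ℤ) = C 2 := by simp
  rw [this, eval₂_C]; simp

lemma hd_map {S : Type v} [CommRing S] (f : R →+* S) (W : Matrix (Fin n) (Fin n) R) :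
    hd (f.mapMatrix W) = f (hd W) := by
  unfold hd
  rw [eval₂_comp_left f]
  congr 1
  · exact RingHom.ext_int _ _
  · funext s
    induction s using Sym2.ind with
    | _ i j =>
      simp only [cf_mk, RingHom.mapMatrix_apply, Matrix.map_apply, Function.comp_apply]
      split_ifs <;> simp

theorem hd_conj (hn : Odd n) (W G : Matrix (Fin n) (Fin n) R) :
    hd (Gᵀ * W * G) = G.det ^ 2 * hd W := by
  let R' := MvPolynomial (Bool × Fin n × Fin n) ℤ
  let W' : Matrix (Fin n) (Fin n) R' := Matrix.of fun i j => X (false, i, j)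
  let G' : Matrix (Fin n) (Fin n) R' := Matrix.of fun i j => X (true, i, j)
  have key : hd (G'ᵀ * W' * G') = G'.det ^ 2 * hd W' := by
    apply mul_left_cancel₀ (two_ne_zero : (2 : R') ≠ 0)
    rw [two_mul_hd hn, mul_left_comm, two_mul_hd hn]
    have : G'ᵀ * W' * G' + (G'ᵀ * W' * G')ᵀ = G'ᵀ * (W' + W'ᵀ) * G' := by
      simp [Matrix.transpose_mul, Matrix.mul_add, Matrix.add_mul, Matrix.mul_assoc]
    rw [this, det_mul, det_mul, det_transpose]; ring
  let φ : R' →+* R :=
    eval₂Hom (Int.castRingHom R) (fun p => if p.1 then G p.2.1 p.2.2 else W p.2.1 p.2.2)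
  have hW : φ.mapMatrix W' = W := by
    refine Matrix.ext fun i j => ?_
    simp only [φ, W', RingHom.mapMatrix_apply, Matrix.map_apply, of_apply]
    rw [eval₂Hom_X']
    simp
  have hG : φ.mapMatrix G' = G := by
    refine Matrix.ext fun i j => ?_
    simp only [φ, G', RingHom.mapMatrix_apply, Matrix.map_apply, of_apply]
    rw [eval₂Hom_X']
    simp
  have hGt : φ.mapMatrix G'ᵀ = Gᵀ := by
    rw [← hG]; rfl
  have := congrArg φ key
  rw [← hd_map, map_mul φ, map_pow, ← hd_map, RingHom.map_det, map_mul, map_mul, hW, hG, hGt] at this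
  exact this

end Cf

section Form
variable {n : ℕ} {R : Type u} [CommRing R] {M : Type v} [AddCommGroup M] [Module R M]

lemma coeffs_eq_cf (b : Module.Basis (Fin n) R M) (Q : QuadraticForm R M)
    (B : LinearMap.BilinMap R M R) (hB : B.toQuadraticMap = Q) :
    coeffs b (LinearEquiv.refl R R) Q = cf (LinearMap.toMatrix₂ b b B) := by
  funext s
  induction s using Sym2.ind with
  | _ i j =>
    rw [coeffs_mk, cf_mk]
    subst hB
    simp [LinearMap.toMatrix₂_apply, LinearMap.BilinMap.polar_toQuadraticMap]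

theorem halfDisc_comp (hn : Odd n) (b : Module.Basis (Fin n) R M) (Q : QuadraticForm R M)
    (g : M →ₗ[R] M) :
    halfDisc b (LinearEquiv.refl R R) (Q.comp g) =
      LinearMap.det g ^ 2 * halfDisc b (LinearEquiv.refl R R) Q := by
  classical
  set B := Q.toBilin b with hB
  have h1 : B.toQuadraticMap = Q := QuadraticMap.toQuadraticMap_toBilin Q b
  have h2 : LinearMap.BilinMap.toQuadraticMap (B.compl₁₂ g g) = Q.comp g := by
    rw [LinearMap.BilinMap.toQuadraticMap_comp_same, h1]
  unfold halfDisc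
  rw [coeffs_eq_cf b Q B h1, coeffs_eq_cf b (Q.comp g) _ h2, LinearMap.toMatrix₂_compl₁₂ b b]
  have := hd_conj hn (LinearMap.toMatrix₂ b b B) (LinearMap.toMatrix b b g)
  rw [LinearMap.det_toMatrix] at this
  exact this

end Form

end Groth.Agent.Lib.Helper2.HalfDisc
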