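import Mathlib
import Groth.Prelude.Def_QuadGrp
import Groth.Agent.Lib.Helper2.HalfDisc

/-! Half-discriminant: Laplace expansion along a polar-kernel vector, field criterion. -/

set_option autoImplicit false

namespace Groth.Agent.Lib.Helper2.HalfDisc

open QuadGrp MvPolynomial Matrix

universe u v

section Laplace
variable {n : ℕ} {R : Type u} [CommRing R]

lemma hd_congr_cf (W W' : Matrix (Fin n) (Fin n) R) (h : cf W = cf W') : hd W = hd W' := by
  unfold hd; rw [h]

/-- Laplace expansion of the half-discriminant along an index whose polar row vanishes. -/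
theorem hd_laplace (hn : Odd (n + 1)) (W : Matrix (Fin (n + 1)) (Fin (n + 1)) R) (k : Fin (n + 1))
    (h : ∀ i, i ≠ k → W i k + W k i = 0) :
    hd W = W k k * ((W + Wᵀ).submatrix k.succAbove k.succAbove).det := by
  classical
  let R' := MvPolynomial (Fin (n + 1) × Fin (n + 1)) ℤ
  let W' : Matrix (Fin (n + 1)) (Fin (n + 1)) R' :=
    Matrix.of fun i j => if i ≠ j ∧ (i = k ∨ j = k) then 0 else X (i, j)
  have key : hd W' = W' k k * ((W' + W'ᵀ).submatrix k.succAbove k.succAbove).det := by
    apply mul_left_cancel₀ (two_ne_zero : (2 : R') ≠ 0)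
    rw [two_mul_hd hn, Matrix.det_succ_row _ k, Finset.sum_eq_single k]
    · have hkk : (W' + W'ᵀ) k k = 2 * W' k k := by
        simp only [Matrix.add_apply, Matrix.transpose_apply]; ring
      rw [hkk]
      have : ((-1 : R')) ^ ((k : ℕ) + (k : ℕ)) = 1 := by
        rw [← two_mul, pow_mul]; simp
      rw [this]; ring
    · intro j _ hjk
      have : (W' + W'ᵀ) k j = 0 := by
        show (if k ≠ j ∧ (k = k ∨ j = k) then (0 : R') else X (k, j))
          + (if j ≠ k ∧ (j = k ∨ k = k) then (0 : R') else X (j, k)) = 0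
        rw [if_pos ⟨Ne.symm hjk, Or.inl rfl⟩, if_pos ⟨hjk, Or.inr rfl⟩, add_zero]
      rw [this, mul_zero, zero_mul]
    · intro hk; exact absurd (Finset.mem_univ k) hk
  let φ : R' →+* R := eval₂Hom (Int.castRingHom R) (fun p => W p.1 p.2)
  set W₀ : Matrix (Fin (n + 1)) (Fin (n + 1)) R :=
    Matrix.of fun i j => if i ≠ j ∧ (i = k ∨ j = k) then 0 else W i j with hW₀
  have hW' : φ.mapMatrix W' = W₀ := by
    refine Matrix.ext fun i j => ?_
    simp only [φ, W', hW₀, RingHom.mapMatrix_apply, Matrix.map_apply, Matrix.of_apply]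
    split_ifs
    · exact map_zero _
    · rw [eval₂Hom_X']
  have hcf : cf W₀ = cf W := by
    funext s
    induction s using Sym2.ind with
    | _ i j =>
      rw [cf_mk, cf_mk]
      by_cases hij : i = j
      · subst hij
        rw [if_pos rfl, if_pos rfl, hW₀, Matrix.of_apply, if_neg (fun hh => hh.1 rfl)]
      · rw [if_neg hij, if_neg hij]
        simp only [hW₀, Matrix.of_apply]
        by_cases hk : i = k ∨ j = k
        · rw [if_pos ⟨hij, hk⟩, if_pos ⟨Ne.symm hij, hk.symm⟩, add_zero]
          rcases hk with hk | hk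
          · subst hk
            rw [add_comm]; exact (h j (Ne.symm hij)).symm
          · subst hk
            exact (h i hij).symm
        · rw [if_neg (fun hh => hk hh.2), if_neg (fun hh => hk hh.2.symm)]
  have hsub : ((W₀ + W₀ᵀ).submatrix k.succAbove k.succAbove)
      = ((W + Wᵀ).submatrix k.succAbove k.succAbove) := by
    refine Matrix.ext fun a b => ?_
    simp only [Matrix.submatrix_apply, Matrix.add_apply, Matrix.transpose_apply, hW₀,
      Matrix.of_apply]
    have ha : k.succAbove a ≠ k := Fin.succAbove_ne k a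
    have hb : k.succAbove b ≠ k := Fin.succAbove_ne k b
    rw [if_neg (fun hh => hh.2.elim ha hb), if_neg (fun hh => hh.2.elim hb ha)]
  have hkk : W₀ k k = W k k := by
    rw [hW₀, Matrix.of_apply, if_neg (fun hh => hh.1 rfl)]
  rw [← hd_congr_cf _ _ hcf, ← hW', hd_map, key, map_mul, RingHom.map_det, ← hsub, ← hkk, ← hW']
  congr 2
  refine Matrix.ext fun a b => ?_
  simp only [RingHom.mapMatrix_apply, Matrix.map_apply, Matrix.submatrix_apply, Matrix.add_apply,
    Matrix.transpose_apply, map_add]

/-- If `v` is in the kernel of the polar matrix then `v_k² · hd W = q(v) · (k-th principal polar minor)`. -/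
theorem hd_kernel (hn : Odd (n + 1)) (W : Matrix (Fin (n + 1)) (Fin (n + 1)) R)
    (v : Fin (n + 1) → R) (k : Fin (n + 1)) (hv : (W + Wᵀ).mulVec v = 0) :
    v k ^ 2 * hd W = (v ⬝ᵥ W.mulVec v) * ((W + Wᵀ).submatrix k.succAbove k.succAbove).det := by
  classical
  set N := W + Wᵀ with hN
  set G : Matrix (Fin (n + 1)) (Fin (n + 1)) R := (1 : Matrix _ _ R).updateCol k v with hG
  have hdet : G.det = v k := by
    rw [hG, ← Matrix.cramer_apply, Matrix.cramer_one]; rfl
  have hGk : ∀ a, G a k = v a := fun a => by rw [hG, Matrix.updateCol_self]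
  have hGne : ∀ a j, j ≠ k → G a j = (1 : Matrix _ _ R) a j := fun a j hj => by
    rw [hG, Matrix.updateCol_ne hj]
  have hR : ∀ (M : Matrix (Fin (n + 1)) (Fin (n + 1)) R) a j, j ≠ k → (M * G) a j = M a j := by
    intro M a j hj
    rw [Matrix.mul_apply]
    simp only [hGne _ j hj]
    rw [← Matrix.mul_apply, Matrix.mul_one]
  have hL : ∀ (M : Matrix (Fin (n + 1)) (Fin (n + 1)) R) i a, i ≠ k → (Gᵀ * M) i a = M i a := by
    intro M i a hi
    rw [Matrix.mul_apply]
    simp only [Matrix.transpose_apply, hGne _ i hi]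
    simp [Matrix.one_apply]
  have hNG : ∀ a, (N * G) a k = 0 := by
    intro a
    rw [Matrix.mul_apply]
    simp only [hGk]
    exact congrFun hv a
  set W' := Gᵀ * W * G with hW'
  have hN' : W' + W'ᵀ = Gᵀ * N * G := by
    simp [hW', hN, Matrix.transpose_mul, Matrix.mul_add, Matrix.add_mul, Matrix.mul_assoc]
  have h1 : ∀ i, i ≠ k → W' i k + W' k i = 0 := by
    intro i _
    have : (W' + W'ᵀ) i k = 0 := by
      rw [hN', Matrix.mul_assoc, Matrix.mul_apply]
      simp only [hNG, mul_zero, Finset.sum_const_zero]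
    simpa [Matrix.add_apply, Matrix.transpose_apply] using this
  have h2 : W' k k = v ⬝ᵥ W.mulVec v := by
    rw [hW', Matrix.mul_apply]
    simp only [hGk, Matrix.mul_apply, Matrix.transpose_apply]
    simp only [dotProduct, Matrix.mulVec, Finset.sum_mul, Finset.mul_sum]
    rw [Finset.sum_comm]
    refine Finset.sum_congr rfl fun a _ => Finset.sum_congr rfl fun b _ => by ring
  have h3 : (W' + W'ᵀ).submatrix k.succAbove k.succAbove
      = N.submatrix k.succAbove k.succAbove := by
    refine Matrix.ext fun a b => ?_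
    rw [hN', Matrix.submatrix_apply, Matrix.submatrix_apply, hR _ _ _ (Fin.succAbove_ne k b),
      hL _ _ _ (Fin.succAbove_ne k a)]
  rw [← hdet, ← hd_conj hn W G, ← hW', hd_laplace hn W' k h1, h2, h3]

end Laplace

section Field
variable {F : Type u} {V : Type v} [Field F] [AddCommGroup V] [Module F V]

theorem halfDisc_ne_zero_iff_nondegenerate (m : ℕ) (c : Module.Basis (Fin (2 * m + 1)) F V)
    (q : QuadraticForm F V) :
    halfDisc c (LinearEquiv.refl F F) q ≠ 0 ↔ q.Nondegenerate := by
  classical
  have hn : Odd (2 * m + 1) := ⟨m, rfl⟩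
  set B := q.toBilin c with hBdef
  have hB : B.toQuadraticMap = q := QuadraticMap.toQuadraticMap_toBilin q c
  set W := LinearMap.toMatrix₂ c c B with hW
  have hhd : halfDisc c (LinearEquiv.refl F F) q = hd W := by
    unfold halfDisc hd; rw [coeffs_eq_cf c q B hB]
  have hpolar : ∀ x y, QuadraticMap.polar q x y = B x y + B y x := by
    intro x y
    have : QuadraticMap.polar B.toQuadraticMap x y = B x y + B y x :=
      LinearMap.BilinMap.polar_toQuadraticMap x y
    rw [hB] at this; exact this
  have hNmat : LinearMap.toMatrix₂ c c q.polarBilin = W + Wᵀ := by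
    refine Matrix.ext fun i j => ?_
    rw [LinearMap.toMatrix₂_apply, Matrix.add_apply, Matrix.transpose_apply, hW,
      LinearMap.toMatrix₂_apply, LinearMap.toMatrix₂_apply, QuadraticMap.polarBilin_apply_apply,
      hpolar]
  set N := W + Wᵀ with hN
  have h2hd : 2 * hd W = N.det := two_mul_hd hn W
  have hmv : ∀ (x : V) i, N.mulVec (c.repr x) i = q.polarBilin (c i) x := by
    intro x i
    conv_rhs => rw [← c.sum_repr x]
    rw [map_sum]
    simp only [Matrix.mulVec, dotProduct, map_smul, smul_eq_mul]
    refine Finset.sum_congr rfl fun j _ => ?_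
    rw [← hNmat, LinearMap.toMatrix₂_apply, mul_comm]
  have hker : ∀ x : V, q.polarBilin x = 0 ↔ N.mulVec (c.repr x) = 0 := by
    intro x
    constructor
    · intro hx
      funext i
      rw [hmv, QuadraticMap.polarBilin_apply_apply, QuadraticMap.polar_comm,
        ← QuadraticMap.polarBilin_apply_apply, hx]; rfl
    · intro hx
      refine c.ext fun i => ?_
      rw [QuadraticMap.polarBilin_apply_apply, QuadraticMap.polar_comm,
        ← QuadraticMap.polarBilin_apply_apply, ← hmv, hx]; rfl
  have hqx : ∀ x : V, q x = (⇑(c.repr x) : Fin (2 * m + 1) → F) ⬝ᵥ W.mulVec (c.repr x) := by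
    intro x
    have := apply_eq_dotProduct_toMatrix₂_mulVec c c B x x
    rw [← hB, LinearMap.BilinMap.toQuadraticMap_apply, this]
    rfl
  by_cases h2 : (2 : F) = 0
  swap
  · letI : Invertible (2 : F) := invertibleOfNonzero h2
    rw [QuadraticMap.nondegenerate_iff_radical_eq_bot, QuadraticMap.radical_eq_ker_polarBilin,
      ← LinearMap.separatingLeft_iff_ker_eq_bot, LinearMap.separatingLeft_iff_det_ne_zero c,
      hNmat, hhd, ← h2hd]
    exact ⟨fun h => mul_ne_zero h2 h, fun h => right_ne_zero_of_mul h⟩
  have hdet0 : N.det = 0 := by rw [← h2hd, h2, zero_mul]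
  obtain ⟨ξ, hξ0, hξ⟩ := Matrix.exists_mulVec_eq_zero_iff.mpr hdet0
  set v₀ : V := c.equivFun.symm ξ with hv₀
  have hrepr : (⇑(c.repr v₀) : Fin (2 * m + 1) → F) = ξ := c.equivFun.apply_symm_apply ξ
  obtain ⟨k, hk⟩ : ∃ k, ξ k ≠ 0 := by
    by_contra hcon
    push Not at hcon
    exact hξ0 (funext hcon)
  set δ := (N.submatrix k.succAbove k.succAbove).det with hδdef
  have hkey : ξ k ^ 2 * hd W = q v₀ * δ := by
    rw [hqx v₀, hrepr]; exact hd_kernel hn W ξ k hξ
  have hv₀ker : q.polarBilin v₀ = 0 := (hker v₀).mpr (by rw [hrepr]; exact hξ)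
  have hv₀ne : v₀ ≠ 0 := by
    intro h
    apply hξ0
    rw [← hrepr, h]; simp
  rw [hhd]
  constructor
  · intro hne
    have hprod : q v₀ * δ ≠ 0 := by rw [← hkey]; exact mul_ne_zero (pow_ne_zero 2 hk) hne
    have hq0 : q v₀ ≠ 0 := left_ne_zero_of_mul hprod
    have hδ : δ ≠ 0 := right_ne_zero_of_mul hprod
    have hspan : ∀ x, q.polarBilin x = 0 → ∃ t : F, x = t • v₀ := by
      intro x hx
      refine ⟨c.repr x k / ξ k, ?_⟩
      set t := c.repr x k / ξ k with ht
      set y := x - t • v₀ with hy
      have hypol : q.polarBilin y = 0 := by rw [hy, map_sub, map_smul, hx, hv₀ker]; simp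
      have hyk : c.repr y k = 0 := by
        rw [hy, map_sub, map_smul, Finsupp.sub_apply, Finsupp.smul_apply, smul_eq_mul,
          show c.repr v₀ k = ξ k from congrFun hrepr k, ht]
        field_simp
        ring
      have hy2 := (hker y).mp hypol
      have hsub : (N.submatrix k.succAbove k.succAbove).mulVec
          (fun a => c.repr y (k.succAbove a)) = 0 := by
        funext a
        have := congrFun hy2 (k.succAbove a)
        simp only [Matrix.mulVec, dotProduct, Matrix.submatrix_apply, Pi.zero_apply] at this ⊢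
        rw [Fin.sum_univ_succAbove _ k, hyk, mul_zero, zero_add] at this
        exact this
      have hz := Matrix.eq_zero_of_mulVec_eq_zero hδ hsub
      have hy0 : y = 0 := by
        apply c.repr.injective
        ext i
        rcases Fin.eq_self_or_eq_succAbove k i with h | ⟨a, h⟩
        · rw [h]; simpa using hyk
        · rw [h]; simpa using congrFun hz a
      exact sub_eq_zero.mp hy0
    refine ⟨?_, ?_⟩
    · rw [eq_bot_iff]
      intro x hx
      obtain ⟨t, rfl⟩ := hspan x hx.2
      have hq : q (t • v₀) = 0 := hx.1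
      rw [QuadraticMap.map_smul, smul_eq_mul] at hq
      rcases mul_eq_zero.mp hq with h | h
      · have ht0 : t = 0 := by simpa using h
        simp [ht0]
      · exact absurd h hq0
    · rw [rank_submodule_le_one_iff']
      refine ⟨v₀, fun x hx => ?_⟩
      obtain ⟨t, rfl⟩ := hspan x (LinearMap.mem_ker.mp hx)
      exact Submodule.smul_mem _ _ (Submodule.mem_span_singleton_self _)
  · intro hnd
    have hq0 : q v₀ ≠ 0 := by
      intro h
      have hmem : v₀ ∈ q.radical := ⟨h, hv₀ker⟩
      rw [hnd.radical_eq_bot] at hmem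
      exact hv₀ne ((Submodule.mem_bot F).mp hmem)
    have hδ : δ ≠ 0 := by
      intro hδ0
      obtain ⟨η, hη0, hη⟩ := Matrix.exists_mulVec_eq_zero_iff.mpr hδ0
      set ω : Fin (2 * m + 1) → F := Fin.insertNth (α := fun _ => F) k (0 : F) η with hω
      have hωk : ω k = 0 := by rw [hω, Fin.insertNth_apply_same]
      have hωs : ∀ a, ω (k.succAbove a) = η a := fun a => by
        rw [hω, Fin.insertNth_apply_succAbove]
      have hrows : ∀ a, N.mulVec ω (k.succAbove a) = 0 := by
        intro a
        have := congrFun hη a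
        simp only [Matrix.mulVec, dotProduct, Matrix.submatrix_apply, Pi.zero_apply] at this ⊢
        rw [Fin.sum_univ_succAbove _ k, hωk, mul_zero, zero_add]
        simp only [hωs]
        exact this
      have hNsymm : Nᵀ = N := by
        rw [hN, Matrix.transpose_add, Matrix.transpose_transpose]; exact add_comm _ _
      have hrow : ξ ᵥ* N = 0 := by
        rw [← hNsymm, Matrix.vecMul_transpose]; exact hξ
      have hdot : ξ ⬝ᵥ N.mulVec ω = 0 := by
        rw [Matrix.dotProduct_mulVec, hrow, zero_dotProduct]
      have hrowk : N.mulVec ω k = 0 := by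
        rw [dotProduct, Fin.sum_univ_succAbove _ k] at hdot
        simp only [hrows, mul_zero, Finset.sum_const_zero, add_zero] at hdot
        rcases mul_eq_zero.mp hdot with h | h
        · exact absurd h hk
        · exact h
      have hNω : N.mulVec ω = 0 := by
        funext i
        rcases Fin.eq_self_or_eq_succAbove k i with h | ⟨a, h⟩
        · rw [h]; exact hrowk
        · rw [h]; exact hrows a
      set w : V := c.equivFun.symm ω with hw
      have hreprw : (⇑(c.repr w) : Fin (2 * m + 1) → F) = ω := c.equivFun.apply_symm_apply ω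
      have hwker : q.polarBilin w = 0 := (hker w).mpr (by rw [hreprw]; exact hNω)
      obtain ⟨z, hz⟩ := (rank_submodule_le_one_iff' _).mp hnd.rank_rad_polar_le
      obtain ⟨s, hs⟩ := Submodule.mem_span_singleton.mp (hz (LinearMap.mem_ker.mpr hv₀ker))
      obtain ⟨r, hr⟩ := Submodule.mem_span_singleton.mp (hz (LinearMap.mem_ker.mpr hwker))
      have hs0 : s ≠ 0 := by
        rintro rfl
        rw [zero_smul] at hs
        exact hv₀ne hs.symm
      have hwv : w = (r / s) • v₀ := by
        rw [← hs, smul_smul, div_mul_cancel₀ _ hs0, hr]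
      have hcoord := congrArg (fun x => c.repr x k) hwv
      simp only [map_smul, Finsupp.smul_apply, smul_eq_mul] at hcoord
      rw [show c.repr w k = ω k from congrFun hreprw k, hωk,
        show c.repr v₀ k = ξ k from congrFun hrepr k] at hcoord
      have hrs : r / s = 0 := by
        rcases mul_eq_zero.mp hcoord.symm with h | h
        · exact h
        · exact absurd h hk
      have hw0 : w = 0 := by rw [hwv, hrs, zero_smul]
      apply hη0
      funext a
      rw [← hωs a, ← hreprw, hw0]; simp
    intro h0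
    rw [h0, mul_zero] at hkey
    exact mul_ne_zero hq0 hδ hkey.symm

end Field

end Groth.Agent.Lib.Helper2.HalfDisc
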