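import Mathlib

/-!
# Systems of parameters in Noetherian local rings

* `ringKrullDim_quotient_succ_le_of_forall_not_le`: if `I ≤ J` and `J` is contained in no minimal
  prime of `I` then `dim A/J + 1 ≤ dim A/I`.
* `exists_sop_sup`: if `dim A/I ≤ e` in a Noetherian local ring then there are `e` elements of
  `m^k ⊓ m` that together with `I` generate an `m`-primary ideal.
-/

set_option autoImplicit false
universe u

namespace Groth.Agent.Lib.Helper2

set_option backward.isDefEq.respectTransparency false in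
theorem ringKrullDim_quotient_succ_le_of_forall_not_le {A : Type u} [CommRing A]
    (I J : Ideal A) (hIJ : I ≤ J) (h : ∀ p ∈ I.minimalPrimes, ¬ J ≤ p) :
    ringKrullDim (A ⧸ J) + 1 ≤ ringKrullDim (A ⧸ I) := by
  by_cases hJ : J = ⊤
  · rw [hJ, ringKrullDim_eq_bot_of_subsingleton]
    simp
  have : Nonempty (PrimeSpectrum.zeroLocus (R := A) J) := by
    rwa [Set.nonempty_coe_sort, Set.nonempty_iff_ne_empty, ne_eq,
      PrimeSpectrum.zeroLocus_empty_iff_eq_top]
  have : Nonempty (PrimeSpectrum.zeroLocus (R := A) I) := by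
    rw [Set.nonempty_coe_sort, Set.nonempty_iff_ne_empty, ne_eq,
      PrimeSpectrum.zeroLocus_empty_iff_eq_top]
    rintro rfl
    exact hJ (top_le_iff.1 hIJ)
  rw [ringKrullDim_quotient, ringKrullDim_quotient, Order.krullDim_eq_iSup_length,
    Order.krullDim_eq_iSup_length, ← WithBot.coe_one, ← WithBot.coe_add,
    ENat.iSup_add, WithBot.coe_le_coe, iSup_le_iff]
  intro l
  have hl : I ≤ l.head.1.asIdeal := hIJ.trans l.head.2
  obtain ⟨p, hp, hp'⟩ := Ideal.exists_minimalPrimes_le (J := l.head.1.asIdeal) hl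
  let p' : PrimeSpectrum.zeroLocus (R := A) I := ⟨⟨p, hp.1.1⟩, hp.1.2⟩
  let φ : PrimeSpectrum.zeroLocus (R := A) J → PrimeSpectrum.zeroLocus (R := A) I :=
    fun q => ⟨q.1, hIJ.trans q.2⟩
  have hφ : StrictMono φ := fun _ _ hab => hab
  have hp'' : p' < φ l.head := by
    refine lt_of_le_of_ne hp' fun heq => h p hp ?_
    have h2 : J ≤ l.head.1.asIdeal := l.head.2
    have h3 : p = l.head.1.asIdeal := congrArg (fun q => q.1.asIdeal) heq
    rw [h3]
    exact h2
  refine le_trans ?_ (le_iSup _ ((l.map φ hφ).cons p' hp''))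
  simp

end Groth.Agent.Lib.Helper2

namespace Groth.Agent.Lib.Helper2

open IsLocalRing

/-- In a local ring, if `dim A/I ≤ 0` and `I` is proper then `I` is `m`-primary. -/
theorem maximalIdeal_le_radical_of_dim_zero {A : Type u} [CommRing A] [IsLocalRing A]
    (I : Ideal A) (hdim : ringKrullDim (A ⧸ I) ≤ 0) :
    maximalIdeal A ≤ I.radical := by
  rw [Ideal.radical_eq_sInf]
  refine le_sInf ?_
  rintro J ⟨hIJ, hJ⟩
  have h0 : Ring.KrullDimLE 0 (A ⧸ I) := Ring.krullDimLE_iff.2 (by simpa using hdim)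
  have hker : RingHom.ker (Ideal.Quotient.mk I) ≤ J := by rwa [Ideal.mk_ker]
  have hJ' : (J.map (Ideal.Quotient.mk I)).IsPrime :=
    Ideal.map_isPrime_of_surjective Ideal.Quotient.mk_surjective hker
  have hJmax : (J.map (Ideal.Quotient.mk I)).IsMaximal := Ideal.isMaximal_of_isPrime _
  have hc : ((J.map (Ideal.Quotient.mk I)).comap (Ideal.Quotient.mk I)).IsMaximal :=
    Ideal.comap_isMaximal_of_surjective _ Ideal.Quotient.mk_surjective
  rw [Ideal.comap_map_of_surjective _ Ideal.Quotient.mk_surjective, ← RingHom.ker_eq_comap_bot,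
    sup_of_le_left hker] at hc
  exact (IsLocalRing.eq_maximalIdeal hc).ge

theorem withBot_enat_le_of_add_one_le {x : WithBot ℕ∞} {e : ℕ}
    (h : x + 1 ≤ ((e + 1 : ℕ) : WithBot ℕ∞)) : x ≤ e := by
  induction x using WithBot.recBotCoe with
  | bot => exact bot_le
  | coe a =>
    have h1 : ((a + 1 : ℕ∞) : WithBot ℕ∞) ≤ (((e : ℕ∞) + 1 : ℕ∞) : WithBot ℕ∞) := by
      exact_mod_cast h
    rw [WithBot.coe_le_coe] at h1
    have h2 : a ≤ (e : ℕ∞) := (WithTop.add_le_add_iff_right ENat.one_ne_top).1 h1
    exact_mod_cast WithBot.coe_le_coe.2 h2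

/-- Existence of (partial) systems of parameters inside `m^k`. -/
theorem exists_sop_sup {A : Type u} [CommRing A] [IsNoetherianRing A] [IsLocalRing A] (k : ℕ) :
    ∀ (e : ℕ) (I : Ideal A), I ≠ ⊤ → ringKrullDim (A ⧸ I) ≤ e →
      ∃ g : Fin e → A, (∀ i, g i ∈ maximalIdeal A ^ k) ∧ (∀ i, g i ∈ maximalIdeal A) ∧
        maximalIdeal A ≤ (I ⊔ Ideal.span (Set.range g)).radical := by
  intro e
  induction e with
  | zero =>
    intro I _ hdim
    refine ⟨Fin.elim0, fun i => i.elim0, fun i => i.elim0, ?_⟩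
    have : Set.range (Fin.elim0 : Fin 0 → A) = ∅ := Set.range_eq_empty _
    rw [this, Ideal.span_empty, sup_bot_eq]
    exact maximalIdeal_le_radical_of_dim_zero I (by simpa using hdim)
  | succ e ih =>
    intro I hI hdim
    by_cases hm : maximalIdeal A ∈ I.minimalPrimes
    · -- `I` is already `m`-primary
      refine ⟨fun _ => 0, fun _ => zero_mem _, fun _ => zero_mem _, ?_⟩
      refine le_trans ?_ (Ideal.radical_mono le_sup_left)
      rw [← Ideal.sInf_minimalPrimes]
      refine le_sInf fun p hp => ?_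
      have hple : p ≤ maximalIdeal A := IsLocalRing.le_maximalIdeal hp.1.1.ne_top
      exact hm.2 hp.1 hple
    · -- prime avoidance
      classical
      have hfin : I.minimalPrimes.Finite := Ideal.finite_minimalPrimes_of_isNoetherianRing A I
      have havoid : ¬ ((maximalIdeal A ^ (k + 1) : Ideal A) : Set A) ⊆
          ⋃ p ∈ (hfin.toFinset : Set (Ideal A)), (p : Set A) := by
        rw [Ideal.subset_union_prime (f := fun p : Ideal A => p) ⊥ ⊥]
        · rintro ⟨p, hp, hle⟩
          rw [Set.Finite.mem_toFinset] at hp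
          have := hp.1.1
          have h1 : maximalIdeal A ≤ p := Ideal.IsPrime.le_of_pow_le hle
          have h2 : p = maximalIdeal A :=
            le_antisymm (IsLocalRing.le_maximalIdeal hp.1.1.ne_top) h1
          exact hm (h2 ▸ hp)
        · intro p hp _ _
          rw [Set.Finite.mem_toFinset] at hp
          exact hp.1.1
      rw [Set.not_subset] at havoid
      obtain ⟨g₀, hg₀, hg₀'⟩ := havoid
      have hg₀k : g₀ ∈ maximalIdeal A ^ k := Ideal.pow_le_pow_right (Nat.le_succ k) hg₀
      have hg₀m : g₀ ∈ maximalIdeal A := Ideal.pow_le_self (Nat.succ_ne_zero k) hg₀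
      have hI' : I ⊔ Ideal.span {g₀} ≠ ⊤ := by
        intro htop
        have hle : I ⊔ Ideal.span {g₀} ≤ maximalIdeal A :=
          sup_le (IsLocalRing.le_maximalIdeal hI)
            ((Ideal.span_singleton_le_iff_mem _).2 hg₀m)
        rw [htop] at hle
        exact (Ideal.IsPrime.ne_top inferInstance) (top_le_iff.1 hle)
      have hdim' : ringKrullDim (A ⧸ (I ⊔ Ideal.span {g₀})) ≤ e := by
        have hkd := ringKrullDim_quotient_succ_le_of_forall_not_le I (I ⊔ Ideal.span {g₀})
          le_sup_left (by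
            intro p hp hle
            apply hg₀'
            simp only [Set.mem_iUnion]
            refine ⟨p, ?_, ?_⟩
            · rw [Finset.mem_coe, Set.Finite.mem_toFinset]; exact hp
            · exact hle (Ideal.mem_sup_right (Ideal.subset_span rfl)))
        exact withBot_enat_le_of_add_one_le (hkd.trans hdim)
      obtain ⟨g', hg'k, hg'm, hg'⟩ := ih (I ⊔ Ideal.span {g₀}) hI' hdim'
      refine ⟨Fin.cons g₀ g', ?_, ?_, ?_⟩
      · intro i
        refine Fin.cases ?_ (fun j => ?_) i
        · simpa using hg₀k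
        · simpa using hg'k j
      · intro i
        refine Fin.cases ?_ (fun j => ?_) i
        · simpa using hg₀m
        · simpa using hg'm j
      · rw [Fin.range_cons, Ideal.span_insert, ← sup_assoc]
        exact hg'

end Groth.Agent.Lib.Helper2

namespace Groth.Agent.Lib.Helper2

open IsLocalRing

theorem ringKrullDim_quotient_span_singleton_le {A : Type u} [CommRing A] (f : A)
    (hmin : ∀ p ∈ minimalPrimes A, f ∉ p) (d : ℕ) (hd : ringKrullDim A ≤ ((d + 1 : ℕ) : WithBot ℕ∞)) :
    ringKrullDim (A ⧸ Ideal.span {f}) ≤ d := by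
  have hkd := ringKrullDim_quotient_succ_le_of_forall_not_le (⊥ : Ideal A) (Ideal.span {f}) bot_le
    (fun p hp hle => hmin p hp (hle (Ideal.subset_span rfl)))
  rw [ringKrullDim_eq_of_ringEquiv (RingEquiv.quotientBot A)] at hkd
  exact withBot_enat_le_of_add_one_le (hkd.trans hd)

/-- Extending a parameter `f` to a system of parameters with the other elements in `m^k`. -/
theorem exists_sop_insert {A : Type u} [CommRing A] [IsNoetherianRing A] [IsLocalRing A] (k d : ℕ)
    (hd : ringKrullDim A ≤ ((d + 1 : ℕ) : WithBot ℕ∞)) (f : A) (hf : f ∈ maximalIdeal A)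
    (hmin : ∀ p ∈ minimalPrimes A, f ∉ p) :
    ∃ g : Fin d → A, (∀ i, g i ∈ maximalIdeal A ^ k) ∧ (∀ i, g i ∈ maximalIdeal A) ∧
      maximalIdeal A ≤ (Ideal.span (insert f (Set.range g))).radical := by
  have hne : Ideal.span {f} ≠ ⊤ := by
    intro htop
    have hle : Ideal.span {f} ≤ maximalIdeal A := (Ideal.span_singleton_le_iff_mem _).2 hf
    rw [htop] at hle
    exact (Ideal.IsPrime.ne_top inferInstance) (top_le_iff.1 hle)
  obtain ⟨g, hgk, hgm, hg⟩ := exists_sop_sup k d (Ideal.span {f}) hne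
    (ringKrullDim_quotient_span_singleton_le f hmin d hd)
  refine ⟨g, hgk, hgm, ?_⟩
  rw [Ideal.span_insert]
  exact hg

end Groth.Agent.Lib.Helper2
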