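import Mathlib

/-!
# Relative dimension of submodules of a vector space
-/

set_option autoImplicit false

namespace Groth.Agent.Lib.Helper2.RelDim

universe u v
variable {k : Type u} {V : Type v} [Field k] [AddCommGroup V] [Module k V]

/-- the relative quotient `B / (A ∩ B)` -/
abbrev RQ (A B : Submodule k V) : Type v := B ⧸ A.submoduleOf B

/-- `B → C/A` for `B ≤ C` -/
def toRQ (A : Submodule k V) {B C : Submodule k V} (hBC : B ≤ C) : B →ₗ[k] RQ A C :=
  (A.submoduleOf C).mkQ.comp (Submodule.inclusion hBC)

theorem ker_toRQ (A : Submodule k V) {B C : Submodule k V} (hBC : B ≤ C) :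
    LinearMap.ker (toRQ A hBC) = A.submoduleOf B := by
  ext b
  simp only [toRQ, LinearMap.mem_ker, LinearMap.comp_apply, Submodule.mkQ_apply,
    Submodule.Quotient.mk_eq_zero]
  rfl

/-- additivity of relative rank in towers -/
theorem rank_RQ_add {A B C : Submodule k V} (hAB : A ≤ B) (hBC : B ≤ C) :
    Module.rank k (RQ A B) + Module.rank k (RQ B C) = Module.rank k (RQ A C) := by
  have hST : A.submoduleOf C ≤ B.submoduleOf C := fun x hx => hAB hx
  let π : RQ A C →ₗ[k] RQ B C := Submodule.factor hST
  have hπ : Function.Surjective π := Submodule.factor_surjective hST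
  have h1 := LinearMap.rank_eq_of_surjective hπ
  have h2 : LinearMap.ker π = LinearMap.range (toRQ A hBC) := by
    ext q
    obtain ⟨c, rfl⟩ := Submodule.mkQ_surjective _ q
    simp only [LinearMap.mem_ker, LinearMap.mem_range]
    constructor
    · intro h
      have hc : (c : V) ∈ B := by
        have : π ((A.submoduleOf C).mkQ c) = (B.submoduleOf C).mkQ c := Submodule.factor_mk hST c
        rw [this, Submodule.mkQ_apply, Submodule.Quotient.mk_eq_zero] at h
        exact h
      exact ⟨⟨c, hc⟩, by simp [toRQ]; rfl⟩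
    · rintro ⟨b, hb⟩
      rw [← hb]
      simp only [toRQ, LinearMap.comp_apply]
      have : π ((A.submoduleOf C).mkQ (Submodule.inclusion hBC b)) =
          (B.submoduleOf C).mkQ (Submodule.inclusion hBC b) := Submodule.factor_mk hST _
      rw [this, Submodule.mkQ_apply, Submodule.Quotient.mk_eq_zero]
      exact b.2
  have h3 : Module.rank k (LinearMap.range (toRQ A hBC)) = Module.rank k (RQ A B) := by
    have e := (toRQ A hBC).quotKerEquivRange
    rw [ker_toRQ] at e
    exact e.symm.rank_eq
  rw [h1, h2, h3, add_comm]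


open Cardinal

/-- `B/(A ∩ B)` is finite-dimensional -/
def FinIdx (A B : Submodule k V) : Prop := FiniteDimensional k (RQ A B)

/-- the dimension of `B/(A ∩ B)` -/
noncomputable def idx (A B : Submodule k V) : ℕ := Module.finrank k (RQ A B)

theorem finIdx_iff_rank_lt {A B : Submodule k V} : FinIdx A B ↔ Module.rank k (RQ A B) < ℵ₀ :=
  Module.rank_lt_aleph0_iff.symm

theorem FinIdx.rank_eq {A B : Submodule k V} (h : FinIdx A B) :
    Module.rank k (RQ A B) = (idx A B : Cardinal) := by
  have : FiniteDimensional k (RQ A B) := h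
  exact (Module.finrank_eq_rank k (RQ A B)).symm

theorem FinIdx.trans {A B C : Submodule k V} (hAB : A ≤ B) (hBC : B ≤ C) (h1 : FinIdx A B)
    (h2 : FinIdx B C) : FinIdx A C := by
  rw [finIdx_iff_rank_lt] at *
  rw [← rank_RQ_add hAB hBC]
  exact add_lt_aleph0 h1 h2

theorem FinIdx.left {A B C : Submodule k V} (hAB : A ≤ B) (hBC : B ≤ C) (h : FinIdx A C) :
    FinIdx A B := by
  rw [finIdx_iff_rank_lt] at *
  rw [← rank_RQ_add hAB hBC] at h
  exact lt_of_le_of_lt (self_le_add_right _ _) h

theorem FinIdx.right {A B C : Submodule k V} (hAB : A ≤ B) (hBC : B ≤ C) (h : FinIdx A C) :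
    FinIdx B C := by
  rw [finIdx_iff_rank_lt] at *
  rw [← rank_RQ_add hAB hBC] at h
  exact lt_of_le_of_lt (self_le_add_left _ _) h

theorem idx_add {A B C : Submodule k V} (hAB : A ≤ B) (hBC : B ≤ C) (h1 : FinIdx A B)
    (h2 : FinIdx B C) : idx A B + idx B C = idx A C := by
  have h3 := (h1.trans hAB hBC h2).rank_eq
  rw [← rank_RQ_add hAB hBC, h1.rank_eq, h2.rank_eq] at h3
  exact_mod_cast h3

theorem finIdx_self (A : Submodule k V) : FinIdx A A := by
  have : Subsingleton (RQ A A) := by
    rw [Submodule.Quotient.subsingleton_iff]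
    ext x
    simp [Submodule.submoduleOf]
  unfold FinIdx
  infer_instance

theorem idx_self (A : Submodule k V) : idx A A = 0 := by
  have : Subsingleton (RQ A A) := by
    rw [Submodule.Quotient.subsingleton_iff]
    ext x
    simp [Submodule.submoduleOf]
  exact Module.finrank_zero_of_subsingleton

/-- a linear map `B → W` with kernel `A ∩ B` bounds the relative rank by `rank W` -/
theorem rank_RQ_le_of_ker {A B : Submodule k V} {W : Type v} [AddCommGroup W] [Module k W]
    (f : B →ₗ[k] W) (hf : LinearMap.ker f = A.submoduleOf B) :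
    Module.rank k (RQ A B) ≤ Module.rank k W := by
  have e := f.quotKerEquivRange
  rw [hf] at e
  rw [e.rank_eq]
  exact Submodule.rank_le _

/-- a surjective linear map `B → W` with kernel `A ∩ B` identifies `B/(A∩B)` with `W` -/
noncomputable def equivOfSurjective {A B : Submodule k V} {W : Type*} [AddCommGroup W] [Module k W]
    (f : B →ₗ[k] W) (hf : LinearMap.ker f = A.submoduleOf B) (hs : Function.Surjective f) :
    RQ A B ≃ₗ[k] W :=
  (Submodule.quotEquivOfEq _ _ hf.symm).trans (f.quotKerEquivOfSurjective hs)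

/-- second isomorphism theorem -/
noncomputable def supEquiv (A B : Submodule k V) : RQ A B ≃ₗ[k] RQ A (A ⊔ B) := by
  refine equivOfSurjective (toRQ A (le_sup_right : B ≤ A ⊔ B)) (ker_toRQ A _) ?_
  intro q
  obtain ⟨⟨c, hc⟩, rfl⟩ := Submodule.mkQ_surjective _ q
  obtain ⟨a, ha, b, hb, rfl⟩ := Submodule.mem_sup.1 hc
  refine ⟨⟨b, hb⟩, ?_⟩
  simp only [toRQ, LinearMap.comp_apply, Submodule.mkQ_apply]
  rw [Submodule.Quotient.eq]
  change (b - (a + b)) ∈ A
  have : b - (a + b) = -a := by abel
  rw [this]
  exact A.neg_mem ha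

end Groth.Agent.Lib.Helper2.RelDim

namespace Groth.Agent.Lib.Helper2.RelDim

universe u v
variable {k : Type u} {V : Type v} [Field k] [AddCommGroup V] [Module k V]

theorem finiteDimensional_of_finIdx {A B : Submodule k V} (hAB : A ≤ B) [hA : FiniteDimensional k A]
    (h : FinIdx A B) : FiniteDimensional k B := by
  haveI : FiniteDimensional k (A.submoduleOf B) :=
    (Submodule.submoduleOfEquivOfLe hAB).symm.finiteDimensional
  haveI : FiniteDimensional k (B ⧸ A.submoduleOf B) := h
  exact Module.Finite.of_submodule_quotient (A.submoduleOf B)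

theorem finrank_add_idx {A B : Submodule k V} (hAB : A ≤ B) [hB : FiniteDimensional k B] :
    Module.finrank k A + idx A B = Module.finrank k B := by
  have h1 := Submodule.finrank_quotient_add_finrank (A.submoduleOf B)
  have h2 : Module.finrank k (A.submoduleOf B) = Module.finrank k A :=
    (Submodule.submoduleOfEquivOfLe hAB).finrank_eq
  unfold idx RQ
  omega

theorem finIdx_of_finiteDimensional (A B : Submodule k V) [hB : FiniteDimensional k B] :
    FinIdx A B := by
  unfold FinIdx RQ
  infer_instance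

end Groth.Agent.Lib.Helper2.RelDim

namespace Groth.Agent.Lib.Helper2.RelDim

universe u v w
variable {k : Type u} {V : Type v} [Field k] [AddCommGroup V] [Module k V]

/-- `RQ A B` only depends on `A ⊓ B` -/
theorem submoduleOf_eq_of_inf_eq {A A' B : Submodule k V} (h : A ⊓ B = A' ⊓ B) :
    A.submoduleOf B = A'.submoduleOf B := by
  ext x
  have h1 : (x : V) ∈ A ⊓ B ↔ (x : V) ∈ A' ⊓ B := by rw [h]
  simp only [Submodule.mem_inf, x.2, and_true] at h1
  exact h1

theorem finIdx_congr_inf {A A' B : Submodule k V} (h : A ⊓ B = A' ⊓ B) :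
    FinIdx A B ↔ FinIdx A' B := by
  unfold FinIdx RQ
  rw [submoduleOf_eq_of_inf_eq h]

theorem idx_congr_inf {A A' B : Submodule k V} (h : A ⊓ B = A' ⊓ B) : idx A B = idx A' B := by
  unfold idx RQ
  rw [submoduleOf_eq_of_inf_eq h]

theorem finIdx_sup_iff (A B : Submodule k V) : FinIdx A (A ⊔ B) ↔ FinIdx A B := by
  unfold FinIdx
  exact ⟨fun h => Module.Finite.equiv (supEquiv A B).symm, fun h => Module.Finite.equiv (supEquiv A B)⟩

theorem idx_sup (A B : Submodule k V) : idx A (A ⊔ B) = idx A B :=
  (supEquiv A B).symm.finrank_eq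

/-- images under an injective linear map -/
noncomputable def mapEquiv {W : Type w} [AddCommGroup W] [Module k W] (f : V →ₗ[k] W)
    (hf : Function.Injective f) (A B : Submodule k V) :
    RQ A B ≃ₗ[k] RQ (A.map f) (B.map f) := by
  let g : B →ₗ[k] RQ (A.map f) (B.map f) :=
    ((A.map f).submoduleOf (B.map f)).mkQ.comp
      (LinearMap.codRestrict (B.map f) (f.comp B.subtype) (fun b => ⟨b.1, b.2, rfl⟩))
  refine equivOfSurjective g ?_ ?_
  · ext b
    simp only [g, LinearMap.mem_ker, LinearMap.comp_apply, Submodule.mkQ_apply]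
    rw [Submodule.Quotient.mk_eq_zero]
    change f b.1 ∈ A.map f ↔ b.1 ∈ A
    constructor
    · rintro ⟨a, ha, hab⟩
      rwa [← hf hab]
    · intro h
      exact ⟨b.1, h, rfl⟩
  · intro q
    obtain ⟨⟨c, b, hb, rfl⟩, rfl⟩ := Submodule.mkQ_surjective _ q
    exact ⟨⟨b, hb⟩, rfl⟩

theorem finIdx_map {W : Type w} [AddCommGroup W] [Module k W] (f : V →ₗ[k] W)
    (hf : Function.Injective f) (A B : Submodule k V) :
    FinIdx (A.map f) (B.map f) ↔ FinIdx A B := by
  unfold FinIdx
  exact ⟨fun h => Module.Finite.equiv (mapEquiv f hf A B).symm,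
    fun h => Module.Finite.equiv (mapEquiv f hf A B)⟩

theorem idx_map {W : Type w} [AddCommGroup W] [Module k W] (f : V →ₗ[k] W)
    (hf : Function.Injective f) (A B : Submodule k V) :
    idx (A.map f) (B.map f) = idx A B :=
  (mapEquiv f hf A B).symm.finrank_eq

theorem idx_eq_zero_iff {A B : Submodule k V} (h : FinIdx A B) : idx A B = 0 ↔ B ≤ A := by
  haveI : FiniteDimensional k (RQ A B) := h
  unfold idx
  rw [Module.finrank_zero_iff]
  constructor
  · intro hs b hb
    have : (A.submoduleOf B).mkQ ⟨b, hb⟩ = 0 := Subsingleton.elim _ _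
    rw [Submodule.mkQ_apply, Submodule.Quotient.mk_eq_zero] at this
    exact this
  · intro hle
    rw [Submodule.Quotient.subsingleton_iff]
    ext x
    simp only [Submodule.mem_top, iff_true]
    exact hle x.2

end Groth.Agent.Lib.Helper2.RelDim
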