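import Mathlib
import Groth.Agent.Lib.Helper9.FlatArtin
import Groth.Agent.Lib.Helper22.FlatKer

/-!
# Flatness over Artinian local rings via the residue field
-/

set_option autoImplicit false
universe u v

namespace Groth.Agent.Lib.Helper2.ArtinFlat

open TensorProduct Function

variable {A : Type u} [CommRing A] [IsLocalRing A] [IsArtinianRing A]

lemma isNilpotent_maximalIdeal : IsNilpotent (IsLocalRing.maximalIdeal A) := by
  have := IsArtinianRing.isNilpotent_jacobson_bot (R := A)
  rwa [IsLocalRing.jacobson_eq_maximalIdeal ⊥ bot_ne_top] at this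

/-- `k ⊗ u` injective with flat target implies `V ⊗ u` injective for all `V`. -/
theorem lTensor_injective_of_residue {N M : Type v} [AddCommGroup N] [Module A N]
    [AddCommGroup M] [Module A M] [Module.Flat A M] (u : N →ₗ[A] M)
    (h : Injective (u.lTensor (IsLocalRing.ResidueField A)))
    (V : Type v) [AddCommGroup V] [Module A V] : Injective (u.lTensor V) := by
  obtain ⟨n, hn⟩ := isNilpotent_maximalIdeal (A := A)
  refine Helper9.lTensor_injective_of_isTorsionBySet_pow u h n ?_
  intro x a
  have : (a : A) = 0 := by
    have h1 : ∀ b ∈ IsLocalRing.maximalIdeal A ^ n, b = 0 := by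
      rw [hn]
      intro b hb
      simpa using hb
    exact h1 _ a.2
  rw [this, zero_smul]

theorem lTensor_injective_of_residue' {N M : Type v} [AddCommGroup N] [Module A N]
    [AddCommGroup M] [Module A M] [Module.Flat A M] (u : N →ₗ[A] M)
    (h : Injective (u.lTensor (IsLocalRing.ResidueField A)))
    (V : Type u) [AddCommGroup V] [Module A V] : Injective (u.lTensor V) := by
  obtain ⟨n, hn⟩ := isNilpotent_maximalIdeal (A := A)
  refine Helper9.lTensor_injective_of_isTorsionBySet_pow u h n ?_
  intro x a
  have : (a : A) = 0 := by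
    have h1 : ∀ b ∈ IsLocalRing.maximalIdeal A ^ n, b = 0 := by
      rw [hn]
      intro b hb
      simpa using hb
    exact h1 _ a.2
  rw [this, zero_smul]

theorem injective_of_residue {N M : Type v} [AddCommGroup N] [Module A N]
    [AddCommGroup M] [Module A M] [Module.Flat A M] (u : N →ₗ[A] M)
    (h : Injective (u.lTensor (IsLocalRing.ResidueField A))) : Injective u := by
  have h1 := lTensor_injective_of_residue' u h A
  intro a b hab
  have h2 : u.lTensor A (1 ⊗ₜ a) = u.lTensor A (1 ⊗ₜ b) := by
    rw [LinearMap.lTensor_tmul, LinearMap.lTensor_tmul, hab]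
  have h3 := congrArg (TensorProduct.lid A N) (h1 h2)
  simpa using h3

/-- `M → N → P → 0` exact with `N` flat and `k ⊗ M → k ⊗ N` injective: `P` is flat. -/
theorem flat_of_exact_of_residue {M N P : Type v} [AddCommGroup M] [Module A M]
    [AddCommGroup N] [Module A N] [AddCommGroup P] [Module A P] [Module.Flat A N]
    (f : M →ₗ[A] N) (g : N →ₗ[A] P) (hg : Surjective g) (hfg : Function.Exact f g)
    (h : Injective (f.lTensor (IsLocalRing.ResidueField A))) : Module.Flat A P := by
  rw [Module.Flat.iff_lTensor_injective']
  intro I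
  exact lTensor_injective_of_exact_of_exact_of_rTensor_injective
    hfg hg (LinearMap.exact_subtype_mkQ I) (Submodule.mkQ_surjective _)
    ((f.lTensor_inj_iff_rTensor_inj (A ⧸ I)).mp (lTensor_injective_of_residue' f h (A ⧸ I)))
    (Module.Flat.lTensor_preserves_injective_linearMap _ I.injective_subtype)

/-- residue-field Nakayama for surjectivity. -/
theorem surjective_of_residue {P L : Type v} [AddCommGroup P] [Module A P]
    [AddCommGroup L] [Module A L] (h : P →ₗ[A] L)
    (hs : Surjective (h.lTensor (IsLocalRing.ResidueField A))) : Surjective h := by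
  set Q := L ⧸ LinearMap.range h
  have hex : Function.Exact h (LinearMap.range h).mkQ := LinearMap.exact_map_mkQ_range h
  have hex' := lTensor_exact (IsLocalRing.ResidueField A) hex (Submodule.mkQ_surjective _)
  have hsub : Subsingleton ((A ⧸ IsLocalRing.maximalIdeal A) ⊗[A] Q) := by
    refine ⟨fun x y => ?_⟩
    have hz : ∀ z : (IsLocalRing.ResidueField A) ⊗[A] Q, z = 0 := by
      intro z
      obtain ⟨w, rfl⟩ := LinearMap.lTensor_surjective (IsLocalRing.ResidueField A)
        (Submodule.mkQ_surjective (LinearMap.range h)) z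
      obtain ⟨w', rfl⟩ := hs w
      exact hex'.apply_apply_eq_zero w'
    exact (hz x).trans (hz y).symm
  have := Helper9.subsingleton_of_subsingleton_quotient_tensor (M := Q)
    (IsLocalRing.maximalIdeal A) isNilpotent_maximalIdeal
  rw [← LinearMap.range_eq_top]
  exact Submodule.Quotient.subsingleton_iff.mp this

/-- The four-term criterion. -/
theorem flat_and_exact_of_complex {P Q R M : Type v} [AddCommGroup P] [Module A P]
    [AddCommGroup Q] [Module A Q] [AddCommGroup R] [Module A R] [AddCommGroup M] [Module A M]
    [Module.Flat A R]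
    (f : P →ₗ[A] Q) (g : Q →ₗ[A] R) (h : R →ₗ[A] M)
    (hfg : g ∘ₗ f = 0) (hgh : Function.Exact g h) (hh : Function.Surjective h)
    (hred : Function.Exact (f.lTensor (IsLocalRing.ResidueField A))
      (g.lTensor (IsLocalRing.ResidueField A))) :
    Module.Flat A M ∧ Function.Exact f g := by
  have hle : LinearMap.range f ≤ LinearMap.ker g := by
    rintro _ ⟨x, rfl⟩
    exact congrArg (fun φ => φ x) hfg
  set u : (Q ⧸ LinearMap.range f) →ₗ[A] R := (LinearMap.range f).liftQ g hle with hu
  have hucomp : u ∘ₗ (LinearMap.range f).mkQ = g := Submodule.liftQ_mkQ _ _ _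
  have hπf : (LinearMap.range f).mkQ ∘ₗ f = 0 := by
    ext x
    simp
  have huinj : Injective (u.lTensor (IsLocalRing.ResidueField A)) := by
    rw [injective_iff_map_eq_zero]
    intro x hx
    obtain ⟨y, rfl⟩ := LinearMap.lTensor_surjective (IsLocalRing.ResidueField A)
      (Submodule.mkQ_surjective (LinearMap.range f)) x
    rw [← LinearMap.comp_apply, ← LinearMap.lTensor_comp, hucomp] at hx
    obtain ⟨z, rfl⟩ := (hred y).mp hx
    rw [← LinearMap.comp_apply, ← LinearMap.lTensor_comp, hπf, LinearMap.lTensor_zero,
      LinearMap.zero_apply]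
  have hui : Injective u := injective_of_residue u huinj
  constructor
  · refine flat_of_exact_of_residue u h hh ?_ huinj
    intro r
    rw [hgh r]
    constructor
    · rintro ⟨q, rfl⟩
      exact ⟨(LinearMap.range f).mkQ q, congrArg (fun φ => φ q) hucomp⟩
    · rintro ⟨q, rfl⟩
      obtain ⟨q', rfl⟩ := Submodule.mkQ_surjective _ q
      exact ⟨q', (congrArg (fun φ => φ q') hucomp).symm⟩
  · intro q
    constructor
    · intro hq
      have : u ((LinearMap.range f).mkQ q) = 0 := by
        rw [← LinearMap.comp_apply, hucomp, hq]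
      have h0 := hui (this.trans (map_zero u).symm)
      rwa [Submodule.mkQ_apply, Submodule.Quotient.mk_eq_zero] at h0
    · rintro ⟨p, rfl⟩
      exact congrArg (fun φ => φ p) hfg

end Groth.Agent.Lib.Helper2.ArtinFlat
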