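import Mathlib

/-!
# Consequences of the Artin–Rees lemma for linear maps

* `map_mem_smul_top`, `pi_mem_smul_top`: linear maps preserve `J • ⊤`.
* `exists_forall_exists_mem_smul_top_map_eq`: for `T : P → Q` with `Q` finite over a Noetherian ring,
  there is `c` with `T x ∈ I^(n+c) Q → ∃ y ∈ I^n P, T y = T x`.
* `exists_forall_smul_mem_smul_top_of_injective`: for injective `ev : H → P`, `P` finite, there is `c`
  with `ev φ ∈ I^n P → I^c φ ⊆ I^n H`.
-/

set_option autoImplicit false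
universe u v w

namespace Groth.Agent.Lib.Helper2

variable {A : Type u} [CommRing A]

theorem map_mem_smul_top {X : Type v} {Y : Type w} [AddCommGroup X] [Module A X] [AddCommGroup Y]
    [Module A Y] (J : Ideal A) (g : X →ₗ[A] Y) {x : X} (hx : x ∈ (J • ⊤ : Submodule A X)) :
    g x ∈ (J • ⊤ : Submodule A Y) := by
  have : (J • ⊤ : Submodule A X).map g ≤ J • ⊤ := by
    rw [Submodule.map_smul'']; exact Submodule.smul_mono le_rfl le_top
  exact this ⟨x, hx, rfl⟩

theorem pi_mem_smul_top {ι : Type w} [Fintype ι] [DecidableEq ι] {N : Type v} [AddCommGroup N]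
    [Module A N] (J : Ideal A) (x : ι → N) (hx : ∀ i, x i ∈ (J • ⊤ : Submodule A N)) :
    x ∈ (J • ⊤ : Submodule A (ι → N)) := by
  have : x = ∑ i, LinearMap.single A (fun _ => N) i (x i) := by
    ext j; simp [Pi.single_apply]
  rw [this]
  exact Submodule.sum_mem _ fun i _ => map_mem_smul_top J _ (hx i)

theorem exists_forall_exists_mem_smul_top_map_eq [IsNoetherianRing A] (I : Ideal A)
    {P : Type v} {Q : Type w} [AddCommGroup P] [Module A P] [AddCommGroup Q] [Module A Q]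
    [Module.Finite A Q] (T : P →ₗ[A] Q) :
    ∃ c : ℕ, ∀ n : ℕ, ∀ x : P, T x ∈ (I ^ (n + c) • ⊤ : Submodule A Q) →
      ∃ y ∈ (I ^ n • ⊤ : Submodule A P), T y = T x := by
  obtain ⟨k, hk⟩ := Ideal.exists_pow_inf_eq_pow_smul I (LinearMap.range T)
  refine ⟨k, fun n x hx => ?_⟩
  have h1 : T x ∈ I ^ (n + k) • ⊤ ⊓ LinearMap.range T := ⟨hx, ⟨x, rfl⟩⟩
  rw [hk (n + k) (by omega), Nat.add_sub_cancel] at h1
  have h2 : I ^ n • (I ^ k • ⊤ ⊓ LinearMap.range T) ≤ (I ^ n • ⊤ : Submodule A P).map T := by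
    rw [Submodule.map_smul'', Submodule.map_top]
    exact Submodule.smul_mono le_rfl inf_le_right
  obtain ⟨y, hy, hyx⟩ := h2 h1
  exact ⟨y, hy, hyx⟩

theorem exists_forall_smul_mem_smul_top_of_injective [IsNoetherianRing A] (I : Ideal A)
    {H : Type v} {P : Type w} [AddCommGroup H] [Module A H] [AddCommGroup P] [Module A P]
    [Module.Finite A P] (ev : H →ₗ[A] P) (hev : Function.Injective ev) :
    ∃ c : ℕ, ∀ n : ℕ, ∀ φ : H, ev φ ∈ (I ^ n • ⊤ : Submodule A P) →
      ∀ a ∈ I ^ c, a • φ ∈ (I ^ n • ⊤ : Submodule A H) := by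
  obtain ⟨k, hk⟩ := Ideal.exists_pow_inf_eq_pow_smul I (LinearMap.range ev)
  refine ⟨k, fun n φ hφ a ha => ?_⟩
  by_cases hnk : k ≤ n
  · have h1 : ev φ ∈ I ^ n • ⊤ ⊓ LinearMap.range ev := ⟨hφ, ⟨φ, rfl⟩⟩
    rw [hk n hnk] at h1
    have h2 : ev φ ∈ I ^ (n - k) • LinearMap.range ev :=
      Submodule.smul_mono le_rfl inf_le_right h1
    have h3 : a • ev φ ∈ I ^ k • (I ^ (n - k) • LinearMap.range ev) :=
      Submodule.smul_mem_smul ha h2
    rw [← Submodule.mul_smul, ← pow_add, Nat.add_sub_cancel' hnk, ← Submodule.map_top,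
      ← Submodule.map_smul''] at h3
    obtain ⟨φ', hφ', hφ'e⟩ := h3
    have : φ' = a • φ := hev (by rw [hφ'e, map_smul])
    rw [← this]; exact hφ'
  · have hle : I ^ k ≤ I ^ n := Ideal.pow_le_pow_right (by omega)
    exact Submodule.smul_mem_smul (hle ha) Submodule.mem_top

end Groth.Agent.Lib.Helper2
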