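import Mathlib

/-!
# Finitely generated torsion-free-ish modules over Bézout domains

`free_of_injective_fin`: a finite module over a Bézout domain that embeds in `Fin n → R` is free.
`free_of_fg_submodule_free`: a finitely generated submodule of a free module over a Bézout domain
is free.
-/

set_option autoImplicit false
universe u v

namespace Groth.Agent.Lib.Helper2

/-- A finitely generated ideal of a Bézout domain is a free module. -/
theorem free_of_fg_ideal (R : Type u) [CommRing R] [IsDomain R] [IsBezout R] (I : Ideal R)
    (hI : I.FG) : Module.Free R I := by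
  have hp : Submodule.IsPrincipal I := IsBezout.isPrincipal_of_FG I hI
  obtain ⟨d, rfl⟩ := hp.principal
  by_cases hd : d = 0
  · subst hd
    have : Subsingleton (Submodule.span R ({0} : Set R)) := by
      rw [Submodule.span_zero_singleton]
      infer_instance
    exact Module.Free.of_subsingleton R _
  · exact Module.Free.of_equiv (LinearEquiv.toSpanNonzeroSingleton R R d hd)

/-- A finite module over a Bézout domain embedding into `Fin n → R` is free. -/
theorem free_of_injective_fin (R : Type u) [CommRing R] [IsDomain R] [IsBezout R] (n : ℕ) :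
    ∀ (M : Type v) [AddCommGroup M] [Module R M] [Module.Finite R M]
      (g : M →ₗ[R] (Fin n → R)), Function.Injective g → Module.Free R M := by
  induction n with
  | zero =>
    intro M _ _ _ g hg
    have : Subsingleton M := hg.subsingleton
    exact Module.Free.of_subsingleton R M
  | succ n ih =>
    intro M _ _ _ g hg
    -- first coordinate
    let π₀ : M →ₗ[R] R := (LinearMap.proj 0) ∘ₗ g
    let I : Ideal R := LinearMap.range π₀
    have hIfg : I.FG := by
      have : (⊤ : Submodule R M).FG := Module.Finite.fg_top
      have h2 := this.map π₀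
      rwa [Submodule.map_top] at h2
    have : Module.Free R I := free_of_fg_ideal R I hIfg
    let p : M →ₗ[R] I := π₀.rangeRestrict
    have hp : Function.Surjective p := LinearMap.surjective_rangeRestrict π₀
    obtain ⟨s, hs⟩ := Module.projective_lifting_property p LinearMap.id hp
    have hex : Function.Exact (LinearMap.ker p).subtype p := LinearMap.exact_subtype_ker_map p
    have hinj : Function.Injective (LinearMap.ker p).subtype := Submodule.subtype_injective _
    let e : M ≃ₗ[R] (LinearMap.ker p) × I :=
      (Function.Exact.splitSurjectiveEquiv hex hinj ⟨s, hs⟩).1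
    -- the kernel is finite
    have : Module.Finite R (LinearMap.ker p) :=
      Module.Finite.of_surjective ((LinearMap.fst R (LinearMap.ker p) I) ∘ₗ e.toLinearMap)
        (by intro k; exact ⟨e.symm (k, 0), by simp⟩)
    -- the kernel embeds into `Fin n → R`
    let g' : LinearMap.ker p →ₗ[R] (Fin n → R) :=
      (LinearMap.funLeft R R Fin.succ) ∘ₗ g ∘ₗ (LinearMap.ker p).subtype
    have hg' : Function.Injective g' := by
      rw [← LinearMap.ker_eq_bot, LinearMap.ker_eq_bot']
      rintro ⟨k, hk⟩ hk0
      have hk1 : g k 0 = 0 := by
        have := congrArg Subtype.val (LinearMap.mem_ker.1 hk)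
        exact this
      have hk2 : g k = 0 := by
        funext i
        refine Fin.cases hk1 (fun j => ?_) i
        exact congrFun hk0 j
      have : k = 0 := hg (by rw [hk2, map_zero])
      exact Subtype.ext this
    have : Module.Free R (LinearMap.ker p) := ih (LinearMap.ker p) g' hg'
    exact Module.Free.of_equiv e.symm

/-- A finitely generated submodule of a free module over a Bézout domain is free. -/
theorem free_of_fg_submodule_free (R : Type u) [CommRing R] [IsDomain R] [IsBezout R]
    (F : Type v) [AddCommGroup F] [Module R F] [Module.Free R F] (N : Submodule R F) (hN : N.FG) :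
    Module.Free R N := by
  classical
  let b := Module.Free.chooseBasis R F
  obtain ⟨S, hS⟩ := hN
  let T : Finset (Module.Free.ChooseBasisIndex R F) := S.biUnion (fun x => (b.repr x).support)
  have hT : ∀ x ∈ N, ∀ i, i ∉ T → b.repr x i = 0 := by
    intro x hx i hi
    rw [← hS] at hx
    induction hx using Submodule.span_induction with
    | mem y hy =>
      by_contra hne
      exact hi (Finset.mem_biUnion.2 ⟨y, hy, Finsupp.mem_support_iff.2 hne⟩)
    | zero => simp
    | add y z _ _ hy hz => rw [map_add, Finsupp.add_apply, hy, hz, add_zero]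
    | smul r y _ hy => rw [map_smul, Finsupp.smul_apply, hy, smul_zero]
  have : Module.Finite R N := Module.Finite.iff_fg.2 ⟨S, hS⟩
  let g₀ : N →ₗ[R] (T → R) :=
    LinearMap.pi (fun t => (Finsupp.lapply t.1) ∘ₗ b.repr.toLinearMap ∘ₗ N.subtype)
  have hg₀ : Function.Injective g₀ := by
    rw [← LinearMap.ker_eq_bot, LinearMap.ker_eq_bot']
    rintro ⟨x, hx⟩ h0
    have h1 : b.repr x = 0 := by
      ext i
      by_cases hi : i ∈ T
      · exact congrFun h0 ⟨i, hi⟩
      · exact hT x hx i hi
    exact Subtype.ext (b.repr.map_eq_zero_iff.1 h1)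
  let eT : T ≃ Fin (Fintype.card T) := Fintype.equivFin T
  let g : N →ₗ[R] (Fin (Fintype.card T) → R) :=
    (LinearEquiv.funCongrLeft R R eT.symm).toLinearMap ∘ₗ g₀
  have hg : Function.Injective g := by
    change Function.Injective ((LinearEquiv.funCongrLeft R R eT.symm) ∘ g₀)
    exact (LinearEquiv.injective _).comp hg₀
  exact free_of_injective_fin R _ N g hg

end Groth.Agent.Lib.Helper2

namespace Groth.Agent.Lib.Helper2

/-- Over a Bézout domain, a surjective linear functional on `Fin (n+1) → R` is the first coordinate
of a linear automorphism. -/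
theorem exists_linearEquiv_first_coord (R : Type u) [CommRing R] [IsDomain R] [IsBezout R]
    (n : ℕ) (φ : (Fin (n + 1) → R) →ₗ[R] R) (hφ : Function.Surjective φ) :
    ∃ E : (Fin (n + 1) → R) ≃ₗ[R] (Fin (n + 1) → R), ∀ v, E v 0 = φ v := by
  obtain ⟨s, hs⟩ := Module.projective_lifting_property φ LinearMap.id hφ
  have hex : Function.Exact (LinearMap.ker φ).subtype φ := LinearMap.exact_subtype_ker_map φ
  have hinj : Function.Injective (LinearMap.ker φ).subtype := Submodule.subtype_injective _
  let e' := Function.Exact.splitSurjectiveEquiv hex hinj ⟨s, hs⟩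
  let e : (Fin (n + 1) → R) ≃ₗ[R] (LinearMap.ker φ) × R := e'.1
  have he2 : φ = LinearMap.snd R (LinearMap.ker φ) R ∘ₗ e.toLinearMap := e'.2.2
  have hfin : Module.Finite R (LinearMap.ker φ) :=
    Module.Finite.of_surjective ((LinearMap.fst R (LinearMap.ker φ) R) ∘ₗ e.toLinearMap)
      (by intro k; exact ⟨e.symm (k, 0), by simp⟩)
  have hfree : Module.Free R (LinearMap.ker φ) :=
    free_of_fg_submodule_free R _ _ (Module.Finite.iff_fg.1 hfin)
  have hrank : Module.finrank R (LinearMap.ker φ) = n := by
    have h1 := e.finrank_eq
    rw [Module.finrank_prod, Module.finrank_self, Module.finrank_fin_fun] at h1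
    omega
  let bK : Module.Basis (Fin n) R (LinearMap.ker φ) := Module.finBasisOfFinrankEq R _ hrank
  let E : (Fin (n + 1) → R) ≃ₗ[R] (Fin (n + 1) → R) :=
    e ≪≫ₗ (LinearEquiv.prodCongr bK.equivFun (LinearEquiv.refl R R)) ≪≫ₗ
      (LinearEquiv.prodComm R _ _) ≪≫ₗ (Fin.consLinearEquiv R (fun _ : Fin (n + 1) => R))
  refine ⟨E, fun v => ?_⟩
  have : φ v = (e v).2 := LinearMap.congr_fun he2 v
  rw [this]
  rfl

end Groth.Agent.Lib.Helper2
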