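import Mathlib
import Groth.Agent.Lib.Helper10.LanFlat

/-!
# Left Kan extension along `Over.map f` is exact on abelian presheaves (helper2)

For `f : X ⟶ Y` in a category `C`, the comma categories of `(Over.map f).op` are disjoint unions of
categories with a terminal object, so `Lan` along it (on `AddCommGrpCat`-valued presheaves) is a direct
sum and preserves monomorphisms.  Universe-general adaptation of `Helper20.ExtByZero`.
-/

set_option autoImplicit false
universe w w'
open CategoryTheory Limits Opposite

namespace Groth.Agent.Lib.Helper2.OverMapLan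

/-- colimits over a category with a final functor from a discrete category preserve monos in Ab -/
theorem mono_colimMap_of_final_discrete {J : Type w} [Category.{w'} J] {T : Type w}
    (Φ : Discrete T ⥤ J) [Φ.Final]
    {K K' : J ⥤ AddCommGrpCat.{w}} [HasColimit K] [HasColimit K'] (β : K ⟶ K') [∀ j, Mono (β.app j)] :
    Mono (colimMap β) := by
  let e := Functor.Final.colimitIso Φ K
  let e' := Functor.Final.colimitIso Φ K'
  have h : colimMap (Functor.whiskerLeft Φ β) ≫ e'.hom = e.hom ≫ colimMap β := by
    apply colimit.hom_ext; intro t; simp [e, e']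
  have h1 : Mono (colimMap (Functor.whiskerLeft Φ β)) := by
    have : Mono (Functor.whiskerLeft Φ β) := by
      have : ∀ t, Mono ((Functor.whiskerLeft Φ β).app t) := fun t => by
        dsimp; infer_instance
      exact NatTrans.mono_of_mono_app _
    exact (inferInstance : Mono (colim.map (Functor.whiskerLeft Φ β)))
  have h2 : colimMap β = e.inv ≫ colimMap (Functor.whiskerLeft Φ β) ≫ e'.hom := by
    rw [h]; simp
  rw [h2]; infer_instance

section

variable {C : Type (w + 1)} [Category.{w} C] {X Y : C} (f : X ⟶ Y) (V : Over Y)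

/-- The object of the comma category attached to a morphism `ψ : V ⟶ (X ⟶ Y)` over `Y`. -/
def Φobj (ψ : V ⟶ Over.mk f) : CostructuredArrow (Over.map f).op (op V) :=
  CostructuredArrow.mk (S := (Over.map f).op) (Y := op (Over.mk ψ.left))
    ((Over.homMk (𝟙 V.left) (by simpa using Over.w ψ) :
      V ⟶ (Over.map f).obj (Over.mk ψ.left)).op)

/-- The discrete set of maps `V ⟶ X` over `Y` inside the comma category. -/
def Φ : Discrete (ULift.{w + 1} (V ⟶ Over.mk f)) ⥤ CostructuredArrow (Over.map f).op (op V) :=
  Discrete.functor (fun ψ => Φobj f V ψ.down)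

lemma Φ_obj (ψ : V ⟶ Over.mk f) : (Φ f V).obj ⟨⟨ψ⟩⟩ = Φobj f V ψ := rfl

lemma Φobj_hom_unop_left (ψ : V ⟶ Over.mk f) : (Φobj f V ψ).hom.unop.left = 𝟙 V.left := rfl

lemma Φobj_left (ψ : V ⟶ Over.mk f) : (Φobj f V ψ).left = op (Over.mk ψ.left) := rfl

/-- The component of the comma category containing `d`. -/
def ψ₀ (d : CostructuredArrow (Over.map f).op (op V)) : V ⟶ Over.mk f :=
  Over.homMk (d.hom.unop.left ≫ d.left.unop.hom) (by
    have := Over.w d.hom.unop
    simpa using this)

/-- The canonical map from `d` to the terminal object of its component. -/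
def m₀ (d : CostructuredArrow (Over.map f).op (op V)) : d ⟶ Φobj f V (ψ₀ f V d) :=
  CostructuredArrow.homMk
    (Quiver.Hom.op (Over.homMk (U := Over.mk (ψ₀ f V d).left) (V := d.left.unop) d.hom.unop.left rfl))
    (by
      apply Quiver.Hom.unop_inj
      apply Over.OverMorphism.ext
      simp [Φobj]
      all_goals rfl)

lemma key_left (d : CostructuredArrow (Over.map f).op (op V)) (ψ : V ⟶ Over.mk f)
    (m : d ⟶ Φobj f V ψ) : m.left.unop.left = d.hom.unop.left := by
  have := CostructuredArrow.w m
  have h2 := congrArg (fun k => k.unop.left) this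
  simpa [Φobj] using h2

lemma key_ψ (d : CostructuredArrow (Over.map f).op (op V)) (ψ : V ⟶ Over.mk f)
    (m : d ⟶ Φobj f V ψ) : ψ = ψ₀ f V d := by
  apply Over.OverMorphism.ext
  have h1 := key_left f V d ψ m
  have h2 := Over.w m.left.unop
  simp only [ψ₀, Over.homMk_left]
  rw [← h1]
  exact h2.symm

instance : (Φ f V).Final := by
  constructor
  intro d
  let x₀ : StructuredArrow d (Φ f V) := StructuredArrow.mk (Y := ⟨⟨ψ₀ f V d⟩⟩)
    (show d ⟶ (Φ f V).obj ⟨⟨ψ₀ f V d⟩⟩ from m₀ f V d)
  have key : ∀ x : StructuredArrow d (Φ f V), Nonempty (x₀ ⟶ x) := by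
    rintro ⟨⟨⟨⟩⟩, ⟨⟨ψ⟩⟩, m⟩
    have hψ : ψ = ψ₀ f V d := key_ψ f V d ψ m
    subst hψ
    refine ⟨StructuredArrow.homMk (𝟙 _) ?_⟩
    apply CostructuredArrow.hom_ext
    apply Quiver.Hom.unop_inj
    apply Over.OverMorphism.ext
    have e : (Φ f V).map (𝟙 x₀.right) = 𝟙 _ := (Φ f V).map_id _
    rw [e, Category.comp_id]
    exact (key_left f V d (ψ₀ f V d) m).symm
  have : Nonempty (StructuredArrow d (Φ f V)) := ⟨x₀⟩
  apply zigzag_isConnected
  intro x y
  obtain ⟨g⟩ := key x
  obtain ⟨g'⟩ := key y
  exact Relation.ReflTransGen.trans (Relation.ReflTransGen.single (Or.inr ⟨g⟩))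
    (Relation.ReflTransGen.single (Or.inl ⟨g'⟩))

end


section Lan

open Groth.Agent.Lib.Helper10.LanFlat

variable {C : Type (w + 1)} [Category.{w} C] {X Y : C} (f : X ⟶ Y)

instance hasColimitsOfShape_costructuredArrow (V : (Over Y)ᵒᵖ) :
    HasColimitsOfShape (CostructuredArrow (Over.map f).op V) AddCommGrpCat.{w + 1} :=
  hasColimitsOfShape_costructuredArrow_addCommGrp.{w, w, w + 1, w + 1, w + 1} (Over.map f) V

/-- Left Kan extension of abelian presheaves along `(Over.map f).op` preserves monomorphisms. -/
theorem lan_preservesMonomorphisms :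
    ((Over.map f).op.lan :
      ((Over X)ᵒᵖ ⥤ AddCommGrpCat.{w + 1}) ⥤ ((Over Y)ᵒᵖ ⥤ AddCommGrpCat.{w + 1})).PreservesMonomorphisms := by
  constructor
  intro G G' α hα
  rw [NatTrans.mono_iff_mono_app]
  intro V'
  obtain ⟨V⟩ := V'
  let iso := lanEvaluationIsoColim AddCommGrpCat.{w + 1} (Over.map f).op (op V)
  have hnat := iso.hom.naturality α
  have hmono : Mono (((Functor.whiskeringLeft _ _ AddCommGrpCat.{w + 1}).obj
      (CostructuredArrow.proj (Over.map f).op (op V)) ⋙ colim).map α) := by
    have : ∀ j, Mono ((Functor.whiskerLeft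
        (CostructuredArrow.proj (Over.map f).op (op V)) α).app j) := by
      intro j
      have := (NatTrans.mono_iff_mono_app α).1 hα
      dsimp
      infer_instance
    exact mono_colimMap_of_final_discrete (Φ f V) _
  have h2 : ((Over.map f).op.lan.map α).app (op V) =
      (iso.hom.app G) ≫ ((Functor.whiskeringLeft _ _ AddCommGrpCat.{w + 1}).obj
      (CostructuredArrow.proj (Over.map f).op (op V)) ⋙ colim).map α ≫ (iso.inv.app G') := by
    rw [← Category.assoc, ← hnat, Category.assoc]
    simp
  rw [h2]
  infer_instance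

end Lan


section Sheaf

variable {C : Type (w + 1)} [Category.{w} C] {X Y : C} (f : X ⟶ Y)
  (J : GrothendieckTopology (Over X)) (K : GrothendieckTopology (Over Y))
  [(Over.map f).IsContinuous J K]
  [HasSheafify K AddCommGrpCat.{w + 1}] [HasSheafify J AddCommGrpCat.{w + 1}]

instance pushforward_additive :
    ((Over.map f).sheafPushforwardContinuous AddCommGrpCat.{w + 1} J K).Additive where

/-- The constructed pullback (`Lan` + sheafification) along `Over.map f` preserves monomorphisms. -/
theorem construction_preservesMonomorphisms :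
    (Functor.sheafPullbackConstruction.sheafPullback (Over.map f) AddCommGrpCat.{w + 1} J K).PreservesMonomorphisms := by
  have h1 : (sheafToPresheaf J AddCommGrpCat.{w + 1}).PreservesMonomorphisms := inferInstance
  have h2 : (presheafToSheaf K AddCommGrpCat.{w + 1}).PreservesMonomorphisms := inferInstance
  have h3 := lan_preservesMonomorphisms (C := C) f
  unfold Functor.sheafPullbackConstruction.sheafPullback
  infer_instance

/-- `f_!` (the left adjoint of restriction along `Over.map f`) on abelian sheaves preserves monomorphisms. -/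
theorem sheafPullback_preservesMonomorphisms :
    ((Over.map f).sheafPullback AddCommGrpCat.{w + 1} J K).PreservesMonomorphisms := by
  have := construction_preservesMonomorphisms f J K
  exact Functor.PreservesMonomorphisms.of_iso
    (Functor.sheafPullbackConstruction.sheafPullbackIso (Over.map f) AddCommGrpCat.{w + 1} J K).symm

/-- `f_!` on abelian sheaves is exact. -/
theorem sheafPullback_preservesFiniteLimits :
    PreservesFiniteLimits ((Over.map f).sheafPullback AddCommGrpCat.{w + 1} J K) := by
  have h0 := sheafPullback_preservesMonomorphisms f J K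
  have adj := (Over.map f).sheafAdjunctionContinuous AddCommGrpCat.{w + 1} J K
  have : ((Over.map f).sheafPullback AddCommGrpCat.{w + 1} J K).Additive := adj.left_adjoint_additive
  have : PreservesFiniteColimits ((Over.map f).sheafPullback AddCommGrpCat.{w + 1} J K) := by
    have := adj.leftAdjoint_preservesColimits
    infer_instance
  have : ((Over.map f).sheafPullback AddCommGrpCat.{w + 1} J K).PreservesHomology :=
    Functor.preservesHomology_of_preservesMonos_and_cokernels _
  exact Functor.preservesFiniteLimits_of_preservesHomology _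

end Sheaf

end Groth.Agent.Lib.Helper2.OverMapLan
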