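import Mathlib
import Groth.Prelude.Def_BigSite
import Groth.Agent.Lib.Helper2.OverMapLan
import Groth.Agent.S0481

/-!
# Big and small sites: exactness of the left adjoints `π_S⁻¹`, `f_big!` and consequences (helper2)
-/

set_option autoImplicit false
universe u
open CategoryTheory CategoryTheory.Limits AlgebraicGeometry Opposite

namespace Groth.Agent.Lib.Helper2.BigSmall

open Groth.Agent.Lib.Helper10.LanFlat BigSite

set_option backward.isDefEq.respectTransparency.types false in
instance preservesFiniteLimits_a (S : Scheme.{u}) : PreservesFiniteLimits (EtFppf.a S) := by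
  change PreservesFiniteLimits (MorphismProperty.Over.forget EtCoh.etaleMP.{u} ⊤ S)
  infer_instance

instance representablyFlat_a (S : Scheme.{u}) : RepresentablyFlat (EtFppf.a S) :=
  flat_of_preservesFiniteLimits _

/-- `π_S⁻¹` is exact. -/
theorem piEtPull_preservesFiniteLimits (K : Precoverage Scheme.{u}) (S : Scheme.{u}) [AEtCont K S] :
    PreservesFiniteLimits (piEtPull K S) := by
  have h1 : ∀ V : (Over S)ᵒᵖ, HasColimitsOfShape (CostructuredArrow (EtFppf.a S).op V)
      AddCommGrpCat.{u + 1} :=
    fun V => hasColimitsOfShape_costructuredArrow_addCommGrp.{u, u, u + 1, u + 1, u + 1}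
      (EtFppf.a S) V
  have h2 : PreservesFiniteLimits ((EtFppf.a S).op.lan :
      ((S.Etale)ᵒᵖ ⥤ AddCommGrpCat.{u + 1}) ⥤ ((Over S)ᵒᵖ ⥤ AddCommGrpCat.{u + 1})) :=
    lan_preservesFiniteLimits_of_flat_addCommGrp.{u, u, u + 1, u + 1, u + 1} (EtFppf.a S)
  exact Functor.sheafPullbackConstruction.preservesFiniteLimits (EtFppf.a S) AddCommGrpCat.{u + 1}
    S.smallEtaleTopology (QuotSh.J K S)

/-- `f_big!` is exact. -/
theorem shriekAb_preservesFiniteLimits (K : Precoverage Scheme.{u}) {T S : Scheme.{u}} (f : T ⟶ S) :
    PreservesFiniteLimits (shriekAb K f) :=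
  Groth.Agent.Lib.Helper2.OverMapLan.sheafPullback_preservesFiniteLimits f _ _

/-- Restriction to the small etale site preserves injectives. -/
theorem injective_resEt (K : Precoverage Scheme.{u}) (S : Scheme.{u}) [AEtCont K S]
    (I : Ab K S) [Injective I] : Injective ((resEt K S).obj I) := by
  have := piEtPull_preservesFiniteLimits K S
  exact Injective.injective_of_adjoint (piEtAdj K S) I

/-- `f_big⁻¹` preserves injectives. -/
theorem injective_pullBig (K : Precoverage Scheme.{u}) {T S : Scheme.{u}} (f : T ⟶ S)
    (I : Ab K S) [Injective I] : Injective ((pullBig K f AddCommGrpCat.{u + 1}).obj I) := by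
  have := shriekAb_preservesFiniteLimits K f
  exact Injective.injective_of_adjoint (shriekAbAdj K f) I


/-- Restriction to the small etale site preserves K-injective complexes. -/
theorem isKInjective_resEt (K : Precoverage Scheme.{u}) (S : Scheme.{u}) [AEtCont K S]
    (I : CochainComplex (Ab K S) ℤ) [hI : I.IsKInjective] :
    CochainComplex.IsKInjective (((resEt K S).mapHomologicalComplex (ComplexShape.up ℤ)).obj I) := by
  have := piEtPull_preservesFiniteLimits K S
  have : (piEtPull K S).Additive := (piEtAdj K S).left_adjoint_additive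
  have : PreservesFiniteColimits (piEtPull K S) := by
    have := (piEtAdj K S).leftAdjoint_preservesColimits
    infer_instance
  exact Groth.Agent.S0481.result (resEt K S) (piEtPull K S) (piEtAdj K S) I hI

/-- `i_f⁻¹` preserves K-injective complexes. -/
theorem isKInjective_resEtAlong (K : Precoverage Scheme.{u}) {T S : Scheme.{u}} (f : T ⟶ S) [AEtCont K T]
    (I : CochainComplex (Ab K S) ℤ) [hI : I.IsKInjective] :
    CochainComplex.IsKInjective (((resEtAlong K f).mapHomologicalComplex (ComplexShape.up ℤ)).obj I) := by
  have h1 := piEtPull_preservesFiniteLimits K T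
  have h2 := shriekAb_preservesFiniteLimits K f
  let adj : piEtPull K T ⋙ shriekAb K f ⊣ resEtAlong K f := (piEtAdj K T).comp (shriekAbAdj K f)
  have : (resEtAlong K f).Additive := by
    dsimp only [resEtAlong]
    infer_instance
  have : (piEtPull K T ⋙ shriekAb K f).Additive := adj.left_adjoint_additive
  have : PreservesFiniteColimits (piEtPull K T ⋙ shriekAb K f) := by
    have := adj.leftAdjoint_preservesColimits
    infer_instance
  have : PreservesFiniteLimits (piEtPull K T ⋙ shriekAb K f) := comp_preservesFiniteLimits _ _
  exact Groth.Agent.S0481.result (resEtAlong K f) (piEtPull K T ⋙ shriekAb K f) adj I hI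


universe v₁ u₁ v₂ u₂ in
/-- Higher right derived functors of an exact functor vanish. -/
theorem isZero_rightDerived_succ_of_preservesHomology {C : Type u₁} [Category.{v₁} C] [Abelian C]
    [HasInjectiveResolutions C] {D : Type u₂} [Category.{v₂} D] [Abelian D]
    (F : C ⥤ D) [F.Additive] [F.PreservesHomology] (n : ℕ) (X : C) :
    IsZero ((F.rightDerived (n + 1)).obj X) := by
  let I : InjectiveResolution X := injectiveResolution X
  refine IsZero.of_iso ?_ (I.isoRightDerivedObj F (n + 1))
  have hex : (I.cocomplex.sc (n + 1)).Exact := I.cocomplex_exactAt_succ n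
  have h2 : ((F.mapHomologicalComplex _).obj I.cocomplex).ExactAt (n + 1) := hex.map F
  exact h2.isZero_homology

/-- Restriction to the small etale site is exact when `a_S` is continuous and cocontinuous. -/
theorem resEt_preservesHomology (K : Precoverage Scheme.{u}) (S : Scheme.{u}) [AEtCont K S] [AEtCocont K S] :
    (resEt K S).PreservesHomology := by
  have : PreservesFiniteLimits (resEt K S) := by
    have := (piEtAdj K S).rightAdjoint_preservesLimits
    infer_instance
  have : PreservesFiniteColimits (resEt K S) := by
    have := (iEtAdj K S).leftAdjoint_preservesColimits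
    infer_instance
  infer_instance

/-- `R^q π_{S,*} = 0` for `q > 0`. -/
theorem isZero_RresEt (K : Precoverage Scheme.{u}) (S : Scheme.{u}) [AEtCont K S] [AEtCocont K S]
    (q : ℕ) (hq : 0 < q) (G : Ab K S) : IsZero ((RresEt K S q).obj G) := by
  obtain ⟨n, rfl⟩ : ∃ n, q = n + 1 := ⟨q - 1, by omega⟩
  have := resEt_preservesHomology K S
  exact isZero_rightDerived_succ_of_preservesHomology (resEt K S) n G

end Groth.Agent.Lib.Helper2.BigSmall
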