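import Mathlib

/-!
# Base change for right derived functors along exact functors (helper2)

If `F ⋙ G₁ ≅ G₂ ⋙ F'` with `G₁`, `G₂` exact and `G₂` preserving injectives, then
`G₁ (R^q F X) ≅ R^q F' (G₂ X)`.
-/

set_option autoImplicit false
universe v₁ v₂ v₃ v₄ u₁ u₂ u₃ u₄
open CategoryTheory CategoryTheory.Limits

namespace Groth.Agent.Lib.Helper2.DerivedBC

variable {C : Type u₁} [Category.{v₁} C] [Abelian C]
  {C' : Type u₂} [Category.{v₂} C'] [Abelian C']
  {D : Type u₃} [Category.{v₃} D] [Abelian D]
  {D' : Type u₄} [Category.{v₄} D'] [Abelian D']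

/-- The image of an injective resolution under an exact functor which preserves injectives. -/
noncomputable def mapInjectiveResolution (G : C ⥤ C') [G.Additive] [G.PreservesHomology]
    (hinj : ∀ I : C, Injective I → Injective (G.obj I)) {X : C} (I : InjectiveResolution X) :
    InjectiveResolution (G.obj X) where
  cocomplex := (G.mapHomologicalComplex _).obj I.cocomplex
  injective n := hinj _ (I.injective n)
  ι := (HomologicalComplex.singleMapHomologicalComplex G (ComplexShape.up ℕ) 0).inv.app X ≫
    (G.mapHomologicalComplex _).map I.ι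
  quasiIso := inferInstance

theorem nonempty_iso_rightDerived [HasInjectiveResolutions C] [HasInjectiveResolutions C']
    (F : C ⥤ D) (F' : C' ⥤ D') (G₂ : C ⥤ C') (G₁ : D ⥤ D')
    [F.Additive] [F'.Additive] [G₁.Additive] [G₂.Additive]
    [G₁.PreservesHomology] [G₂.PreservesHomology]
    (hinj : ∀ I : C, Injective I → Injective (G₂.obj I))
    (e : F ⋙ G₁ ≅ G₂ ⋙ F') (q : ℕ) (X : C) :
    Nonempty (G₁.obj ((F.rightDerived q).obj X) ≅ (F'.rightDerived q).obj (G₂.obj X)) := by
  let I : InjectiveResolution X := injectiveResolution X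
  let I' := mapInjectiveResolution G₂ hinj I
  let K := (F.mapHomologicalComplex (ComplexShape.up ℕ)).obj I.cocomplex
  let e1 : G₁.obj ((F.rightDerived q).obj X) ≅ G₁.obj (K.homology q) :=
    G₁.mapIso (I.isoRightDerivedObj F q)
  let e2 : G₁.obj (K.homology q) ≅ ((G₁.mapHomologicalComplex _).obj K).homology q :=
    ((K.sc q).mapHomologyIso G₁).symm
  let e3c : (G₁.mapHomologicalComplex _).obj K ≅
      (F'.mapHomologicalComplex _).obj ((G₂.mapHomologicalComplex _).obj I.cocomplex) :=
    HomologicalComplex.Hom.isoOfComponents (fun n => e.app (I.cocomplex.X n)) (by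
      intro i j _
      exact (e.hom.naturality (I.cocomplex.d i j)).symm)
  let e3 := (HomologicalComplex.homologyFunctor D' _ q).mapIso e3c
  let e4 := (I'.isoRightDerivedObj F' q).symm
  exact ⟨e1 ≪≫ e2 ≪≫ e3 ≪≫ e4⟩

end Groth.Agent.Lib.Helper2.DerivedBC
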