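import Mathlib

/-!
# Beck–Chevalley isomorphism for `Over.map` / `Over.pullback` (helper2)

For a cartesian square `g' ≫ f = f' ≫ g`, `Over.pullback f' ⋙ Over.map g' ≅ Over.map g ⋙ Over.pullback f`.
-/

set_option autoImplicit false
universe v u
open CategoryTheory CategoryTheory.Limits

namespace Groth.Agent.Lib.Helper2.OverBC

variable {C : Type u} [Category.{v} C] [HasPullbacks C]
  {T S T' S' : C} {f : T ⟶ S} {g : S' ⟶ S} {g' : T' ⟶ T} {f' : T' ⟶ S'}

/-- The pasted cartesian square. -/
lemma isPullback_paste (hsq : IsPullback g' f' f g) (V : Over S') :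
    IsPullback (pullback.fst V.hom f') (pullback.snd V.hom f' ≫ g') (V.hom ≫ g) f :=
  ((IsPullback.of_hasPullback V.hom f').flip.paste_horiz hsq).flip

/-- The component of the Beck–Chevalley isomorphism. -/
noncomputable def overBCApp (hsq : IsPullback g' f' f g) (V : Over S') :
    (Over.pullback f' ⋙ Over.map g').obj V ≅ (Over.map g ⋙ Over.pullback f).obj V :=
  Over.isoMk (isPullback_paste hsq V).isoPullback (by
    simp)

@[reassoc (attr := simp)]
lemma overBCApp_hom_left_fst (hsq : IsPullback g' f' f g) (V : Over S') :
    (overBCApp hsq V).hom.left ≫ pullback.fst (V.hom ≫ g) f = pullback.fst V.hom f' := by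
  simp [overBCApp]

@[reassoc (attr := simp)]
lemma overBCApp_hom_left_snd (hsq : IsPullback g' f' f g) (V : Over S') :
    (overBCApp hsq V).hom.left ≫ pullback.snd (V.hom ≫ g) f = pullback.snd V.hom f' ≫ g' := by
  simp [overBCApp]

/-- Beck–Chevalley: base change along `f'` then forget along `g'` is forget along `g` then base change along `f`. -/
noncomputable def overBC (hsq : IsPullback g' f' f g) :
    Over.pullback f' ⋙ Over.map g' ≅ Over.map g ⋙ Over.pullback f :=
  NatIso.ofComponents (fun V => overBCApp hsq V) (by
    intro V W φ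
    apply Over.OverMorphism.ext
    apply pullback.hom_ext
    · simp
      erw [pullback.lift_fst, pullback.lift_fst]
      rw [overBCApp_hom_left_fst_assoc]
    · simp
      erw [pullback.lift_snd_assoc, pullback.lift_snd]
      rw [overBCApp_hom_left_snd])

end Groth.Agent.Lib.Helper2.OverBC
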