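import Mathlib
import Groth.Prelude.Def_BigSite
import Groth.Agent.Lib.Helper2.OverBC
import Groth.Agent.Lib.Helper2.BigSmall
import Groth.Agent.Lib.Helper2.DerivedBC

/-!
# Base change isomorphisms for big sites (helper2)
-/

set_option autoImplicit false
universe v' u' u
open CategoryTheory CategoryTheory.Limits AlgebraicGeometry Opposite

namespace Groth.Agent.Lib.Helper2.BigBC

open BigSite Groth.Agent.Lib.Helper2.OverBC

variable (K : Precoverage Scheme.{u}) {S T S' T' : Scheme.{u}} (f : T ⟶ S) (g : S' ⟶ S) (g' : T' ⟶ T) (f' : T' ⟶ S')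

/-- `g_big⁻¹ ∘ f_big,* ≅ f'_big,* ∘ g'_big⁻¹` for a cartesian square. -/
noncomputable def pushPullIso (hsq : IsPullback g' f' f g) (A : Type u') [Category.{v'} A] :
    pushBig K f A ⋙ pullBig K g A ≅ pullBig K g' A ⋙ pushBig K f' A := by
  have : (Over.map g ⋙ Over.pullback f).IsContinuous (QuotSh.J K S') (QuotSh.J K T) :=
    Functor.isContinuous_comp (Over.map g) (Over.pullback f) (QuotSh.J K S') (QuotSh.J K S) (QuotSh.J K T)
  exact (Functor.sheafPushforwardContinuousComp' (F := Over.map g) (G := Over.pullback f)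
      (FG := Over.map g ⋙ Over.pullback f) (Iso.refl _) A (QuotSh.J K S') (QuotSh.J K S) (QuotSh.J K T)) ≪≫
    (Functor.sheafPushforwardContinuousComp' (F := Over.pullback f') (G := Over.map g')
      (FG := Over.map g ⋙ Over.pullback f) (overBC hsq) A (QuotSh.J K S') (QuotSh.J K T') (QuotSh.J K T)).symm


set_option backward.isDefEq.respectTransparency.types false in
/-- Big and small direct images are compatible with restriction to the small etale sites. -/
noncomputable def pushResIso {T S : Scheme.{u}} (f : T ⟶ S) [AEtCont K S] [AEtCont K T] :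
    pushBig K f AddCommGrpCat.{u + 1} ⋙ resEt K S ≅ resEt K T ⋙ EtCoh.push f := by
  have : (EtFppf.a S ⋙ Over.pullback f).IsContinuous S.smallEtaleTopology (QuotSh.J K T) :=
    Functor.isContinuous_comp (EtFppf.a S) (Over.pullback f) S.smallEtaleTopology (QuotSh.J K S) (QuotSh.J K T)
  let e : EtCoh.bc f ⋙ EtFppf.a T ≅ EtFppf.a S ⋙ Over.pullback f :=
    MorphismProperty.Over.pullbackCompForgetIso (P := EtCoh.etaleMP) (Q := ⊤) f
  exact (Functor.sheafPushforwardContinuousComp' (F := EtFppf.a S) (G := Over.pullback f)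
      (FG := EtFppf.a S ⋙ Over.pullback f) (Iso.refl _) AddCommGrpCat.{u + 1}
      S.smallEtaleTopology (QuotSh.J K S) (QuotSh.J K T)) ≪≫
    (Functor.sheafPushforwardContinuousComp' (F := EtCoh.bc f) (G := EtFppf.a T)
      (FG := EtFppf.a S ⋙ Over.pullback f) e AddCommGrpCat.{u + 1}
      S.smallEtaleTopology T.smallEtaleTopology (QuotSh.J K T)).symm

/-- `i_g⁻¹ ∘ f_big,* ≅ f'_small,* ∘ i_{g'}⁻¹` for a cartesian square. -/
noncomputable def pushResAlongIso (hsq : IsPullback g' f' f g) [AEtCont K S'] [AEtCont K T'] :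
    pushBig K f AddCommGrpCat.{u + 1} ⋙ resEtAlong K g ≅ resEtAlong K g' ⋙ EtCoh.push f' :=
  (Functor.associator _ _ _).symm ≪≫
    Functor.isoWhiskerRight (pushPullIso K f g g' f' hsq AddCommGrpCat.{u + 1}) (resEt K S') ≪≫
    Functor.associator _ _ _ ≪≫
    Functor.isoWhiskerLeft (pullBig K g' AddCommGrpCat.{u + 1}) (pushResIso K f') ≪≫
    (Functor.associator _ _ _).symm


open Groth.Agent.Lib.Helper2.BigSmall Groth.Agent.Lib.Helper2.DerivedBC

/-- `f_big⁻¹` is exact. -/
theorem pullBig_preservesHomology {T S : Scheme.{u}} (f : T ⟶ S) :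
    (pullBig K f AddCommGrpCat.{u + 1}).PreservesHomology := by
  have : PreservesFiniteLimits (pullBig K f AddCommGrpCat.{u + 1}) := by
    have := (shriekAbAdj K f).rightAdjoint_preservesLimits
    infer_instance
  have : PreservesFiniteColimits (pullBig K f AddCommGrpCat.{u + 1}) := by
    have := (bigAdj K f AddCommGrpCat.{u + 1}).leftAdjoint_preservesColimits
    infer_instance
  infer_instance

/-- `i_f⁻¹` is exact. -/
theorem resEtAlong_preservesHomology {T S : Scheme.{u}} (f : T ⟶ S) [AEtCont K T] [AEtCocont K T] :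
    (resEtAlong K f).PreservesHomology := by
  have : PreservesFiniteLimits (pullBig K f AddCommGrpCat.{u + 1}) := by
    have := (shriekAbAdj K f).rightAdjoint_preservesLimits
    infer_instance
  have : PreservesFiniteColimits (pullBig K f AddCommGrpCat.{u + 1}) := by
    have := (bigAdj K f AddCommGrpCat.{u + 1}).leftAdjoint_preservesColimits
    infer_instance
  have : PreservesFiniteLimits (resEt K T) := by
    have := (piEtAdj K T).rightAdjoint_preservesLimits
    infer_instance
  have : PreservesFiniteColimits (resEt K T) := by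
    have := (iEtAdj K T).leftAdjoint_preservesColimits
    infer_instance
  have : PreservesFiniteLimits (resEtAlong K f) := comp_preservesFiniteLimits _ _
  have : PreservesFiniteColimits (resEtAlong K f) := comp_preservesFiniteColimits _ _
  have : (resEtAlong K f).Additive := by
    dsimp only [resEtAlong]
    infer_instance
  infer_instance

/-- `g_big⁻¹ R^q f_big,* F ≅ R^q f'_big,* g'_big⁻¹ F` for a cartesian square. -/
theorem nonempty_pullBig_RpushBig_iso (hsq : IsPullback g' f' f g) (F : Ab K T) (q : ℕ) :
    Nonempty ((pullBig K g AddCommGrpCat.{u + 1}).obj ((RpushBig K f q).obj F) ≅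
      (RpushBig K f' q).obj ((pullBig K g' AddCommGrpCat.{u + 1}).obj F)) := by
  have := pullBig_preservesHomology K g
  have := pullBig_preservesHomology K g'
  exact nonempty_iso_rightDerived (pushBig K f AddCommGrpCat.{u + 1}) (pushBig K f' AddCommGrpCat.{u + 1})
    (pullBig K g' AddCommGrpCat.{u + 1}) (pullBig K g AddCommGrpCat.{u + 1})
    (fun I _ => injective_pullBig K g' I) (pushPullIso K f g g' f' hsq AddCommGrpCat.{u + 1}) q F

/-- `i_g⁻¹ R^q f_big,* F ≅ R^q f'_small,* i_{g'}⁻¹ F` for a cartesian square. -/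
theorem nonempty_resEtAlong_RpushBig_iso (hsq : IsPullback g' f' f g)
    [AEtCont K S'] [AEtCocont K S'] [AEtCont K T'] [AEtCocont K T'] (F : Ab K T) (q : ℕ) :
    Nonempty ((resEtAlong K g).obj ((RpushBig K f q).obj F) ≅
      (EtCoh.Rpush f' q).obj ((resEtAlong K g').obj F)) := by
  have := resEtAlong_preservesHomology K g
  have := resEtAlong_preservesHomology K g'
  have : (resEtAlong K g).Additive := by
    dsimp only [resEtAlong]
    infer_instance
  have : (resEtAlong K g').Additive := by
    dsimp only [resEtAlong]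
    infer_instance
  refine nonempty_iso_rightDerived (pushBig K f AddCommGrpCat.{u + 1}) (EtCoh.push f')
    (resEtAlong K g') (resEtAlong K g) (fun I _ => ?_) (pushResAlongIso K f g g' f' hsq) q F
  have := injective_pullBig K g' I
  exact injective_resEt K T' _

end Groth.Agent.Lib.Helper2.BigBC
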