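import Mathlib

set_option autoImplicit false

/-!
# Comparison theorem for maps from a complex exact in positive degrees to a complex of
injectives, and extension of chain maps along degreewise monomorphisms (helper2)
-/

open CategoryTheory CategoryTheory.Limits CategoryTheory.Category

namespace Groth.Agent.Lib.Helper2.CompareInj

universe u v
variable {V : Type u} [Category.{v} V] [Abelian V]

lemma exact₀ (A : CochainComplex V ℕ) :
    (ShortComplex.mk (A.iCycles 0) (A.d 0 1) (by simp)).Exact :=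
  ShortComplex.exact_of_f_is_kernel _ (A.cyclesIsKernel 0 1 (by simp))

lemma exact_succ (A : CochainComplex V ℕ) (hA : ∀ n, 0 < n → A.ExactAt n) (n : ℕ) :
    (ShortComplex.mk (A.d n (n + 1)) (A.d (n + 1) (n + 2)) (A.d_comp_d _ _ _)).Exact :=
  (A.exactAt_iff' n (n + 1) (n + 2) (by simp) (by simp)).mp (hA (n + 1) (by omega))

/-- existence part of the comparison theorem -/
theorem exists_lift (A J : CochainComplex V ℕ) (hA : ∀ n, 0 < n → A.ExactAt n)
    (injJ : ∀ n, Injective (J.X n)) (γ : A.homology 0 ⟶ J.homology 0) :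
    ∃ ψ : A ⟶ J, HomologicalComplex.homologyMap ψ 0 = γ := by
  let α : A.cycles 0 ⟶ J.X 0 := A.isoHomologyπ₀.hom ≫ γ ≫ J.isoHomologyπ₀.inv ≫ J.iCycles 0
  let a₀ : A.X 0 ⟶ J.X 0 := Injective.factorThru α (A.iCycles 0)
  have ha₀ : A.iCycles 0 ≫ a₀ = α := Injective.comp_factorThru _ _
  have h₁ : A.iCycles 0 ≫ a₀ ≫ J.d 0 1 = 0 := by
    rw [← assoc, ha₀]
    simp [α]
  let a₁ : A.X 1 ⟶ J.X 1 := (exact₀ A).descToInjective (a₀ ≫ J.d 0 1) h₁
  have ha₁ : A.d 0 1 ≫ a₁ = a₀ ≫ J.d 0 1 := (exact₀ A).comp_descToInjective _ _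
  let ψ : A ⟶ J := CochainComplex.mkHom _ _ a₀ a₁ ha₁.symm (fun n p =>
    ⟨(exact_succ A hA n).descToInjective (p.2.1 ≫ J.d (n + 1) (n + 2)) (by
        dsimp
        rw [← assoc, ← p.2.2]
        simp),
      ((exact_succ A hA n).comp_descToInjective _ _).symm⟩)
  refine ⟨ψ, ?_⟩
  have hψ0 : ψ.f 0 = a₀ := rfl
  have hc : HomologicalComplex.cyclesMap ψ 0 = A.isoHomologyπ₀.hom ≫ γ ≫ J.isoHomologyπ₀.inv := by
    rw [← cancel_mono (J.iCycles 0), HomologicalComplex.cyclesMap_i, hψ0, ha₀]
    simp [α]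
  rw [← cancel_epi (A.homologyπ 0), HomologicalComplex.homologyπ_naturality, hc]
  simp

/-- uniqueness part of the comparison theorem: a map inducing zero on `H⁰` is null-homotopic -/
theorem nonempty_homotopy_zero (A J : CochainComplex V ℕ) (hA : ∀ n, 0 < n → A.ExactAt n)
    (injJ : ∀ n, Injective (J.X n)) (w : A ⟶ J) (hw : HomologicalComplex.homologyMap w 0 = 0) :
    Nonempty (Homotopy w 0) := by
  have hc : HomologicalComplex.cyclesMap w 0 = 0 := by
    rw [← cancel_mono (J.homologyπ 0), ← HomologicalComplex.homologyπ_naturality, hw]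
    simp
  have h₀ : A.iCycles 0 ≫ w.f 0 = 0 := by
    rw [← HomologicalComplex.cyclesMap_i, hc, zero_comp]
  let s₀ : A.X 1 ⟶ J.X 0 := (exact₀ A).descToInjective (w.f 0) h₀
  have hs₀ : A.d 0 1 ≫ s₀ = w.f 0 := (exact₀ A).comp_descToInjective _ _
  let s₁ : A.X 2 ⟶ J.X 1 := (exact_succ A hA 0).descToInjective (w.f 1 - s₀ ≫ J.d 0 1) (by
    dsimp
    rw [Preadditive.comp_sub, ← assoc, hs₀, HomologicalComplex.Hom.comm, sub_self])
  have hs₁ : A.d 1 2 ≫ s₁ = w.f 1 - s₀ ≫ J.d 0 1 := (exact_succ A hA 0).comp_descToInjective _ _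
  exact ⟨Homotopy.mkCoinductive _ s₀ (by simp [hs₀]) s₁ (by simp [hs₁])
    (fun n ⟨g, g', hg⟩ =>
      ⟨(exact_succ A hA (n + 1)).descToInjective (w.f (n + 2) - g' ≫ J.d _ _) (by
          dsimp
          rw [Preadditive.comp_sub, ← HomologicalComplex.Hom.comm, hg, Preadditive.add_comp,
            Category.assoc, Category.assoc, HomologicalComplex.d_comp_d, comp_zero,
            zero_add, sub_self]),
        by
          have := (exact_succ A hA (n + 1)).comp_descToInjective (w.f (n + 2) - g' ≫ J.d _ _) (by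
            dsimp
            rw [Preadditive.comp_sub, ← HomologicalComplex.Hom.comm, hg, Preadditive.add_comp,
              Category.assoc, Category.assoc, HomologicalComplex.d_comp_d, comp_zero,
              zero_add, sub_self])
          dsimp at this
          simp [this]⟩)⟩

/-- extension of a chain map along a degreewise monomorphism, up to homotopy prescribed -/
theorem exists_extension (A B J : CochainComplex V ℕ) (hA : ∀ n, 0 < n → A.ExactAt n)
    (injJ : ∀ n, Injective (J.X n)) (ι : A ⟶ B) (hι : ∀ n, Mono (ι.f n))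
    (φ : A ⟶ J) (ψ₀ : B ⟶ J)
    (h0 : HomologicalComplex.homologyMap (ι ≫ ψ₀) 0 = HomologicalComplex.homologyMap φ 0) :
    ∃ ψ : B ⟶ J, ι ≫ ψ = φ ∧
      HomologicalComplex.homologyMap ψ 0 = HomologicalComplex.homologyMap ψ₀ 0 := by
  have hδ : HomologicalComplex.homologyMap (ι ≫ ψ₀ - φ) 0 = 0 := by
    rw [HomologicalComplex.homologyMap_sub, h0, sub_self]
  obtain ⟨h⟩ := nonempty_homotopy_zero A J hA injJ (ι ≫ ψ₀ - φ) hδ
  let t : ∀ i j, B.X i ⟶ J.X j := fun i j => Injective.factorThru (h.hom i j) (ι.f i)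
  have ht : ∀ i j, ι.f i ≫ t i j = h.hom i j := fun i j => Injective.comp_factorThru _ _
  have hnull : ι ≫ ψ₀ - φ = Homotopy.nullHomotopicMap' (fun i j _ => h.hom i j) := by
    have e1 : Homotopy.nullHomotopicMap' (fun i j (_ : (ComplexShape.up ℕ).Rel j i) => h.hom i j)
        = Homotopy.nullHomotopicMap h.hom := by
      unfold Homotopy.nullHomotopicMap'
      congr 1
      funext i j
      split_ifs with hij
      · rfl
      · exact (h.zero i j hij).symm
    rw [e1]
    ext i
    have := h.comm i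
    simp only [HomologicalComplex.zero_f, add_zero] at this
    rw [this]
    rfl
  refine ⟨ψ₀ - Homotopy.nullHomotopicMap' (fun i j _ => t i j), ?_, ?_⟩
  · rw [Preadditive.comp_sub, Homotopy.comp_nullHomotopicMap']
    have : (fun i j (_ : (ComplexShape.up ℕ).Rel j i) => ι.f i ≫ t i j) =
        (fun i j _ => h.hom i j) := by
      funext i j _; exact ht i j
    rw [this, ← hnull]
    abel
  · rw [HomologicalComplex.homologyMap_sub]
    have : HomologicalComplex.homologyMap
        (Homotopy.nullHomotopicMap' (fun i j (_ : (ComplexShape.up ℕ).Rel j i) => t i j)) 0 = 0 := by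
      have := (Homotopy.nullHomotopy' (fun i j (_ : (ComplexShape.up ℕ).Rel j i) => t i j)).homologyMap_eq 0
      rw [this]
      simp
    rw [this, sub_zero]

end Groth.Agent.Lib.Helper2.CompareInj
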