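import Mathlib
import Groth.Prelude.Def_DefoConn
import Groth.Agent.Lib.Helper29.Res3
import Groth.Prelude.Def_DefoSh2

/-! # Section calculus for connections on modules; the trivial deformation of a connection -/

set_option autoImplicit false
universe u
open CategoryTheory CategoryTheory.Limits AlgebraicGeometry TopologicalSpace Opposite
open Groth.Agent.Lib.Helper29.QCoh Groth.Agent.Lib.Helper29.QCoh.Res

namespace Groth.Agent.Lib.Helper2.ConnLib

variable {X : Scheme.{u}}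

/-- a morphism of modules on sections, linear for the `ExtPow.secModule` structures -/
noncomputable def appV {M N : X.Modules} (φ : M ⟶ N) (U : X.Opens) :
    M.val.obj (op U) →ₗ[Γ(X, U)] N.val.obj (op U) where
  toFun x := φ.app U x
  map_add' a b := map_add (φ.app U).hom a b
  map_smul' r a := Scheme.Modules.Hom.app_smul φ r a

theorem appV_apply {M N : X.Modules} (φ : M ⟶ N) (U : X.Opens) (x : M.val.obj (op U)) :
    appV φ U x = φ.app U x := rfl

theorem appV_comp {M N P : X.Modules} (a : M ⟶ N) (b : N ⟶ P) (U : X.Opens) (m : M.val.obj (op U)) :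
    appV b U (appV a U m) = appV (a ≫ b) U m := rfl

theorem appV_id {M : X.Modules} (U : X.Opens) (m : M.val.obj (op U)) : appV (𝟙 M) U m = m := rfl

theorem appV_zero {M N : X.Modules} (U : X.Opens) (m : M.val.obj (op U)) :
    appV (0 : M ⟶ N) U m = 0 := rfl

theorem appV_add {M N : X.Modules} (a b : M ⟶ N) (U : X.Opens) (m : M.val.obj (op U)) :
    appV (a + b) U m = appV a U m + appV b U m := rfl

theorem secApp_add {M N : X.Modules} (a b : Coh.toAb M ⟶ Coh.toAb N) (U : X.Opens)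
    (x : M.val.obj (op U)) :
    ConnSh.secApp (a + b) U x = ConnSh.secApp a U x + ConnSh.secApp b U x := rfl

theorem secApp_comp {M N P : X.Modules} (a : Coh.toAb M ⟶ Coh.toAb N) (b : Coh.toAb N ⟶ Coh.toAb P)
    (U : X.Opens) (x : M.val.obj (op U)) :
    ConnSh.secApp (a ≫ b) U x = ConnSh.secApp b U (ConnSh.secApp a U x) := rfl

theorem secApp_map {M N : X.Modules} (φ : M ⟶ N) (U : X.Opens) (x : M.val.obj (op U)) :
    ConnSh.secApp ((SheafOfModules.toSheaf X.ringCatSheaf).map φ) U x = appV φ U x := rfl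

theorem tmul_add_left (M N : X.Modules) (U : X.Opens) (m m' : M.val.obj (op U)) (n : N.val.obj (op U)) :
    SecTwist.tmul M N U (m + m') n = SecTwist.tmul M N U m n + SecTwist.tmul M N U m' n :=
  tmulSec_add_left (M := M) (N := N) m m' n

theorem tmul_smul_left (M N : X.Modules) (U : X.Opens) (r : Γ(X, U)) (m : M.val.obj (op U))
    (n : N.val.obj (op U)) :
    SecTwist.tmul M N U (r • m) n = r • SecTwist.tmul M N U m n :=
  tmulSec_smul_left (M := M) (N := N) r m n

theorem tmul_zero_right (M N : X.Modules) (U : X.Opens) (m : M.val.obj (op U)) :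
    SecTwist.tmul M N U m 0 = 0 :=
  tmulSec_zero_right (M := M) (N := N) m

theorem tensorMap_tmul' {M M' N N' : X.Modules} (f : M ⟶ M') (g : N ⟶ N') (U : X.Opens)
    (m : M.val.obj (op U)) (n : N.val.obj (op U)) :
    appV (KoszTw.tensorMap f g) U (SecTwist.tmul M N U m n) =
      SecTwist.tmul M' N' U (appV f U m) (appV g U n) :=
  KoszTw.tensorMap_tmul f g U m n

theorem tensor_hom_ext' {M N Q : X.Modules} (h1 h2 : CohB1.tensorMod M N ⟶ Q)
    (h : ∀ (U : X.Opens) (m : M.val.obj (op U)) (n : N.val.obj (op U)),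
      appV h1 U (SecTwist.tmul M N U m n) = appV h2 U (SecTwist.tmul M N U m n)) : h1 = h2 :=
  tensor_hom_ext h1 h2 (fun U m n => h U m n)

theorem tensorMap_add_left {M M' N N' : X.Modules} (f f' : M ⟶ M') (g : N ⟶ N') :
    KoszTw.tensorMap (f + f') g = KoszTw.tensorMap f g + KoszTw.tensorMap f' g := by
  apply tensor_hom_ext'
  intro U m n
  rw [appV_add, tensorMap_tmul', tensorMap_tmul', tensorMap_tmul', appV_add, tmul_add_left]

theorem tensorMap_zero_left {M M' N N' : X.Modules} (g : N ⟶ N') :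
    KoszTw.tensorMap (0 : M ⟶ M') g = 0 := by
  have h := tensorMap_add_left (0 : M ⟶ M') 0 g
  rw [add_zero] at h
  exact left_eq_add.mp h

theorem tensorMap_comp_apply {M M' M'' N : X.Modules} (f : M ⟶ M') (g : M' ⟶ M'') (U : X.Opens)
    (y : (CohB1.tensorMod M N).val.obj (op U)) :
    appV (KoszTw.tensorMap g (𝟙 N)) U (appV (KoszTw.tensorMap f (𝟙 N)) U y) =
      appV (KoszTw.tensorMap (f ≫ g) (𝟙 N)) U y := by
  rw [appV_comp, ← KoszTw.tensorMap_comp, Category.comp_id]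

variable {Ω' : X.Modules} {E : X.Modules}

/-- the direct sum connection on `E ⊞ E` -/
noncomputable def trivConn (nabla : Coh.toAb E ⟶ Coh.toAb (CohB1.tensorMod E Ω')) :
    Coh.toAb (E ⊞ E) ⟶ Coh.toAb (CohB1.tensorMod (E ⊞ E) Ω') :=
  (SheafOfModules.toSheaf X.ringCatSheaf).map (biprod.fst : E ⊞ E ⟶ E) ≫ nabla ≫
      (SheafOfModules.toSheaf X.ringCatSheaf).map (KoszTw.tensorMap (biprod.inl : E ⟶ E ⊞ E) (𝟙 Ω')) +
    (SheafOfModules.toSheaf X.ringCatSheaf).map (biprod.snd : E ⊞ E ⟶ E) ≫ nabla ≫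
      (SheafOfModules.toSheaf X.ringCatSheaf).map (KoszTw.tensorMap (biprod.inr : E ⟶ E ⊞ E) (𝟙 Ω'))

theorem trivConn_apply (nabla : Coh.toAb E ⟶ Coh.toAb (CohB1.tensorMod E Ω')) (U : X.Opens)
    (e : (E ⊞ E).val.obj (op U)) :
    ConnSh.secApp (trivConn nabla) U e =
      appV (KoszTw.tensorMap (biprod.inl : E ⟶ E ⊞ E) (𝟙 Ω')) U
          (ConnSh.secApp nabla U (appV (biprod.fst : E ⊞ E ⟶ E) U e)) +
        appV (KoszTw.tensorMap (biprod.inr : E ⟶ E ⊞ E) (𝟙 Ω')) U
          (ConnSh.secApp nabla U (appV (biprod.snd : E ⊞ E ⟶ E) U e)) := rfl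

theorem total_app (U : X.Opens) (e : (E ⊞ E).val.obj (op U)) :
    appV (biprod.inl : E ⟶ E ⊞ E) U (appV (biprod.fst : E ⊞ E ⟶ E) U e) +
      appV (biprod.inr : E ⟶ E ⊞ E) U (appV (biprod.snd : E ⊞ E ⟶ E) U e) = e := by
  rw [appV_comp, appV_comp, ← appV_add, biprod.total, appV_id]

theorem trivConn_isConn {S : Scheme.{u}} {f : X ⟶ S} (δ : OmegaSh.Der f Ω')
    (nabla : Coh.toAb E ⟶ Coh.toAb (CohB1.tensorMod E Ω')) (hn : ConnSh.IsConn δ E nabla) :
    ConnSh.IsConn δ (E ⊞ E) (trivConn nabla) := by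
  intro U t e
  rw [trivConn_apply, trivConn_apply, (appV (biprod.fst : E ⊞ E ⟶ E) U).map_smul,
    (appV (biprod.snd : E ⊞ E ⟶ E) U).map_smul, hn, hn, map_add, map_add,
    (appV (KoszTw.tensorMap (biprod.inl : E ⟶ E ⊞ E) (𝟙 Ω')) U).map_smul,
    (appV (KoszTw.tensorMap (biprod.inr : E ⟶ E ⊞ E) (𝟙 Ω')) U).map_smul,
    tensorMap_tmul', tensorMap_tmul', appV_id, smul_add]
  have h4 : SecTwist.tmul (E ⊞ E) Ω' U e (δ.app U t) =
      SecTwist.tmul (E ⊞ E) Ω' U (appV (biprod.inl : E ⟶ E ⊞ E) U (appV (biprod.fst : E ⊞ E ⟶ E) U e))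
          (δ.app U t) +
        SecTwist.tmul (E ⊞ E) Ω' U (appV (biprod.inr : E ⟶ E ⊞ E) U (appV (biprod.snd : E ⊞ E ⟶ E) U e))
          (δ.app U t) := by
    conv_lhs => rw [← total_app U e]
    rw [tmul_add_left]
  rw [h4]
  abel


theorem isHorizontal_iff {M M' : X.Modules} (c : Coh.toAb M ⟶ Coh.toAb (CohB1.tensorMod M Ω'))
    (c' : Coh.toAb M' ⟶ Coh.toAb (CohB1.tensorMod M' Ω')) (φ : M ⟶ M') :
    ConnSh.IsHorizontal c c' φ ↔ ∀ (U : X.Opens) (e : M.val.obj (op U)),
      ConnSh.secApp c' U (appV φ U e) = appV (KoszTw.tensorMap φ (𝟙 Ω')) U (ConnSh.secApp c U e) :=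
  Iff.rfl

theorem trivConn_π_horizontal (nabla : Coh.toAb E ⟶ Coh.toAb (CohB1.tensorMod E Ω')) :
    ConnSh.IsHorizontal (trivConn nabla) nabla (biprod.fst : E ⊞ E ⟶ E) := by
  rw [isHorizontal_iff]
  intro U e
  rw [trivConn_apply, map_add, tensorMap_comp_apply, tensorMap_comp_apply, biprod.inl_fst,
    biprod.inr_fst, KoszTw.tensorMap_id, tensorMap_zero_left, appV_id, appV_zero, add_zero]

theorem isHorizontal_add {M : X.Modules} (c : Coh.toAb M ⟶ Coh.toAb (CohB1.tensorMod M Ω'))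
    {ψ₁ ψ₂ : M ⟶ M} (h1 : ConnSh.IsHorizontal c c ψ₁) (h2 : ConnSh.IsHorizontal c c ψ₂) :
    ConnSh.IsHorizontal c c (ψ₁ + ψ₂) := by
  rw [isHorizontal_iff] at h1 h2 ⊢
  intro U e
  rw [appV_add, map_add, tensorMap_add_left, appV_add, h1, h2]

theorem trivConn_shift_horizontal (nabla : Coh.toAb E ⟶ Coh.toAb (CohB1.tensorMod E Ω')) :
    ConnSh.IsHorizontal (trivConn nabla) (trivConn nabla)
      ((biprod.fst : E ⊞ E ⟶ E) ≫ (biprod.inr : E ⟶ E ⊞ E)) := by
  rw [isHorizontal_iff]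
  intro U e
  rw [trivConn_apply, trivConn_apply, appV_comp, appV_comp, Category.assoc, Category.assoc,
    biprod.inr_fst, biprod.inr_snd, comp_zero, Category.comp_id, appV_zero, map_zero, map_zero,
    zero_add, map_add, tensorMap_comp_apply, tensorMap_comp_apply, biprod.inl_fst_assoc,
    biprod.inr_fst_assoc, zero_comp, tensorMap_zero_left, appV_zero, add_zero]

section Scalar

variable {k : Type u} [Field k] [X.Over (Spec (CommRingCat.of k))]

/-- the image of a scalar in the functions on `U` -/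
noncomputable def scal (U : X.Opens) (a : k) : Γ(X, U) :=
  X.presheaf.map (homOfLE (le_top : U ≤ ⊤)).op (Coh.toGlobal (X ↘ Spec (CommRingCat.of k)) a)

theorem appV_smul {M N : X.Modules} (a : k) (ψ : M ⟶ N) (U : X.Opens) (m : M.val.obj (op U)) :
    appV (a • ψ) U m = scal U a • appV ψ U m :=
  KLin.smul_app_apply a ψ U m

theorem der_scal (δ : OmegaSh.Der (X ↘ Spec (CommRingCat.of k)) Ω') (U : X.Opens) (a : k) :
    δ.app U (scal U a) = 0 := by
  have h0 : δ.app ⊤ (Coh.toGlobal (X ↘ Spec (CommRingCat.of k)) a) = 0 :=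
    δ.d_app (X := op ⊤) ((Scheme.ΓSpecIso (CommRingCat.of k)).inv.hom a)
  have h1 : δ.app U (scal U a) =
      Ω'.presheaf.map (homOfLE (le_top : U ≤ ⊤)).op
        (δ.app ⊤ (Coh.toGlobal (X ↘ Spec (CommRingCat.of k)) a)) :=
    δ.d_map (homOfLE (le_top : U ≤ ⊤)).op _
  rw [h1, h0, map_zero]

theorem tensorMap_smul_left {M M' N : X.Modules} (a : k) (ψ : M ⟶ M') :
    KoszTw.tensorMap (a • ψ) (𝟙 N) = a • KoszTw.tensorMap ψ (𝟙 N) := by
  apply tensor_hom_ext'
  intro U m n
  rw [appV_smul, tensorMap_tmul', tensorMap_tmul', appV_smul, tmul_smul_left]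

theorem isHorizontal_smul (δ : OmegaSh.Der (X ↘ Spec (CommRingCat.of k)) Ω') {M : X.Modules}
    (c : Coh.toAb M ⟶ Coh.toAb (CohB1.tensorMod M Ω')) (hc : ConnSh.IsConn δ M c) (a : k)
    {ψ : M ⟶ M} (h : ConnSh.IsHorizontal c c ψ) : ConnSh.IsHorizontal c c (a • ψ) := by
  rw [isHorizontal_iff] at h ⊢
  intro U e
  have hz : SecTwist.tmul M Ω' U (appV ψ U e) (δ.app U (scal U a)) = 0 := by
    rw [der_scal]
    exact tmul_zero_right _ _ _ _
  rw [appV_smul, hc, hz, add_zero, h, tensorMap_smul_left, appV_smul]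

theorem trivConn_act_horizontal (δ : OmegaSh.Der (X ↘ Spec (CommRingCat.of k)) Ω')
    (nabla : Coh.toAb E ⟶ Coh.toAb (CohB1.tensorMod E Ω')) (hn : ConnSh.IsConn δ E nabla)
    (z : DualNumber k) :
    ConnSh.IsHorizontal (trivConn nabla) (trivConn nabla) (DefoSh.dualAct k E z : E ⊞ E ⟶ E ⊞ E) := by
  rw [DefoSh.dualAct_hom]
  have hc := trivConn_isConn δ nabla hn
  exact isHorizontal_add _ (isHorizontal_smul δ _ hc _ (DefoSh.isHorizontal_id _))
    (isHorizontal_smul δ _ hc _ (trivConn_shift_horizontal nabla))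

/-- the trivial deformation of a connection -/
noncomputable def trivDefoConn (δ : OmegaSh.Der (X ↘ Spec (CommRingCat.of k)) Ω')
    (nabla : Coh.toAb E ⟶ Coh.toAb (CohB1.tensorMod E Ω')) (hn : ConnSh.IsConn δ E nabla) :
    DefoSh.DefoConn δ nabla (DefoSh.Defo.trivDual k E) where
  conn := trivConn nabla
  isConn := trivConn_isConn δ nabla hn
  act_horizontal := fun a => trivConn_act_horizontal δ nabla hn a
  π_horizontal := trivConn_π_horizontal nabla

end Scalar

end Groth.Agent.Lib.Helper2.ConnLib
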