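import Groth.Prelude.Def_W4c3irrattreebunCvg
import Mathlib

/-! Covering gonality: changing the base field to the field of constants. -/

set_option autoImplicit false
universe u
open W4c3irrattreebun

namespace Groth.Agent.Lib.Helper2.CovGon

section Aux
variable {k K : Type u} [Field k] [Field K] [Algebra k K]

/-- restrict the base of a covering diagram from the field of constants to `k`. -/
noncomputable def covDown {e : ℕ} (D : CovDiag.{u} (algebraicClosure k K) K e) : CovDiag.{u} k K e :=
  letI algkC : Algebra k D.KC := ((algebraMap K D.KC).comp (algebraMap k K)).toAlgebra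
  letI algkB : Algebra k D.KB :=
    ((algebraMap (algebraicClosure k K) D.KB).comp (algebraMap k (algebraicClosure k K))).toAlgebra
  haveI towerK : IsScalarTower k K D.KC := IsScalarTower.of_algebraMap_eq (fun _ => rfl)
  haveI towerB : IsScalarTower k D.KB D.KC := IsScalarTower.of_algebraMap_eq (fun x => by
    show algebraMap K D.KC (algebraMap k K x) =
      algebraMap D.KB D.KC (algebraMap (algebraicClosure k K) D.KB
        (algebraMap k (algebraicClosure k K) x))
    have h1 := @IsScalarTower.algebraMap_apply (algebraicClosure k K) D.KB D.KC _ _ _ D.algkB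
      D.algBC D.algkC D.towerB (algebraMap k (algebraicClosure k K) x)
    have h2 := @IsScalarTower.algebraMap_apply (algebraicClosure k K) K D.KC _ _ _ _
      D.algKC D.algkC D.towerK (algebraMap k (algebraicClosure k K) x)
    rw [← h1, h2]
    rfl)
  { KC := D.KC
    KB := D.KB
    t := D.t
    transc := D.transc
    finrank_eq := D.finrank_eq }

/-- the compositum of `KB` and the constants inside `KC` -/
noncomputable def upField {e : ℕ} (D : CovDiag.{u} k K e) : IntermediateField D.KB D.KC :=
  IntermediateField.adjoin D.KB (Set.range (algebraMap (algebraicClosure k K) D.KC))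

noncomputable def upHom {e : ℕ} (D : CovDiag.{u} k K e) : algebraicClosure k K →+* upField D where
  toFun x := ⟨algebraMap (algebraicClosure k K) D.KC x,
    IntermediateField.subset_adjoin _ _ ⟨x, rfl⟩⟩
  map_one' := Subtype.ext (map_one _)
  map_mul' x y := Subtype.ext (map_mul _ x y)
  map_zero' := Subtype.ext (map_zero _)
  map_add' x y := Subtype.ext (map_add _ x y)

theorem upField_isAlgebraic {e : ℕ} (D : CovDiag.{u} k K e) :
    Algebra.IsAlgebraic D.KB (upField D) := by
  apply IntermediateField.isAlgebraic_adjoin
  rintro _ ⟨y, rfl⟩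
  have h1 : IsAlgebraic k (y : K) := mem_algebraicClosure_iff.mp y.2
  have h2 : IsIntegral k (algebraMap K D.KC (y : K)) :=
    h1.isIntegral.map (IsScalarTower.toAlgHom k K D.KC)
  exact h2.tower_top

theorem upTransc {e : ℕ} (D : CovDiag.{u} k K e) : Transcendental (upField D) D.t := by
  intro h
  haveI := upField_isAlgebraic D
  exact D.transc (h.restrictScalars D.KB)

theorem adjoin_le_up {e : ℕ} (D : CovDiag.{u} k K e) :
    IntermediateField.adjoin D.KB ({D.t} : Set D.KC) ≤
      (IntermediateField.adjoin (upField D) ({D.t} : Set D.KC)).restrictScalars D.KB := by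
  rw [IntermediateField.adjoin_le_iff]
  rintro _ rfl
  exact IntermediateField.subset_adjoin _ _ rfl

theorem upFinite {e : ℕ} (D : CovDiag.{u} k K e) :
    Module.Finite (IntermediateField.adjoin (upField D) ({D.t} : Set D.KC)) D.KC := by
  letI := (IntermediateField.inclusion (adjoin_le_up D)).toRingHom.toAlgebra
  haveI : IsScalarTower (IntermediateField.adjoin D.KB ({D.t} : Set D.KC))
      ((IntermediateField.adjoin (upField D) ({D.t} : Set D.KC)).restrictScalars D.KB) D.KC :=
    IsScalarTower.of_algebraMap_eq fun x ↦ rfl
  exact Module.Finite.of_restrictScalars_finite (IntermediateField.adjoin D.KB ({D.t} : Set D.KC))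
    ((IntermediateField.adjoin (upField D) ({D.t} : Set D.KC)).restrictScalars D.KB) D.KC

theorem upFinrank_le {e : ℕ} (D : CovDiag.{u} k K e) :
    Module.finrank (IntermediateField.adjoin (upField D) ({D.t} : Set D.KC)) D.KC ≤ e := by
  have := IntermediateField.finrank_le_of_le_left (adjoin_le_up D)
  rw [D.finrank_eq] at this
  exact this

/-- enlarge the base field of a covering diagram to contain the constants. -/
noncomputable def covUp {e : ℕ} (D : CovDiag.{u} k K e) : CovDiag.{u} (algebraicClosure k K) K
    (Module.finrank (IntermediateField.adjoin (upField D) ({D.t} : Set D.KC)) D.KC) :=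
  letI algkB : Algebra (algebraicClosure k K) (upField D) := (upHom D).toAlgebra
  haveI towerB : IsScalarTower (algebraicClosure k K) (upField D) D.KC :=
    IsScalarTower.of_algebraMap_eq (fun _ => rfl)
  haveI finT : Module.Finite (IntermediateField.adjoin (upField D) ({D.t} : Set D.KC)) D.KC :=
    upFinite D
  { KC := D.KC
    KB := upField D
    t := D.t
    transc := upTransc D
    finrank_eq := rfl }

end Aux

theorem sInf_eq_of {A B : Set ℕ} (h1 : B ⊆ A) (h2 : ∀ a ∈ A, ∃ b ∈ B, b ≤ a) : sInf A = sInf B := by
  by_cases hA : A.Nonempty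
  · have hB : B.Nonempty := by
      obtain ⟨a, ha⟩ := hA
      obtain ⟨b, hb, -⟩ := h2 a ha
      exact ⟨b, hb⟩
    apply le_antisymm
    · exact Nat.sInf_le (h1 (Nat.sInf_mem hB))
    · obtain ⟨b, hb, hle⟩ := h2 _ (Nat.sInf_mem hA)
      exact (Nat.sInf_le hb).trans hle
  · have hA' : A = ∅ := Set.not_nonempty_iff_eq_empty.mp hA
    have hB' : B = ∅ := Set.subset_eq_empty (hA' ▸ h1) rfl
    rw [hA', hB']


end Groth.Agent.Lib.Helper2.CovGon
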