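import Mathlib
import Groth.Prelude.Def_DefoSh
import Groth.Agent.Lib.Helper1.AffDefHom
import Groth.Agent.Lib.Helper29.QCohExact

/-! # A morphism of deformations of a module over a local Artinian algebra is an isomorphism -/

set_option autoImplicit false
universe u
open CategoryTheory CategoryTheory.Limits AlgebraicGeometry TopologicalSpace Opposite

namespace Groth.Agent.Lib.Helper2.DefoIso

variable {k : Type u} [Field k] {X : Scheme.{u}} [X.Over (Spec (CommRingCat.of k))]
  {E : X.Modules} {A : ArtFun.Art k k}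

/-- the reduction kills `m_A • stalk` -/
theorem π_stalk_eq_zero_of_mem (D : DefoSh.Defo E A) (p : X) (w : ↑(D.sheaf.presheaf.stalk p))
    (hw : letI := D.stalkMod p
      w ∈ IsLocalRing.maximalIdeal A • (⊤ : Submodule A ↑(D.sheaf.presheaf.stalk p))) :
    RefHull.stalkMapₗ D.π p w = 0 := by
  letI := D.stalkMod p
  refine Submodule.smul_induction_on (p := fun w => RefHull.stalkMapₗ D.π p w = 0) hw ?_ ?_
  · intro a ha v _
    change RefHull.stalkMapₗ D.π p (RefHull.stalkMapₗ (D.act a) p v) = 0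
    rw [← DefoSh.stalkMapₗ_comp_apply, D.act_π a ((ArtFun.Art.mem_maximalIdeal_iff A a).1 ha),
      DefoSh.stalkMapₗ_zero_apply]
  · intro x y hx hy
    rw [map_add, hx, hy, add_zero]

theorem stalk_bijective (D D' : DefoSh.Defo E A) (φ : D.sheaf ⟶ D'.sheaf)
    (hact : ∀ a : A, D.act a ≫ φ = φ ≫ D'.act a) (hπ : φ ≫ D'.π = D.π) (p : X) :
    Function.Bijective (RefHull.stalkMapₗ φ p) := by
  letI mL : Module A ↑(D.sheaf.presheaf.stalk p) := D.stalkMod p
  letI mL' : Module A ↑(D'.sheaf.presheaf.stalk p) := D'.stalkMod p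
  haveI : Module.Flat A ↑(D'.sheaf.presheaf.stalk p) := D'.flat p
  let f : ↑(D.sheaf.presheaf.stalk p) →ₗ[A] ↑(D'.sheaf.presheaf.stalk p) :=
    { toFun := RefHull.stalkMapₗ φ p
      map_add' := map_add _
      map_smul' := fun a v => by
        change RefHull.stalkMapₗ φ p (RefHull.stalkMapₗ (D.act a) p v) =
          RefHull.stalkMapₗ (D'.act a) p (RefHull.stalkMapₗ φ p v)
        rw [← DefoSh.stalkMapₗ_comp_apply, ← DefoSh.stalkMapₗ_comp_apply, hact] }
  have hπp : ∀ v, RefHull.stalkMapₗ D'.π p (RefHull.stalkMapₗ φ p v) = RefHull.stalkMapₗ D.π p v := by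
    intro v
    rw [← DefoSh.stalkMapₗ_comp_apply, hπ]
  have hb : Function.Bijective f := by
    apply Groth.Agent.Lib.Helper1.AffDef.bijective_of_nilpotent_of_flat (IsLocalRing.maximalIdeal A)
      (Groth.Agent.Lib.Helper1.AffDef.isNilpotent_maximalIdeal A) f
    · intro n
      obtain ⟨m, hm⟩ := D.surj p (RefHull.stalkMapₗ D'.π p n)
      refine ⟨m, ?_⟩
      apply D'.ker_le p
      change RefHull.stalkMapₗ D'.π p (n - RefHull.stalkMapₗ φ p m) = 0
      rw [map_sub, hπp, hm, sub_self]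
    · intro m hm
      apply D.ker_le p
      rw [← hπp]
      exact π_stalk_eq_zero_of_mem D' p _ hm
  exact hb

theorem isIso_of_hom (D D' : DefoSh.Defo E A) (φ : D.sheaf ⟶ D'.sheaf)
    (hact : ∀ a : A, D.act a ≫ φ = φ ≫ D'.act a) (hπ : φ ≫ D'.π = D.π) : IsIso φ := by
  rw [Groth.Agent.Lib.Helper29.QCoh.isIso_iff_stalkMap_bijective]
  intro x
  exact stalk_bijective D D' φ hact hπ x

end Groth.Agent.Lib.Helper2.DefoIso
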