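import Mathlib
import Groth.Prelude.Def_DefoSh2
import Groth.Agent.Lib.Helper2.DefoIso
import Groth.Agent.Lib.Helper2.ExtIso
import Groth.Agent.Lib.Helper8.DN1
import Groth.Agent.Lib.Helper17.ExtRealize
import Groth.Agent.Lib.Helper29.QCohExact

/-! # First-order deformations of a module and `Ext¹(E, E)` (helper2) -/

set_option autoImplicit false
universe u
open CategoryTheory CategoryTheory.Limits AlgebraicGeometry TopologicalSpace Opposite

namespace Groth.Agent.Lib.Helper2.DefoExt

open Groth.Agent.Lib.Helper29.QCoh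

variable {k : Type u} [Field k] {X : Scheme.{u}} [X.Over (Spec (CommRingCat.of k))]
  {E : X.Modules}

theorem hom_eq_zero_of_stalk {M N : X.Modules} (φ : M ⟶ N)
    (h : ∀ (x : X) (v : ↑(M.presheaf.stalk x)), RefHull.stalkMapₗ φ x v = 0) : φ = 0 := by
  apply Scheme.Modules.hom_ext
  intro U
  ext s
  change φ.app U s = 0
  apply eq_zero_of_germ_eq_zero
  intro x hx
  rw [← RefHull.stalkMapₗ_germ]
  exact h x _

/-- `ε` as an element of the object `dual k k`. -/
noncomputable abbrev eps : (ArtFun.Art.dual k k) := (DualNumber.eps : DualNumber k)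

theorem eps_mul_eps : (eps : (ArtFun.Art.dual k k)) * eps = 0 := DualNumber.eps_mul_eps

theorem dn_eq (m : DualNumber k) (hm : TrivSqZeroExt.fst m = 0) :
    m = DualNumber.eps * algebraMap k (DualNumber k) (TrivSqZeroExt.snd m) := by
  apply TrivSqZeroExt.ext
  · rw [hm]; simp [TrivSqZeroExt.algebraMap_eq_inl]
  · simp [TrivSqZeroExt.algebraMap_eq_inl]

theorem dn_decomp (d : DualNumber k) :
    d = algebraMap k (DualNumber k) (TrivSqZeroExt.fst d) +
      algebraMap k (DualNumber k) (TrivSqZeroExt.snd d) * DualNumber.eps := by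
  apply TrivSqZeroExt.ext
  · simp [TrivSqZeroExt.algebraMap_eq_inl]
  · simp [TrivSqZeroExt.algebraMap_eq_inl]

theorem eq_eps_mul (a : (ArtFun.Art.dual k k))
    (ha : a ∈ IsLocalRing.maximalIdeal (ArtFun.Art.dual k k)) :
    ∃ c : k, a = eps * algebraMap k (ArtFun.Art.dual k k) c := by
  rw [ArtFun.Art.mem_maximalIdeal_iff] at ha
  exact ⟨_, dn_eq _ ha⟩

theorem dual_decomp (d : (ArtFun.Art.dual k k)) :
    ∃ a b : k, d = algebraMap k (ArtFun.Art.dual k k) a +
      algebraMap k (ArtFun.Art.dual k k) b * eps :=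
  ⟨_, _, dn_decomp _⟩

variable (D : DefoSh.Defo E (ArtFun.Art.dual k k))

theorem eps_π : D.act (DualNumber.eps : DualNumber k) ≫ D.π = 0 :=
  D.act_π _ rfl

theorem eps_eps : D.act (DualNumber.eps : DualNumber k) ≫ D.act (DualNumber.eps : DualNumber k) = 0 := by
  have h := congrArg D.act (eps_mul_eps (k := k))
  rw [map_mul, map_zero] at h
  exact h

theorem π_stalk_eq_zero_iff (p : X) (v : ↑(D.sheaf.presheaf.stalk p)) :
    RefHull.stalkMapₗ D.π p v = 0 ↔
      ∃ u, v = RefHull.stalkMapₗ (D.act (DualNumber.eps : DualNumber k)) p u := by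
  constructor
  · intro hv
    letI := D.stalkMod p
    have hm := D.ker_le p v hv
    refine Submodule.smul_induction_on
      (p := fun v => ∃ u, v = RefHull.stalkMapₗ (D.act (DualNumber.eps : DualNumber k)) p u) hm ?_ ?_
    · intro a ha w _
      obtain ⟨c, hc⟩ := eq_eps_mul a ha
      refine ⟨RefHull.stalkMapₗ (D.act (algebraMap k (ArtFun.Art.dual k k) c)) p w, ?_⟩
      change RefHull.stalkMapₗ (D.act a) p w = _
      rw [← DefoSh.stalkMapₗ_comp_apply, hc, map_mul]
      rfl
    · rintro x y ⟨u, rfl⟩ ⟨u', rfl⟩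
      exact ⟨u + u', (map_add _ _ _).symm⟩
  · rintro ⟨u, rfl⟩
    rw [← DefoSh.stalkMapₗ_comp_apply, eps_π, DefoSh.stalkMapₗ_zero_apply]

theorem epi_π : Epi D.π := by
  rw [epi_iff_stalkMap_surjective]
  intro x
  exact D.surj x

theorem exists_i : ∃ i : E ⟶ D.sheaf, D.π ≫ i = D.act (DualNumber.eps : DualNumber k) := by
  haveI := epi_π D
  have h0 : kernel.ι D.π ≫ D.act (DualNumber.eps : DualNumber k) = 0 := by
    apply hom_eq_zero_of_stalk
    intro x v
    rw [DefoSh.stalkMapₗ_comp_apply]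
    have h1 : RefHull.stalkMapₗ D.π x (RefHull.stalkMapₗ (kernel.ι D.π) x v) = 0 := by
      rw [← DefoSh.stalkMapₗ_comp_apply, kernel.condition, DefoSh.stalkMapₗ_zero_apply]
    obtain ⟨u, hu⟩ := (π_stalk_eq_zero_iff D x _).1 h1
    rw [hu, ← DefoSh.stalkMapₗ_comp_apply, eps_eps, DefoSh.stalkMapₗ_zero_apply]
  have hc := Abelian.epiIsCokernelOfKernel (KernelFork.ofι (kernel.ι D.π) (kernel.condition _))
    (kernelIsKernel D.π)
  exact ⟨hc.desc (CokernelCofork.ofπ _ h0), hc.fac (CokernelCofork.ofπ _ h0) WalkingParallelPair.one⟩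

theorem i_π (i : E ⟶ D.sheaf) (hi : D.π ≫ i = D.act (DualNumber.eps : DualNumber k)) :
    i ≫ D.π = 0 := by
  haveI := epi_π D
  rw [← cancel_epi D.π, ← Category.assoc, hi, eps_π, comp_zero]

theorem i_unique (i i' : E ⟶ D.sheaf) (hi : D.π ≫ i = D.act (DualNumber.eps : DualNumber k))
    (hi' : D.π ≫ i' = D.act (DualNumber.eps : DualNumber k)) : i = i' := by
  haveI := epi_π D
  rw [← cancel_epi D.π, hi, hi']

theorem eps_torsion (p : X) (v : ↑(D.sheaf.presheaf.stalk p))
    (hv : RefHull.stalkMapₗ (D.act (DualNumber.eps : DualNumber k)) p v = 0) :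
    ∃ u, v = RefHull.stalkMapₗ (D.act (DualNumber.eps : DualNumber k)) p u := by
  letI : Module (DualNumber k) ↑(D.sheaf.presheaf.stalk p) := D.stalkMod p
  haveI : Module.Flat (DualNumber k) ↑(D.sheaf.presheaf.stalk p) := D.flat p
  have hv' : (DualNumber.eps : DualNumber k) • v = 0 := hv
  obtain ⟨u, hu⟩ := Groth.Agent.Lib.Helper8.DN.eps_torsion_of_flat v hv'
  exact ⟨u, hu⟩

theorem mono_i (i : E ⟶ D.sheaf) (hi : D.π ≫ i = D.act (DualNumber.eps : DualNumber k)) :
    Mono i := by
  rw [mono_iff_stalkMap_injective]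
  intro x
  change Function.Injective (RefHull.stalkMapₗ i x)
  rw [injective_iff_map_eq_zero]
  intro e he
  obtain ⟨v, rfl⟩ := D.surj x e
  rw [← DefoSh.stalkMapₗ_comp_apply, hi] at he
  obtain ⟨u, rfl⟩ := eps_torsion D x v he
  rw [← DefoSh.stalkMapₗ_comp_apply, eps_π, DefoSh.stalkMapₗ_zero_apply]

theorem shortExact (i : E ⟶ D.sheaf) (hi : D.π ≫ i = D.act (DualNumber.eps : DualNumber k)) :
    (ShortComplex.mk i D.π (i_π D i hi)).ShortExact := by
  refine ShortComplex.ShortExact.mk' ?_ (mono_i D i hi) (epi_π D)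
  rw [exact_iff_stalk_function_exact]
  intro x
  change Function.Exact (RefHull.stalkMapₗ i x) (RefHull.stalkMapₗ D.π x)
  intro v
  constructor
  · intro hv
    obtain ⟨u, rfl⟩ := (π_stalk_eq_zero_iff D x v).1 hv
    exact ⟨RefHull.stalkMapₗ D.π x u, by rw [← DefoSh.stalkMapₗ_comp_apply, hi]⟩
  · rintro ⟨e, rfl⟩
    rw [← DefoSh.stalkMapₗ_comp_apply, i_π D i hi, DefoSh.stalkMapₗ_zero_apply]

section OfExt

variable {Y : X.Modules} (f : E ⟶ Y) (g : Y ⟶ E) (w : f ≫ g = 0)

/-- the endomorphism `g ≫ f` of the middle term -/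
noncomputable def gf : End Y := g ≫ f

include w in
theorem gf_mul_self : gf f g * gf f g = 0 := by
  rw [End.mul_def, gf, Category.assoc, reassoc_of% w, zero_comp, comp_zero]

variable (k) in
/-- the action of the dual numbers on the middle term of an extension of `E` by `E` -/
noncomputable def actOf : DualNumber k →ₐ[k] End Y :=
  DualNumber.lift ⟨(Algebra.ofId k (End Y), gf f g),
    gf_mul_self f g w, fun a => (Algebra.commutes a (gf f g)).symm⟩

theorem actOf_apply (z : DualNumber k) :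
    actOf k f g w z = z.fst • (1 : End Y) + z.snd • gf f g := by
  change algebraMap k (End Y) z.fst + (algebraMap k (End Y) z.snd) * gf f g = _
  rw [Algebra.algebraMap_eq_smul_one, Algebra.algebraMap_eq_smul_one, smul_mul_assoc, one_mul]

theorem actOf_hom (z : DualNumber k) :
    (actOf k f g w z : Y ⟶ Y) = z.fst • 𝟙 Y + z.snd • (g ≫ f) :=
  actOf_apply f g w z

theorem actOf_eps : (actOf k f g w (DualNumber.eps : DualNumber k) : Y ⟶ Y) = g ≫ f := by
  rw [actOf_hom]
  change ((DualNumber.eps : DualNumber k).fst • 𝟙 Y +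
      (DualNumber.eps : DualNumber k).snd • (g ≫ f) : Y ⟶ Y) = _
  simp

theorem actOf_comp_g (z : DualNumber k) (hz : z.fst = 0) :
    (actOf k f g w z : Y ⟶ Y) ≫ g = 0 := by
  rw [actOf_hom, hz]
  change ((0 : k) • 𝟙 Y + z.snd • (g ≫ f)) ≫ g = 0
  simp [Linear.smul_comp, w]

theorem actOf_inl_comp_g (a : k) :
    (actOf k f g w (TrivSqZeroExt.inl a) : Y ⟶ Y) ≫ g = g ≫ (a • 𝟙 E) := by
  rw [actOf_hom]
  change ((a : k) • 𝟙 Y + (0 : k) • (g ≫ f)) ≫ g = _
  simp [Linear.smul_comp, Linear.comp_smul]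

variable (hS : (ShortComplex.mk f g w).ShortExact)

include hS in
theorem stalk_exact (p : X) (v : ↑(Y.presheaf.stalk p)) :
    RefHull.stalkMapₗ g p v = 0 ↔ ∃ e, RefHull.stalkMapₗ f p e = v := by
  have h := (exact_iff_stalk_function_exact _).1 hS.exact p
  exact h v

include hS in
theorem stalk_g_surjective (p : X) : Function.Surjective (RefHull.stalkMapₗ g p) :=
  (epi_iff_stalkMap_surjective g).1 hS.epi_g p

include hS in
theorem stalk_f_injective (p : X) : Function.Injective (RefHull.stalkMapₗ f p) :=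
  (mono_iff_stalkMap_injective f).1 hS.mono_f p

include hS in
theorem stalk_g_eq_zero_iff (p : X) (v : ↑(Y.presheaf.stalk p)) :
    RefHull.stalkMapₗ g p v = 0 ↔
      ∃ u, v = RefHull.stalkMapₗ (actOf k f g w (DualNumber.eps : DualNumber k) : Y ⟶ Y) p u := by
  rw [actOf_eps]
  constructor
  · intro hv
    obtain ⟨e, rfl⟩ := (stalk_exact f g w hS p v).1 hv
    obtain ⟨u, rfl⟩ := stalk_g_surjective f g w hS p e
    exact ⟨u, by rw [DefoSh.stalkMapₗ_comp_apply]⟩
  · rintro ⟨u, rfl⟩
    rw [← DefoSh.stalkMapₗ_comp_apply, Category.assoc, w, comp_zero, DefoSh.stalkMapₗ_zero_apply]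

include hS in
theorem flat_stalk (p : X) :
    letI := DefoSh.stalkModule Y (actOf k f g w).toRingHom p
    Module.Flat (DualNumber k) ↑(Y.presheaf.stalk p) := by
  letI mY : Module (DualNumber k) ↑(Y.presheaf.stalk p) :=
    DefoSh.stalkModule Y (actOf k f g w).toRingHom p
  letI mE : Module k ↑(E.presheaf.stalk p) :=
    DefoSh.stalkModule E (Algebra.ofId k (End E)).toRingHom p
  have hE : ∀ (c : k) (v : ↑(E.presheaf.stalk p)), c • v = RefHull.stalkMapₗ (c • 𝟙 E) p v := fun c v => by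
    change RefHull.stalkMapₗ (algebraMap k (End E) c) p v = _
    rw [Algebra.algebraMap_eq_smul_one]
    rfl
  have hY : ∀ (z : DualNumber k) (v : ↑(Y.presheaf.stalk p)),
      z • v = RefHull.stalkMapₗ (actOf k f g w z : Y ⟶ Y) p v := fun z v => rfl
  refine Groth.Agent.Lib.Helper8.DN.flat_of_eps (N := ↑(E.presheaf.stalk p))
    (RefHull.stalkMapₗ g p).toAddMonoidHom ?_ ?_ ?_ ?_
  · intro a m
    change RefHull.stalkMapₗ g p ((TrivSqZeroExt.inl a : DualNumber k) • m) = a • RefHull.stalkMapₗ g p m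
    rw [hY, hE, ← DefoSh.stalkMapₗ_comp_apply, ← DefoSh.stalkMapₗ_comp_apply, actOf_inl_comp_g]
  · exact stalk_g_surjective f g w hS p
  · intro m
    change RefHull.stalkMapₗ g p m = 0 ↔ _
    rw [stalk_g_eq_zero_iff (k := k) f g w hS p m]
    rfl
  · intro m hm
    have h1 : RefHull.stalkMapₗ g p m = 0 := by
      apply stalk_f_injective f g w hS p
      rw [map_zero, ← DefoSh.stalkMapₗ_comp_apply, ← actOf_eps (k := k) f g w]
      exact hm
    exact (stalk_g_eq_zero_iff (k := k) f g w hS p m).1 h1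

/-- the first-order deformation defined by an extension of `E` by `E` -/
noncomputable def ofExt : DefoSh.Defo E (ArtFun.Art.dual k k) where
  sheaf := Y
  act := actOf k f g w
  π := g
  act_π a ha := actOf_comp_g f g w a ha
  surj p := stalk_g_surjective f g w hS p
  ker_le p v hv := by
    letI : Module (ArtFun.Art.dual k k) ↑(Y.presheaf.stalk p) :=
      DefoSh.stalkModule (A := ArtFun.Art.dual k k) Y (actOf k f g w).toRingHom p
    obtain ⟨u, rfl⟩ := (stalk_g_eq_zero_iff (k := k) f g w hS p v).1 hv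
    have hε : (eps : ArtFun.Art.dual k k) ∈ IsLocalRing.maximalIdeal (ArtFun.Art.dual k k) := by
      rw [ArtFun.Art.mem_maximalIdeal_iff]
      rfl
    exact Submodule.smul_mem_smul hε Submodule.mem_top
  flat p := flat_stalk f g w hS p

end OfExt

section Equiv

variable [HasExt.{u} X.Modules]

/-- the chosen `i` with `π ≫ i = ε` -/
noncomputable def iOf : E ⟶ D.sheaf := (exists_i D).choose

theorem iOf_spec : D.π ≫ iOf D = D.act (DualNumber.eps : DualNumber k) := (exists_i D).choose_spec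

/-- the extension class of a first-order deformation -/
noncomputable def classOf : Abelian.Ext E E 1 := (shortExact D (iOf D) (iOf_spec D)).extClass

theorem classOf_eq (i : E ⟶ D.sheaf) (hi : D.π ≫ i = D.act (DualNumber.eps : DualNumber k))
    (h0 : i ≫ D.π = 0) (hS : (ShortComplex.mk i D.π h0).ShortExact) :
    classOf D = hS.extClass := by
  have h : i = iOf D := i_unique D _ _ hi (iOf_spec D)
  subst h
  rfl

theorem classOf_eq_of_iso (D D' : DefoSh.Defo E (ArtFun.Art.dual k k)) (e : DefoSh.Defo.Iso D D') :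
    classOf D = classOf D' := by
  refine Groth.Agent.Lib.Helper2.ExtIso.extClass_eq_of_hom _ _ _ _ _ _ _ _ e.iso.hom ?_ e.hom_π
  haveI := epi_π D
  rw [← cancel_epi D.π, ← Category.assoc, iOf_spec, e.act_hom, ← e.hom_π, Category.assoc, iOf_spec]

theorem act_comm_of_hom (D D' : DefoSh.Defo E (ArtFun.Art.dual k k)) (φ : D.sheaf ⟶ D'.sheaf)
    (h1 : iOf D ≫ φ = iOf D') (h2 : φ ≫ D'.π = D.π) (a : ArtFun.Art.dual k k) :
    D.act a ≫ φ = φ ≫ D'.act a := by
  have hε : D.act (DualNumber.eps : DualNumber k) ≫ φ = φ ≫ D'.act (DualNumber.eps : DualNumber k) := by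
    rw [← iOf_spec, ← iOf_spec, Category.assoc, h1, ← Category.assoc, h2]
  obtain ⟨c, b, rfl⟩ := dual_decomp a
  have e1 : D.act (algebraMap k (ArtFun.Art.dual k k) c + algebraMap k (ArtFun.Art.dual k k) b * eps) =
      c • (1 : End D.sheaf) + b • D.act (DualNumber.eps : DualNumber k) := by
    rw [map_add, map_mul, AlgHom.commutes, AlgHom.commutes, Algebra.algebraMap_eq_smul_one,
      Algebra.algebraMap_eq_smul_one, smul_mul_assoc, one_mul]
  have e2 : D'.act (algebraMap k (ArtFun.Art.dual k k) c + algebraMap k (ArtFun.Art.dual k k) b * eps) =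
      c • (1 : End D'.sheaf) + b • D'.act (DualNumber.eps : DualNumber k) := by
    rw [map_add, map_mul, AlgHom.commutes, AlgHom.commutes, Algebra.algebraMap_eq_smul_one,
      Algebra.algebraMap_eq_smul_one, smul_mul_assoc, one_mul]
  rw [e1, e2]
  change ((c • 𝟙 D.sheaf + b • (show D.sheaf ⟶ D.sheaf from D.act (DualNumber.eps : DualNumber k)) :
      D.sheaf ⟶ D.sheaf)) ≫ φ =
    φ ≫ ((c • 𝟙 D'.sheaf + b • (show D'.sheaf ⟶ D'.sheaf from D'.act (DualNumber.eps : DualNumber k)) :
      D'.sheaf ⟶ D'.sheaf))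
  rw [Preadditive.add_comp, Preadditive.comp_add, Linear.smul_comp, Linear.smul_comp,
    Linear.comp_smul, Linear.comp_smul, Category.id_comp, Category.comp_id, hε]

theorem iso_of_classOf_eq (D D' : DefoSh.Defo E (ArtFun.Art.dual k k)) (h : classOf D = classOf D') :
    Nonempty (DefoSh.Defo.Iso D D') := by
  obtain ⟨φ, h1, h2⟩ := Groth.Agent.Lib.Helper2.ExtIso.exists_hom_of_extClass_eq _ _ _ _ _ _ _ _ h
  have hact := act_comm_of_hom D D' φ h1 h2
  haveI : IsIso φ := Groth.Agent.Lib.Helper2.DefoIso.isIso_of_hom D D' φ hact h2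
  exact ⟨⟨asIso φ, hact, h2⟩⟩

theorem classOf_ofExt {Y : X.Modules} (f : E ⟶ Y) (g : Y ⟶ E) (w : f ≫ g = 0)
    (hS : (ShortComplex.mk f g w).ShortExact) : classOf (ofExt (k := k) f g w hS) = hS.extClass :=
  classOf_eq (ofExt (k := k) f g w hS) f (actOf_eps f g w).symm w hS

theorem classOf_trivDual : classOf (DefoSh.Defo.trivDual k E) = 0 := by
  have hi : (DefoSh.Defo.trivDual k E).π ≫ (biprod.inr : E ⟶ E ⊞ E) =
      (DefoSh.Defo.trivDual k E).act (DualNumber.eps : DualNumber k) := (DefoSh.dualAct_eps E).symm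
  have hS := shortExact (DefoSh.Defo.trivDual k E) biprod.inr hi
  rw [classOf_eq (DefoSh.Defo.trivDual k E) biprod.inr hi _ hS]
  exact Groth.Agent.Lib.Helper2.ExtIso.extClass_eq_zero_of_retraction _ _ _ hS biprod.snd biprod.inr_snd

variable (k E) in
/-- first-order deformations up to isomorphism correspond to `Ext¹(E, E)` -/
noncomputable def equiv : DefoSh.FirstOrder k E ≃ Abelian.Ext E E 1 :=
  Equiv.ofBijective
    (Quotient.lift (s := DefoSh.Defo.setoid E (ArtFun.Art.dual k k)) (fun D => classOf D)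
      (fun D D' h => by obtain ⟨e⟩ := h; exact classOf_eq_of_iso D D' e))
    ⟨by
      intro a b
      refine Quotient.inductionOn₂ a b ?_
      intro D D' h
      exact Quotient.sound (iso_of_classOf_eq D D' h),
    by
      intro x
      obtain ⟨Y, f, g, w, hS, rfl⟩ := Groth.Agent.Lib.Helper17.ExtRealize.exists_extClass x
      exact ⟨(ofExt (k := k) f g w hS).cl, classOf_ofExt f g w hS⟩⟩

theorem equiv_cl : equiv k E D.cl = classOf D := rfl

end Equiv

end Groth.Agent.Lib.Helper2.DefoExt
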