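import Mathlib
import Groth.Agent.Lib.Helper2.ConnLib
import Groth.Agent.Lib.Helper2.DefoExt

/-! # Deformations of a connection over a first-order deformation (helper2) -/

set_option autoImplicit false
universe u
open CategoryTheory CategoryTheory.Limits AlgebraicGeometry TopologicalSpace Opposite

namespace Groth.Agent.Lib.Helper2.DefoConnLib

open Groth.Agent.Lib.Helper2.ConnLib Groth.Agent.Lib.Helper2.DefoExt

variable {X : Scheme.{u}} {Ω' : X.Modules}

/-- the forgetful functor to abelian sheaves -/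
noncomputable abbrev T (X : Scheme.{u}) :
    X.Modules ⥤ Sheaf (Opens.grothendieckTopology X) AddCommGrpCat.{u} :=
  SheafOfModules.toSheaf X.ringCatSheaf

instance : (T X).Additive :=
  inferInstanceAs (SheafOfModules.toSheaf X.ringCatSheaf).Additive

instance : (T X).PreservesEpimorphisms :=
  inferInstanceAs (SheafOfModules.toSheaf X.ringCatSheaf).PreservesEpimorphisms

theorem toAb_hom_ext {M N : X.Modules} (a b : Coh.toAb M ⟶ Coh.toAb N)
    (h : ∀ (U : X.Opens) (x : M.val.obj (op U)), ConnSh.secApp a U x = ConnSh.secApp b U x) :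
    a = b := by
  apply Sheaf.hom_ext
  apply NatTrans.ext
  funext U
  induction U using Opposite.rec with
  | _ U =>
    ext x
    exact h U x

/-- `φ ⊗ 1` -/
noncomputable abbrev tw {M M' : X.Modules} (φ : M ⟶ M') :
    CohB1.tensorMod M Ω' ⟶ CohB1.tensorMod M' Ω' := KoszTw.tensorMap φ (𝟙 Ω')

theorem tw_comp {M M' M'' : X.Modules} (φ : M ⟶ M') (ψ : M' ⟶ M'') :
    tw (Ω' := Ω') (φ ≫ ψ) = tw φ ≫ tw ψ := by
  unfold tw
  rw [← KoszTw.tensorMap_comp, Category.comp_id]

theorem tw_id (M : X.Modules) : tw (Ω' := Ω') (𝟙 M) = 𝟙 _ := KoszTw.tensorMap_id M Ω'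

theorem tw_add {M M' : X.Modules} (φ ψ : M ⟶ M') :
    tw (Ω' := Ω') (φ + ψ) = tw φ + tw ψ := tensorMap_add_left φ ψ (𝟙 Ω')

theorem tw_zero {M M' : X.Modules} : tw (Ω' := Ω') (0 : M ⟶ M') = 0 := tensorMap_zero_left (𝟙 Ω')

theorem isHorizontal_iff_comp {M M' : X.Modules} (c : Coh.toAb M ⟶ Coh.toAb (CohB1.tensorMod M Ω'))
    (c' : Coh.toAb M' ⟶ Coh.toAb (CohB1.tensorMod M' Ω')) (φ : M ⟶ M') :
    ConnSh.IsHorizontal c c' φ ↔ (T X).map φ ≫ c' = c ≫ (T X).map (tw φ) := by
  constructor
  · intro h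
    apply toAb_hom_ext
    intro U x
    rw [secApp_comp, secApp_comp, secApp_map, secApp_map]
    exact h U x
  · intro h U e
    have h1 := congrArg (fun a => ConnSh.secApp a U e) h
    simp only [secApp_comp, secApp_map] at h1
    exact h1

section Defo

variable {k : Type u} [Field k] [X.Over (Spec (CommRingCat.of k))]
  {δ : OmegaSh.Der (X ↘ Spec (CommRingCat.of k)) Ω'} {E : X.Modules}
  {nabla : Coh.toAb E ⟶ Coh.toAb (CohB1.tensorMod E Ω')}
  {D : DefoSh.Defo E (ArtFun.Art.dual k k)} (ι : E ⟶ D.sheaf)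
  (hι : D.π ≫ ι = D.act (DualNumber.eps : DualNumber k))

include hι in
theorem ι_horizontal (c : DefoSh.DefoConn δ nabla D) :
    (T X).map ι ≫ c.conn = nabla ≫ (T X).map (tw ι) := by
  haveI : Epi D.π := epi_π D
  haveI : Epi ((T X).map D.π) := inferInstance
  rw [← cancel_epi ((T X).map D.π)]
  have h1 := (isHorizontal_iff_comp _ _ _).1 (c.act_horizontal (DualNumber.eps : DualNumber k))
  have h2 := (isHorizontal_iff_comp _ _ _).1 c.π_horizontal
  rw [← Category.assoc, ← Functor.map_comp, hι, h1, ← hι, tw_comp, Functor.map_comp,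
    ← Category.assoc, ← h2, Category.assoc]

/-- commuting with `ε` implies commuting with the whole action -/
theorem act_comm (φ : D.sheaf ⟶ D.sheaf)
    (hε : D.act (DualNumber.eps : DualNumber k) ≫ φ = φ ≫ D.act (DualNumber.eps : DualNumber k))
    (a : ArtFun.Art.dual k k) : D.act a ≫ φ = φ ≫ D.act a := by
  obtain ⟨c, b, rfl⟩ := dual_decomp a
  have e1 : D.act (algebraMap k (ArtFun.Art.dual k k) c + algebraMap k (ArtFun.Art.dual k k) b * eps) =
      c • (1 : End D.sheaf) + b • D.act (DualNumber.eps : DualNumber k) := by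
    rw [map_add, map_mul, AlgHom.commutes, AlgHom.commutes, Algebra.algebraMap_eq_smul_one,
      Algebra.algebraMap_eq_smul_one, smul_mul_assoc, one_mul]
  rw [e1]
  change ((c • 𝟙 D.sheaf + b • (show D.sheaf ⟶ D.sheaf from D.act (DualNumber.eps : DualNumber k)) :
      D.sheaf ⟶ D.sheaf)) ≫ φ =
    φ ≫ ((c • 𝟙 D.sheaf + b • (show D.sheaf ⟶ D.sheaf from D.act (DualNumber.eps : DualNumber k)) :
      D.sheaf ⟶ D.sheaf))
  rw [Preadditive.add_comp, Preadditive.comp_add, Linear.smul_comp, Linear.smul_comp,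
    Linear.comp_smul, Linear.comp_smul, Category.id_comp, Category.comp_id, hε]

include hι in
theorem key (c c' : DefoSh.DefoConn δ nabla D) (S : E ⟶ E) :
    c.conn ≫ (T X).map (tw (D.π ≫ S ≫ ι)) - (T X).map (D.π ≫ S ≫ ι) ≫ c'.conn =
      (T X).map D.π ≫ (nabla ≫ (T X).map (tw S) - (T X).map S ≫ nabla) ≫ (T X).map (tw ι) := by
  have h2 := (isHorizontal_iff_comp _ _ _).1 c.π_horizontal
  have h3 := ι_horizontal ι hι c'
  rw [tw_comp, tw_comp, Functor.map_comp, Functor.map_comp, Functor.map_comp, Functor.map_comp,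
    ← Category.assoc c.conn, ← h2, Category.assoc, Category.assoc, Category.assoc, h3,
    Preadditive.sub_comp, Preadditive.comp_sub, Category.assoc, Category.assoc]

theorem horiz_iff (c c' : DefoSh.DefoConn δ nabla D) (N : D.sheaf ⟶ D.sheaf) :
    ConnSh.IsHorizontal c.conn c'.conn (𝟙 D.sheaf + N) ↔
      c'.conn - c.conn = c.conn ≫ (T X).map (tw N) - (T X).map N ≫ c'.conn := by
  rw [isHorizontal_iff_comp, tw_add, tw_id, Functor.map_add, Functor.map_add, CategoryTheory.Functor.map_id,
    CategoryTheory.Functor.map_id, Preadditive.add_comp, Preadditive.comp_add, Category.id_comp, Category.comp_id]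
  constructor
  · intro h
    rw [sub_eq_sub_iff_add_eq_add, h]
    abel
  · intro h
    rw [sub_eq_sub_iff_add_eq_add] at h
    rw [h]
    abel

include hι in
theorem transport_iff (c c' : DefoSh.DefoConn δ nabla D) :
    DefoSh.DefoConn.Transport c c' ↔ ∃ S : E ⟶ E,
      c'.conn - c.conn = (T X).map D.π ≫
        (nabla ≫ (T X).map (tw S) - (T X).map S ≫ nabla) ≫ (T X).map (tw ι) := by
  have hS := shortExact D ι hι
  haveI := hS.mono_f
  haveI := hS.epi_g
  have hιπ : ι ≫ D.π = 0 := i_π D ι hι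
  constructor
  · rintro ⟨e, he⟩
    have h0 : (e.iso.hom - 𝟙 D.sheaf) ≫ D.π = 0 := by
      rw [Preadditive.sub_comp, e.hom_π, Category.id_comp, sub_self]
    let g : D.sheaf ⟶ E := hS.exact.lift (e.iso.hom - 𝟙 D.sheaf) h0
    have hg : g ≫ ι = e.iso.hom - 𝟙 D.sheaf := hS.exact.lift_f _ h0
    have hεg : D.act (DualNumber.eps : DualNumber k) ≫ g = 0 := by
      rw [← cancel_mono ι, Category.assoc, hg, zero_comp, Preadditive.comp_sub, Category.comp_id,
        e.act_hom]
      have h1 : e.iso.hom ≫ (show D.sheaf ⟶ D.sheaf from D.act (DualNumber.eps : DualNumber k)) -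
          (show D.sheaf ⟶ D.sheaf from D.act (DualNumber.eps : DualNumber k)) =
          (e.iso.hom - 𝟙 D.sheaf) ≫ (show D.sheaf ⟶ D.sheaf from D.act (DualNumber.eps : DualNumber k)) := by
        rw [Preadditive.sub_comp, Category.id_comp]
      refine h1.trans ?_
      rw [← hg, Category.assoc]
      change g ≫ ι ≫ D.act (DualNumber.eps : DualNumber k) = 0
      rw [← hι, ← Category.assoc ι, hιπ, zero_comp, comp_zero]
    have hιg : ι ≫ g = 0 := by
      rw [← cancel_epi D.π, ← Category.assoc, hι, hεg, comp_zero]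
    let S : E ⟶ E := hS.exact.desc g hιg
    have hSg : D.π ≫ S = g := hS.exact.g_desc g hιg
    refine ⟨S, ?_⟩
    have hφ : e.iso.hom = 𝟙 D.sheaf + D.π ≫ S ≫ ι := by
      rw [← Category.assoc, hSg, hg]
      abel
    rw [hφ] at he
    rw [(horiz_iff c c' _).1 he, key ι hι]
  · rintro ⟨S, hS'⟩
    have hNN : (D.π ≫ S ≫ ι) ≫ (D.π ≫ S ≫ ι) = 0 := by
      simp only [Category.assoc]
      rw [reassoc_of% hιπ, zero_comp, comp_zero, comp_zero]
    let iso : D.sheaf ≅ D.sheaf :=
      { hom := 𝟙 D.sheaf + D.π ≫ S ≫ ι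
        inv := 𝟙 D.sheaf - D.π ≫ S ≫ ι
        hom_inv_id := by
          rw [Preadditive.add_comp, Preadditive.comp_sub, Preadditive.comp_sub, Category.id_comp,
            Category.comp_id, Category.id_comp, hNN]
          abel
        inv_hom_id := by
          rw [Preadditive.sub_comp, Preadditive.comp_add, Preadditive.comp_add, Category.id_comp,
            Category.comp_id, Category.id_comp, hNN]
          abel }
    have hε : D.act (DualNumber.eps : DualNumber k) ≫ iso.hom =
        iso.hom ≫ D.act (DualNumber.eps : DualNumber k) := by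
      change D.act (DualNumber.eps : DualNumber k) ≫ (𝟙 D.sheaf + D.π ≫ S ≫ ι) =
        (𝟙 D.sheaf + D.π ≫ S ≫ ι) ≫ D.act (DualNumber.eps : DualNumber k)
      rw [Preadditive.comp_add, Preadditive.add_comp, Category.comp_id, Category.id_comp,
        ← Category.assoc, eps_π, zero_comp, Category.assoc, Category.assoc, ← hι,
        reassoc_of% hιπ, zero_comp, comp_zero, comp_zero]
    refine ⟨⟨iso, act_comm _ hε, ?_⟩, ?_⟩
    · change (𝟙 D.sheaf + D.π ≫ S ≫ ι) ≫ D.π = D.π
      rw [Preadditive.add_comp, Category.id_comp, Category.assoc, Category.assoc, hιπ, comp_zero,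
        comp_zero, add_zero]
    · change ConnSh.IsHorizontal c.conn c'.conn (𝟙 D.sheaf + D.π ≫ S ≫ ι)
      rw [horiz_iff, key ι hι]
      exact hS'

end Defo

end Groth.Agent.Lib.Helper2.DefoConnLib
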