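import Mathlib
import Groth.Agent.Lib.Helper2.DefoConnLib
import Groth.Agent.Lib.Helper28.StalkTensor8
import Groth.Agent.Lib.Helper29.QCohLocFree

/-! # Tensoring a short exact sequence with projective stalks of the cokernel (helper2) -/

set_option autoImplicit false
universe u
open CategoryTheory CategoryTheory.Limits AlgebraicGeometry TopologicalSpace Opposite MonoidalCategory

namespace Groth.Agent.Lib.Helper2.DefoTensor

open Groth.Agent.Lib.Helper2.DefoConnLib Groth.Agent.Lib.Helper28.StalkTensor
open Groth.Agent.Lib.Helper29.QCoh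

variable {X : Scheme.{u}} {Ω' : X.Modules}

/-- the stalk map as a linear map -/
noncomputable abbrev sm {A B : X.Modules} (f : A ⟶ B) (x : X) :
    ↑((DerSch.stalkFunctor X x).obj A) →ₗ[X.presheaf.stalk x] ↑((DerSch.stalkFunctor X x).obj B) :=
  ((DerSch.stalkFunctor X x).map f).hom

theorem sm_eq {A B : X.Modules} (f : A ⟶ B) (x : X) (a : ↑(A.presheaf.stalk x)) :
    sm f x a = stalkMap f x a := rfl

/-- stalk of `A ⊗ Ω'` -/
noncomputable def eT (A : X.Modules) (x : X) :
    ↑((DerSch.stalkFunctor X x).obj (CohB1.tensorMod A Ω')) ≃ₗ[X.presheaf.stalk x]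
      TensorProduct (X.presheaf.stalk x) ↑((DerSch.stalkFunctor X x).obj A)
        ↑((DerSch.stalkFunctor X x).obj Ω') :=
  (stalkTensorIso x A Ω').toLinearEquiv

theorem eT_nat {A B : X.Modules} (f : A ⟶ B) (x : X)
    (y : ↑((DerSch.stalkFunctor X x).obj (CohB1.tensorMod A Ω'))) :
    eT B x (sm (tw (Ω' := Ω') f) x y) = LinearMap.rTensor _ (sm f x) (eT A x y) := by
  have h := stalkTensorIso_nat₁ x f Ω'
  rw [KoszTw.tensorBi_map_app] at h
  exact ConcreteCategory.congr_hom h y

section SES

variable {A B C : X.Modules} (f : A ⟶ B) (g : B ⟶ C) (w : f ≫ g = 0)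
  (hS : (ShortComplex.mk f g w).ShortExact)

include hS in
theorem sm_exact (x : X) : Function.Exact (sm f x) (sm g x) :=
  (exact_iff_stalk_function_exact _).1 hS.exact x

include hS in
theorem sm_injective (x : X) : Function.Injective (sm f x) :=
  (mono_iff_stalkMap_injective f).1 hS.mono_f x

include hS in
theorem sm_surjective (x : X) : Function.Surjective (sm g x) :=
  (epi_iff_stalkMap_surjective g).1 hS.epi_g x

include hS in
theorem rTensor_sm_injective (x : X)
    [Module.Projective (X.presheaf.stalk x) ↑((DerSch.stalkFunctor X x).obj C)] :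
    Function.Injective (LinearMap.rTensor ↑((DerSch.stalkFunctor X x).obj Ω') (sm f x)) := by
  obtain ⟨s, hs⟩ := Module.projective_lifting_property (sm g x) LinearMap.id (sm_surjective f g w hS x)
  have htfae := Function.Exact.split_tfae (sm_exact f g w hS x) (sm_injective f g w hS x)
    (sm_surjective f g w hS x)
  have h01 : (∃ l, sm g x ∘ₗ l = LinearMap.id) → ∃ l, l ∘ₗ sm f x = LinearMap.id :=
    (htfae.out 0 1).1
  obtain ⟨l, hl⟩ := h01 ⟨s, hs⟩
  intro a b hab
  have h1 := congrArg (LinearMap.rTensor ↑((DerSch.stalkFunctor X x).obj Ω') l) hab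
  rw [← LinearMap.comp_apply, ← LinearMap.comp_apply, ← LinearMap.rTensor_comp, hl,
    LinearMap.rTensor_id, LinearMap.id_apply, LinearMap.id_apply] at h1
  exact h1

include hS in
theorem tw_shortExact
    (hC : ∀ x : X, Module.Projective (X.presheaf.stalk x) ↑((DerSch.stalkFunctor X x).obj C)) :
    (ShortComplex.mk (tw (Ω' := Ω') f) (tw g)
      (by rw [← tw_comp, w, tw_zero])).ShortExact := by
  have hmono : Mono (tw (Ω' := Ω') f) := by
    rw [mono_iff_stalkMap_injective]
    intro x
    haveI := hC x
    change Function.Injective (sm (tw (Ω' := Ω') f) x)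
    intro a b hab
    have h1 := congrArg (eT B x) hab
    rw [eT_nat, eT_nat] at h1
    exact (eT A x).injective (rTensor_sm_injective f g w hS x h1)
  have hepi : Epi (tw (Ω' := Ω') g) := by
    rw [epi_iff_stalkMap_surjective]
    intro x
    change Function.Surjective (sm (tw (Ω' := Ω') g) x)
    intro c
    obtain ⟨b, hb⟩ := LinearMap.rTensor_surjective ↑((DerSch.stalkFunctor X x).obj Ω')
      (sm_surjective f g w hS x) (eT C x c)
    refine ⟨(eT B x).symm b, ?_⟩
    apply (eT C x).injective
    rw [eT_nat, LinearEquiv.apply_symm_apply, hb]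
  refine ShortComplex.ShortExact.mk' ?_ hmono hepi
  rw [exact_iff_stalk_function_exact]
  intro x
  change Function.Exact (sm (tw (Ω' := Ω') f) x) (sm (tw (Ω' := Ω') g) x)
  have hex := rTensor_exact ↑((DerSch.stalkFunctor X x).obj Ω') (sm_exact f g w hS x)
    (sm_surjective f g w hS x)
  intro y
  constructor
  · intro hy
    have h1 : LinearMap.rTensor ↑((DerSch.stalkFunctor X x).obj Ω') (sm g x) (eT B x y) = 0 := by
      rw [← eT_nat, hy, map_zero]
    obtain ⟨z, hz⟩ := (hex _).1 h1
    refine ⟨(eT A x).symm z, ?_⟩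
    apply (eT B x).injective
    rw [eT_nat, LinearEquiv.apply_symm_apply, hz]
  · rintro ⟨z, rfl⟩
    apply (eT C x).injective
    rw [eT_nat, eT_nat, map_zero]
    exact (hex _).2 ⟨_, rfl⟩

end SES

theorem projective_stalk_of_isFinLocFree {M : X.Modules} (h : FlatMod.IsFinLocFree M) (x : X) :
    Module.Projective (X.presheaf.stalk x) ↑((DerSch.stalkFunctor X x).obj M) := by
  haveI : Module.Free (X.presheaf.stalk x) ↑(M.presheaf.stalk x) := free_stalk_of_isFinLocFree h x
  exact (inferInstance : Module.Projective (X.presheaf.stalk x) ↑(M.presheaf.stalk x))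

end Groth.Agent.Lib.Helper2.DefoTensor
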