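import Mathlib
import Groth.Agent.Lib.Helper2.DefoTensor

/-! # Deformations of a connection over a fixed first-order deformation form a torsor (helper2) -/

set_option autoImplicit false
universe u
open CategoryTheory CategoryTheory.Limits AlgebraicGeometry TopologicalSpace Opposite

namespace Groth.Agent.Lib.Helper2.DefoConnEquiv

open Groth.Agent.Lib.Helper2.ConnLib Groth.Agent.Lib.Helper2.DefoExt
open Groth.Agent.Lib.Helper2.DefoConnLib Groth.Agent.Lib.Helper2.DefoTensor

variable {X : Scheme.{u}} {Ω' : X.Modules}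

instance : (T X).Faithful :=
  inferInstanceAs (SheafOfModules.toSheaf X.ringCatSheaf).Faithful

theorem secApp_sub {M N : X.Modules} (a b : Coh.toAb M ⟶ Coh.toAb N) (U : X.Opens)
    (x : M.val.obj (op U)) :
    ConnSh.secApp (a - b) U x = ConnSh.secApp a U x - ConnSh.secApp b U x := rfl

/-- a morphism of abelian sheaves which is linear on sections is a morphism of modules -/
noncomputable def homOfLinear {M N : X.Modules} (g : Coh.toAb M ⟶ Coh.toAb N)
    (hg : ∀ (U : X.Opens) (t : Γ(X, U)) (e : M.val.obj (op U)),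
      ConnSh.secApp g U (t • e) = t • ConnSh.secApp g U e) : M ⟶ N :=
  ⟨PresheafOfModules.homMk g.hom (fun U t e => hg U.unop t e)⟩

theorem T_homOfLinear {M N : X.Modules} (g : Coh.toAb M ⟶ Coh.toAb N)
    (hg : ∀ (U : X.Opens) (t : Γ(X, U)) (e : M.val.obj (op U)),
      ConnSh.secApp g U (t • e) = t • ConnSh.secApp g U e) :
    (T X).map (homOfLinear g hg) = g := by
  apply toAb_hom_ext
  intro U x
  rfl

section Defo

variable {k : Type u} [Field k] [X.Over (Spec (CommRingCat.of k))]
  {δ : OmegaSh.Der (X ↘ Spec (CommRingCat.of k)) Ω'} {E : X.Modules}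
  {nabla : Coh.toAb E ⟶ Coh.toAb (CohB1.tensorMod E Ω')}
  {D : DefoSh.Defo E (ArtFun.Art.dual k k)}

theorem defoConn_ext (c c' : DefoSh.DefoConn δ nabla D) (h : c.conn = c'.conn) : c = c' := by
  cases c
  cases c'
  simp only at h
  subst h
  rfl

/-- the module morphism `c - c₀` -/
noncomputable def diff (c c₀ : DefoSh.DefoConn δ nabla D) :
    D.sheaf ⟶ CohB1.tensorMod D.sheaf Ω' :=
  homOfLinear (c.conn - c₀.conn) (fun U t e => by
    rw [secApp_sub, secApp_sub, c.isConn, c₀.isConn, smul_sub]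
    abel)

theorem T_diff (c c₀ : DefoSh.DefoConn δ nabla D) :
    (T X).map (diff c c₀) = c.conn - c₀.conn := T_homOfLinear _ _

theorem diff_tw_π (c c₀ : DefoSh.DefoConn δ nabla D) : diff c c₀ ≫ tw D.π = 0 := by
  apply (T X).map_injective
  rw [Functor.map_comp, T_diff, Preadditive.sub_comp, Functor.map_zero,
    ← (isHorizontal_iff_comp _ _ _).1 c.π_horizontal,
    ← (isHorizontal_iff_comp _ _ _).1 c₀.π_horizontal, sub_self]

theorem act_diff (c c₀ : DefoSh.DefoConn δ nabla D) (a : ArtFun.Art.dual k k) :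
    D.act a ≫ diff c c₀ = diff c c₀ ≫ tw (D.act a) := by
  apply (T X).map_injective
  rw [Functor.map_comp, Functor.map_comp, T_diff, Preadditive.sub_comp, Preadditive.comp_sub,
    (isHorizontal_iff_comp _ _ _).1 (c.act_horizontal a),
    (isHorizontal_iff_comp _ _ _).1 (c₀.act_horizontal a)]

variable (ι : E ⟶ D.sheaf) (hι : D.π ≫ ι = D.act (DualNumber.eps : DualNumber k))

include hι in
theorem ι_eps : ι ≫ D.act (DualNumber.eps : DualNumber k) = 0 := by
  rw [← hι, ← Category.assoc, i_π D ι hι, zero_comp]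

/-- the perturbation `π ≫ φ ≫ (ι ⊗ 1)` -/
noncomputable abbrev pert (φ : E ⟶ CohB1.tensorMod E Ω') : D.sheaf ⟶ CohB1.tensorMod D.sheaf Ω' :=
  D.π ≫ φ ≫ tw ι

include hι in
theorem act_pert (φ : E ⟶ CohB1.tensorMod E Ω') (a : ArtFun.Art.dual k k) :
    D.act a ≫ pert ι φ = pert ι φ ≫ tw (D.act a) := by
  have h1 : D.act (DualNumber.eps : DualNumber k) ≫ pert ι φ = 0 := by
    unfold pert
    rw [← Category.assoc, eps_π, zero_comp]
  have h2 : pert ι φ ≫ tw (Ω' := Ω') (D.act (DualNumber.eps : DualNumber k)) = 0 := by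
    unfold pert
    rw [Category.assoc, Category.assoc, ← tw_comp, ι_eps ι hι, tw_zero, comp_zero, comp_zero]
  obtain ⟨c, b, rfl⟩ := dual_decomp a
  have e1 : D.act (algebraMap k (ArtFun.Art.dual k k) c + algebraMap k (ArtFun.Art.dual k k) b * eps) =
      c • (1 : End D.sheaf) + b • D.act (DualNumber.eps : DualNumber k) := by
    rw [map_add, map_mul, AlgHom.commutes, AlgHom.commutes, Algebra.algebraMap_eq_smul_one,
      Algebra.algebraMap_eq_smul_one, smul_mul_assoc, one_mul]
  rw [e1]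
  change ((c • 𝟙 D.sheaf + b • (show D.sheaf ⟶ D.sheaf from D.act (DualNumber.eps : DualNumber k)) :
      D.sheaf ⟶ D.sheaf)) ≫ pert ι φ =
    pert ι φ ≫ tw ((c • 𝟙 D.sheaf +
      b • (show D.sheaf ⟶ D.sheaf from D.act (DualNumber.eps : DualNumber k)) : D.sheaf ⟶ D.sheaf))
  rw [tw_add]
  unfold tw
  rw [tensorMap_smul_left, tensorMap_smul_left, KoszTw.tensorMap_id, Preadditive.add_comp,
    Preadditive.comp_add, Linear.smul_comp, Linear.smul_comp, Linear.comp_smul, Linear.comp_smul,
    Category.id_comp, Category.comp_id]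
  change c • pert ι φ + b • (D.act (DualNumber.eps : DualNumber k) ≫ pert ι φ) =
    c • pert ι φ + b • (pert ι φ ≫ tw (Ω' := Ω') (D.act (DualNumber.eps : DualNumber k)))
  rw [h1, h2]

include hι in
/-- the deformation of the connection `c₀ + π ≫ φ ≫ (ι ⊗ 1)` -/
noncomputable def ofHom (c₀ : DefoSh.DefoConn δ nabla D) (φ : E ⟶ CohB1.tensorMod E Ω') :
    DefoSh.DefoConn δ nabla D where
  conn := c₀.conn + (T X).map (pert ι φ)
  isConn := by
    intro U t e
    rw [secApp_add, secApp_add, c₀.isConn, secApp_map, secApp_map, map_smul, smul_add]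
    abel
  act_horizontal := by
    intro a
    rw [isHorizontal_iff_comp, Preadditive.comp_add, Preadditive.add_comp,
      (isHorizontal_iff_comp _ _ _).1 (c₀.act_horizontal a), ← Functor.map_comp, ← Functor.map_comp,
      act_pert ι hι]
  π_horizontal := by
    rw [isHorizontal_iff_comp, Preadditive.add_comp,
      (isHorizontal_iff_comp _ _ _).1 c₀.π_horizontal, ← Functor.map_comp]
    have h : pert ι φ ≫ tw (Ω' := Ω') D.π = 0 := by
      unfold pert
      rw [Category.assoc, Category.assoc, ← tw_comp, i_π D ι hι, tw_zero, comp_zero, comp_zero]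
    rw [h, Functor.map_zero, add_zero]

variable (hE : FlatMod.IsFinLocFree E)

include hι hE in
theorem tw_ses : (ShortComplex.mk (tw (Ω' := Ω') ι) (tw D.π)
    (by rw [← tw_comp, i_π D ι hι, tw_zero])).ShortExact :=
  tw_shortExact ι D.π (i_π D ι hι) (shortExact D ι hι)
    (fun x => projective_stalk_of_isFinLocFree hE x)

include hι hE in
theorem exists_hom (c c₀ : DefoSh.DefoConn δ nabla D) :
    ∃ φ : E ⟶ CohB1.tensorMod E Ω', diff c c₀ = pert ι φ := by
  have hS := shortExact D ι hι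
  have hT := tw_ses (Ω' := Ω') ι hι hE
  haveI := hS.mono_f
  haveI := hS.epi_g
  haveI : Mono (tw (Ω' := Ω') ι) := hT.mono_f
  let ψ₁ : D.sheaf ⟶ CohB1.tensorMod E Ω' := hT.exact.lift (diff c c₀) (diff_tw_π c c₀)
  have hψ₁ : ψ₁ ≫ tw ι = diff c c₀ := hT.exact.lift_f _ _
  have h1 : D.act (DualNumber.eps : DualNumber k) ≫ ψ₁ = 0 := by
    rw [← cancel_mono (tw (Ω' := Ω') ι), Category.assoc, hψ₁, zero_comp, act_diff, ← hψ₁,
      Category.assoc, ← tw_comp, ι_eps ι hι, tw_zero, comp_zero]
  have h2 : ι ≫ ψ₁ = 0 := by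
    rw [← cancel_epi D.π, ← Category.assoc, hι, h1, comp_zero]
  refine ⟨hS.exact.desc ψ₁ h2, ?_⟩
  unfold pert
  rw [← Category.assoc, hS.exact.g_desc ψ₁ h2, hψ₁]

include hι hE in
theorem pert_injective (φ φ' : E ⟶ CohB1.tensorMod E Ω') (h : pert ι φ = pert ι φ') : φ = φ' := by
  have hS := shortExact D ι hι
  have hT := tw_ses (Ω' := Ω') ι hι hE
  haveI := hS.epi_g
  haveI : Mono (tw (Ω' := Ω') ι) := hT.mono_f
  unfold pert at h
  rw [← cancel_epi D.π, ← cancel_mono (tw (Ω' := Ω') ι), Category.assoc, Category.assoc]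
  exact h

/-- the map `c ↦ φ` -/
noncomputable def toHom (c₀ c : DefoSh.DefoConn δ nabla D) : E ⟶ CohB1.tensorMod E Ω' :=
  (exists_hom ι hι hE c c₀).choose

theorem toHom_spec (c₀ c : DefoSh.DefoConn δ nabla D) :
    diff c c₀ = pert ι (toHom ι hι hE c₀ c) :=
  (exists_hom ι hι hE c c₀).choose_spec

/-- deformations of the connection over `D` correspond to `Hom(E, E ⊗ Ω')` -/
noncomputable def equiv (c₀ : DefoSh.DefoConn δ nabla D) :
    DefoSh.DefoConn δ nabla D ≃ (E ⟶ CohB1.tensorMod E Ω') where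
  toFun c := toHom ι hι hE c₀ c
  invFun φ := ofHom ι hι c₀ φ
  left_inv c := by
    apply defoConn_ext
    change c₀.conn + (T X).map (pert ι (toHom ι hι hE c₀ c)) = c.conn
    rw [← toHom_spec, T_diff]
    abel
  right_inv φ := by
    apply pert_injective ι hι hE
    rw [← toHom_spec]
    apply (T X).map_injective
    rw [T_diff]
    change c₀.conn + (T X).map (pert ι φ) - c₀.conn = _
    abel

theorem equiv_spec (c₀ c : DefoSh.DefoConn δ nabla D) :
    c.conn - c₀.conn = (T X).map (D.π ≫ equiv ι hι hE c₀ c ≫ tw ι) := by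
  change _ = (T X).map (pert ι (toHom ι hι hE c₀ c))
  rw [← toHom_spec, T_diff]

end Defo

end Groth.Agent.Lib.Helper2.DefoConnEquiv
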