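import Mathlib
import Groth.Prelude.Def_DerCA
import Groth.Agent.Lib.Helper2.ProSys

/-!
# Truncations in the derived category and pro-systems (helper2)
-/

set_option autoImplicit false
universe w v u
open CategoryTheory CategoryTheory.Limits Opposite CategoryTheory.Pretriangulated DerivedCategory

namespace Groth.Agent.Lib.Helper2.DerTrunc

open Groth.Agent.Lib.Helper2.ProSys

section Hom

variable {A : Type u} [Category.{v} A] [Abelian A] [HasDerivedCategory.{w} A]

/-- The canonical t-structure. -/
noncomputable abbrev tt : Triangulated.TStructure (DerivedCategory A) := DerivedCategory.TStructure.t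

lemma isZero_homology_truncLT (X : DerivedCategory A) (n i : ℤ) (h : n ≤ i) :
    IsZero ((homologyFunctor A i).obj ((tt.truncLT n).obj X)) := by
  have : (tt : Triangulated.TStructure (DerivedCategory A)).IsLE ((tt.truncLT n).obj X) (n - 1) :=
    inferInstance
  exact isZero_of_isLE _ (n - 1) i (by omega)

lemma isZero_homology_truncGE (X : DerivedCategory A) (n i : ℤ) (h : i < n) :
    IsZero ((homologyFunctor A i).obj ((tt.truncGE n).obj X)) := by
  have : (tt : Triangulated.TStructure (DerivedCategory A)).IsGE ((tt.truncGE n).obj X) n :=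
    inferInstance
  exact isZero_of_isGE _ n i h

lemma isIso_homology_truncGEπ (X : DerivedCategory A) (n i : ℤ) (h : n ≤ i) :
    IsIso ((homologyFunctor A i).map ((tt.truncGEπ n).app X)) := by
  have hT := tt.triangleLTGE_distinguished n X
  have hmono : Mono ((homologyFunctor A i).map ((tt.truncGEπ n).app X)) :=
    (HomologySequence.mono_homologyMap_mor₂_iff _ hT i).2
      ((isZero_homology_truncLT X n i h).eq_of_src _ _)
  have hepi : Epi ((homologyFunctor A i).map ((tt.truncGEπ n).app X)) :=
    (HomologySequence.epi_homologyMap_mor₂_iff _ hT i (i + 1) rfl).2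
      ((isZero_homology_truncLT X n (i + 1) (by omega)).eq_of_tgt _ _)
  exact isIso_of_mono_of_epi _

lemma isIso_homology_truncLTι (X : DerivedCategory A) (n i : ℤ) (h : i < n) :
    IsIso ((homologyFunctor A i).map ((tt.truncLTι n).app X)) := by
  have hT := tt.triangleLTGE_distinguished n X
  have hmono : Mono ((homologyFunctor A i).map ((tt.truncLTι n).app X)) :=
    (HomologySequence.mono_homologyMap_mor₁_iff _ hT (i - 1) i (by omega)).2
      ((isZero_homology_truncGE X n (i - 1) (by omega)).eq_of_src _ _)
  have hepi : Epi ((homologyFunctor A i).map ((tt.truncLTι n).app X)) :=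
    (HomologySequence.epi_homologyMap_mor₁_iff _ hT i).2
      ((isZero_homology_truncGE X n i h).eq_of_tgt _ _)
  exact isIso_of_mono_of_epi _


section Single

variable (a : ℤ)

instance : (singleFunctor A a ⋙ homologyFunctor A a).Full :=
  Functor.Full.of_iso (singleFunctorCompHomologyFunctorIso A a).symm

instance : (singleFunctor A a ⋙ homologyFunctor A a).Faithful :=
  Functor.Faithful.of_iso (singleFunctorCompHomologyFunctorIso A a).symm

/-- `H^a` is faithful on objects concentrated in degree `a`. -/
lemma homology_faithful_of_single {P Q : DerivedCategory A} [P.IsGE a] [P.IsLE a] [Q.IsGE a] [Q.IsLE a]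
    (g₁ g₂ : P ⟶ Q) (h : (homologyFunctor A a).map g₁ = (homologyFunctor A a).map g₂) : g₁ = g₂ := by
  obtain ⟨M, ⟨eP⟩⟩ := exists_iso_singleFunctor_obj_of_isGE_of_isLE P a
  obtain ⟨N, ⟨eQ⟩⟩ := exists_iso_singleFunctor_obj_of_isGE_of_isLE Q a
  obtain ⟨k₁, hk₁⟩ := (singleFunctor A a).map_surjective (eP.inv ≫ g₁ ≫ eQ.hom)
  obtain ⟨k₂, hk₂⟩ := (singleFunctor A a).map_surjective (eP.inv ≫ g₂ ≫ eQ.hom)
  have hk : k₁ = k₂ := by
    apply (singleFunctor A a ⋙ homologyFunctor A a).map_injective
    dsimp only [Functor.comp_map]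
    rw [hk₁, hk₂, Functor.map_comp, Functor.map_comp, Functor.map_comp, Functor.map_comp, h]
  have : eP.inv ≫ g₁ ≫ eQ.hom = eP.inv ≫ g₂ ≫ eQ.hom := by rw [← hk₁, ← hk₂, hk]
  rw [cancel_epi, cancel_mono] at this
  exact this

/-- `H^a` is full on objects concentrated in degree `a`. -/
lemma homology_full_of_single {P Q : DerivedCategory A} [P.IsGE a] [P.IsLE a] [Q.IsGE a] [Q.IsLE a]
    (b : (homologyFunctor A a).obj P ⟶ (homologyFunctor A a).obj Q) :
    ∃ g : P ⟶ Q, (homologyFunctor A a).map g = b := by
  obtain ⟨M, ⟨eP⟩⟩ := exists_iso_singleFunctor_obj_of_isGE_of_isLE P a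
  obtain ⟨N, ⟨eQ⟩⟩ := exists_iso_singleFunctor_obj_of_isGE_of_isLE Q a
  obtain ⟨k, hk⟩ := (singleFunctor A a ⋙ homologyFunctor A a).map_surjective
    ((homologyFunctor A a).map eP.inv ≫ b ≫ (homologyFunctor A a).map eQ.hom)
  dsimp only [Functor.comp_map] at hk
  refine ⟨eP.hom ≫ (singleFunctor A a).map k ≫ eQ.inv, ?_⟩
  rw [Functor.map_comp, Functor.map_comp, hk]
  simp only [Category.assoc, ← Functor.map_comp, Iso.hom_inv_id]
  rw [CategoryTheory.Functor.map_id, Category.comp_id, ← Category.assoc, ← Functor.map_comp, Iso.hom_inv_id,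
    CategoryTheory.Functor.map_id, Category.id_comp]

end Single


section Sys

/-- The system of maps `τ_{<n} X_k ⟶ X_k`. -/
noncomputable def sysι (n : ℤ) (X : ARSys.PS (DerivedCategory A)) : X ⋙ tt.truncLT n ⟶ X where
  app k := (tt.truncLTι n).app (X.obj k)
  naturality _ _ φ := (tt.truncLTι n).naturality (X.map φ)

/-- The system of maps `X_k ⟶ τ_{≥n} X_k`. -/
noncomputable def sysπ (n : ℤ) (X : ARSys.PS (DerivedCategory A)) : X ⟶ X ⋙ tt.truncGE n where
  app k := (tt.truncGEπ n).app (X.obj k)
  naturality _ _ φ := (tt.truncGEπ n).naturality (X.map φ)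

/-- The system of maps `τ_{≥n} X_k ⟶ (τ_{<n} X_k)[1]`. -/
noncomputable def sysδ (n : ℤ) (X : ARSys.PS (DerivedCategory A)) :
    X ⋙ tt.truncGE n ⟶ (X ⋙ tt.truncLT n) ⋙ shiftFunctor (DerivedCategory A) (1 : ℤ) where
  app k := (tt.truncGEδLT n).app (X.obj k)
  naturality _ _ φ := (tt.truncGEδLT n).naturality (X.map φ)

lemma sys_dist (n : ℤ) (X : ARSys.PS (DerivedCategory A)) (k : ℕ) :
    Triangle.mk ((sysι n X).app (op k)) ((sysπ n X).app (op k)) ((sysδ n X).app (op k)) ∈
      distTriang (DerivedCategory A) :=
  tt.triangleLTGE_distinguished n (X.obj (op k))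

/-- Base case: systems concentrated in a single degree. -/
theorem isProIso_of_single (a : ℤ) {W W' : ARSys.PS (DerivedCategory A)} (φ : W ⟶ W')
    (hW : ∀ n : ℕ, (W.obj (op n)).IsGE a ∧ (W.obj (op n)).IsLE a)
    (hW' : ∀ n : ℕ, (W'.obj (op n)).IsGE a ∧ (W'.obj (op n)).IsLE a)
    (hH : DerCA.IsProIso (Functor.whiskerRight φ (homologyFunctor A a))) : DerCA.IsProIso φ := by
  intro n
  obtain ⟨m, h, b, hb1, hb2⟩ := hH n
  have := (hW n).1
  have := (hW n).2
  have := (hW m).1
  have := (hW m).2
  have := (hW' n).1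
  have := (hW' n).2
  have := (hW' m).1
  have := (hW' m).2
  obtain ⟨β, hβ⟩ := homology_full_of_single a (P := W'.obj (op m)) (Q := W.obj (op n)) b
  refine ⟨m, h, β, ?_, ?_⟩
  · apply homology_faithful_of_single a
    rw [Functor.map_comp, hβ]
    exact hb1
  · apply homology_faithful_of_single a
    rw [Functor.map_comp, hβ]
    exact hb2

theorem isProIso_of_homology_aux (d : ℕ) : ∀ (a b : ℤ) (_ : b < a + d)
    (X Y : ARSys.PS (DerivedCategory A)) (f : X ⟶ Y)
    (_ : ∀ (n : ℕ) (i : ℤ), i < a ∨ b < i → IsZero ((homologyFunctor A i).obj (X.obj (op n))))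
    (_ : ∀ (n : ℕ) (i : ℤ), i < a ∨ b < i → IsZero ((homologyFunctor A i).obj (Y.obj (op n))))
    (_ : ∀ i : ℤ, DerCA.IsProIso (Functor.whiskerRight f (homologyFunctor A i))),
    DerCA.IsProIso f := by
  induction d with
  | zero =>
    intro a b hd X Y f hX hY hH
    have hz : ∀ (V : ARSys.PS (DerivedCategory A))
        (_ : ∀ (n : ℕ) (i : ℤ), i < a ∨ b < i → IsZero ((homologyFunctor A i).obj (V.obj (op n)))),
        ∀ n : ℕ, IsZero (V.obj (op n)) := by
      intro V hV n
      have h1 : (V.obj (op n)).IsLE (a - 1) :=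
        (isLE_iff _ _).2 (fun i hi => hV n i (Or.inr (by omega)))
      have h2 : (V.obj (op n)).IsGE a := (isGE_iff _ _).2 (fun i hi => hV n i (Or.inl hi))
      exact tt.isZero _ (a - 1) a (by omega)
    exact isProIso_of_isZero f (hz X hX) (hz Y hY)
  | succ d ih =>
    intro a b hd X Y f hX hY hH
    -- the truncation `τ_{≥ a+1}`
    have h3 : DerCA.IsProIso (Functor.whiskerRight f (tt.truncGE (a + 1))) := by
      have hV : ∀ (V : ARSys.PS (DerivedCategory A))
          (_ : ∀ (n : ℕ) (i : ℤ), i < a ∨ b < i → IsZero ((homologyFunctor A i).obj (V.obj (op n)))),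
          ∀ (n : ℕ) (i : ℤ), i < a + 1 ∨ b < i →
            IsZero ((homologyFunctor A i).obj ((V ⋙ tt.truncGE (a + 1)).obj (op n))) := by
        intro V hV n i hi
        by_cases hia : i < a + 1
        · exact isZero_homology_truncGE _ _ _ hia
        · have := isIso_homology_truncGEπ (V.obj (op n)) (a + 1) i (by omega)
          exact (hV n i (Or.inr (by omega))).of_iso
            (asIso ((homologyFunctor A i).map ((tt.truncGEπ (a + 1)).app (V.obj (op n))))).symm
      refine ih (a + 1) b (by omega) _ _ _ (hV X hX) (hV Y hY) ?_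
      intro i
      by_cases hia : i < a + 1
      · exact isProIso_of_isZero _ (fun n => isZero_homology_truncGE _ _ _ hia)
          (fun n => isZero_homology_truncGE _ _ _ hia)
      · have hiso : ∀ (V : DerivedCategory A),
            IsIso ((homologyFunctor A i).map ((tt.truncGEπ (a + 1)).app V)) :=
          fun V => isIso_homology_truncGEπ V (a + 1) i (by omega)
        refine isProIso_of_iso_square (Functor.whiskerRight f (homologyFunctor A i)) _
          (fun n => asIso ((homologyFunctor A i).map ((tt.truncGEπ (a + 1)).app (X.obj (op n)))))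
          (fun n => asIso ((homologyFunctor A i).map ((tt.truncGEπ (a + 1)).app (Y.obj (op n)))))
          ?_ ?_ ?_ (hH i)
        · intro n m h
          change (homologyFunctor A i).map (ARSys.tr X h) ≫ (homologyFunctor A i).map _ =
            (homologyFunctor A i).map _ ≫ (homologyFunctor A i).map ((tt.truncGE (a + 1)).map (ARSys.tr X h))
          rw [← Functor.map_comp, ← Functor.map_comp]
          congr 1
          exact (tt.truncGEπ (a + 1)).naturality (ARSys.tr X h)
        · intro n m h
          change (homologyFunctor A i).map (ARSys.tr Y h) ≫ (homologyFunctor A i).map _ =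
            (homologyFunctor A i).map _ ≫ (homologyFunctor A i).map ((tt.truncGE (a + 1)).map (ARSys.tr Y h))
          rw [← Functor.map_comp, ← Functor.map_comp]
          congr 1
          exact (tt.truncGEπ (a + 1)).naturality (ARSys.tr Y h)
        · intro n
          change (homologyFunctor A i).map (f.app (op n)) ≫ (homologyFunctor A i).map _ =
            (homologyFunctor A i).map _ ≫ (homologyFunctor A i).map ((tt.truncGE (a + 1)).map (f.app (op n)))
          rw [← Functor.map_comp, ← Functor.map_comp]
          congr 1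
          exact (tt.truncGEπ (a + 1)).naturality (f.app (op n))
    -- the truncation `τ_{< a+1}`
    have h1 : DerCA.IsProIso (Functor.whiskerRight f (tt.truncLT (a + 1))) := by
      have hV : ∀ (V : ARSys.PS (DerivedCategory A))
          (_ : ∀ (n : ℕ) (i : ℤ), i < a ∨ b < i → IsZero ((homologyFunctor A i).obj (V.obj (op n)))),
          ∀ n : ℕ, ((V ⋙ tt.truncLT (a + 1)).obj (op n)).IsGE a ∧
            ((V ⋙ tt.truncLT (a + 1)).obj (op n)).IsLE a := by
        intro V hV n
        refine ⟨(isGE_iff _ _).2 (fun i hi => ?_), ?_⟩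
        · have := isIso_homology_truncLTι (V.obj (op n)) (a + 1) i (by omega)
          exact (hV n i (Or.inl hi)).of_iso
            (asIso ((homologyFunctor A i).map ((tt.truncLTι (a + 1)).app (V.obj (op n)))))
        · change tt.IsLE ((tt.truncLT (a + 1)).obj (V.obj (op n))) a
          infer_instance
      refine isProIso_of_single a _ (hV X hX) (hV Y hY) ?_
      have hiso : ∀ (V : DerivedCategory A),
          IsIso ((homologyFunctor A a).map ((tt.truncLTι (a + 1)).app V)) :=
        fun V => isIso_homology_truncLTι V (a + 1) a (by omega)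
      refine isProIso_of_iso_square' (Functor.whiskerRight f (homologyFunctor A a)) _
        (fun n => asIso ((homologyFunctor A a).map ((tt.truncLTι (a + 1)).app (X.obj (op n)))))
        (fun n => asIso ((homologyFunctor A a).map ((tt.truncLTι (a + 1)).app (Y.obj (op n)))))
        ?_ ?_ ?_ (hH a)
      · intro n m h
        change (homologyFunctor A a).map ((tt.truncLT (a + 1)).map (ARSys.tr X h)) ≫
          (homologyFunctor A a).map _ = (homologyFunctor A a).map _ ≫ (homologyFunctor A a).map (ARSys.tr X h)
        rw [← Functor.map_comp, ← Functor.map_comp]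
        congr 1
        exact (tt.truncLTι (a + 1)).naturality (ARSys.tr X h)
      · intro n m h
        change (homologyFunctor A a).map ((tt.truncLT (a + 1)).map (ARSys.tr Y h)) ≫
          (homologyFunctor A a).map _ = (homologyFunctor A a).map _ ≫ (homologyFunctor A a).map (ARSys.tr Y h)
        rw [← Functor.map_comp, ← Functor.map_comp]
        congr 1
        exact (tt.truncLTι (a + 1)).naturality (ARSys.tr Y h)
      · intro n
        change (homologyFunctor A a).map ((tt.truncLT (a + 1)).map (f.app (op n))) ≫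
          (homologyFunctor A a).map _ = (homologyFunctor A a).map _ ≫ (homologyFunctor A a).map (f.app (op n))
        rw [← Functor.map_comp, ← Functor.map_comp]
        congr 1
        exact (tt.truncLTι (a + 1)).naturality (f.app (op n))
    -- two out of three
    refine isProIso_mid (sysι (a + 1) X) (sysπ (a + 1) X) (sysδ (a + 1) X)
      (sysι (a + 1) Y) (sysπ (a + 1) Y) (sysδ (a + 1) Y) (sys_dist _ X) (sys_dist _ Y)
      (Functor.whiskerRight f (tt.truncLT (a + 1))) f (Functor.whiskerRight f (tt.truncGE (a + 1)))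
      ?_ ?_ ?_ h1 h3
    · intro n
      exact ((tt.truncLTι (a + 1)).naturality (f.app (op n))).symm
    · intro n
      exact ((tt.truncGEπ (a + 1)).naturality (f.app (op n))).symm
    · intro n
      exact ((tt.truncGEδLT (a + 1)).naturality (f.app (op n))).symm

theorem isProIso_of_homology (X Y : ARSys.PS (DerivedCategory A)) (f : X ⟶ Y) (a b : ℤ)
    (hX : ∀ (n : ℕ) (i : ℤ), i < a ∨ b < i → IsZero ((homologyFunctor A i).obj (X.obj (op n))))
    (hY : ∀ (n : ℕ) (i : ℤ), i < a ∨ b < i → IsZero ((homologyFunctor A i).obj (Y.obj (op n))))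
    (hH : ∀ i : ℤ, DerCA.IsProIso (Functor.whiskerRight f (homologyFunctor A i))) :
    DerCA.IsProIso f :=
  isProIso_of_homology_aux (b - a + 1).toNat a b (by omega) X Y f hX hY hH

end Sys


section EssConst

/-- Base case: a system concentrated in a single degree whose cohomology system is essentially constant. -/
theorem essConstant_of_single (a : ℤ) (W : ARSys.PS (DerivedCategory A))
    (hW : ∀ n : ℕ, (W.obj (op n)).IsGE a ∧ (W.obj (op n)).IsLE a)
    (hH : ∃ (B : A) (c : (Functor.const ℕᵒᵖ).obj B ⟶ W ⋙ homologyFunctor A a),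
      DerCA.IsEssConstant (W ⋙ homologyFunctor A a) B c) :
    ∃ (L : DerivedCategory A) (c : (Functor.const ℕᵒᵖ).obj L ⟶ W), DerCA.IsEssConstant W L c := by
  obtain ⟨B, c, i, s, hs, hk⟩ := hH
  let L : DerivedCategory A := (singleFunctor A a).obj B
  let θ : (homologyFunctor A a).obj L ≅ B := (singleFunctorCompHomologyFunctorIso A a).app B
  have hLGE : L.IsGE a := inferInstance
  have hLLE : L.IsLE a := inferInstance
  have hWGE : ∀ n : ℕ, (W.obj (op n)).IsGE a := fun n => (hW n).1
  have hWLE : ∀ n : ℕ, (W.obj (op n)).IsLE a := fun n => (hW n).2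
  have hex : ∀ n : ℕ, ∃ g : L ⟶ W.obj (op n), (homologyFunctor A a).map g = θ.hom ≫ c.app (op n) :=
    fun n => homology_full_of_single a (P := L) (Q := W.obj (op n)) _
  choose cL hcL using hex
  obtain ⟨sL, hsL⟩ : ∃ g : W.obj (op i) ⟶ L, (homologyFunctor A a).map g = s ≫ θ.inv :=
    homology_full_of_single a (P := W.obj (op i)) (Q := L) _
  have hcn : ∀ (p q : ℕ) (hpq : p ≤ q),
      c.app (op q) ≫ (homologyFunctor A a).map (ARSys.tr W hpq) = c.app (op p) := by
    intro p q hpq
    have := c.naturality (homOfLE hpq).op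
    simpa using this.symm
  refine ⟨L, { app := fun n => cL n.unop, naturality := ?_ }, i, sL, ?_, ?_⟩
  · intro n' n φ
    have hnn : n.unop ≤ n'.unop := leOfHom φ.unop
    have e1 : W.map φ = ARSys.tr W hnn := by
      congr 1
    change 𝟙 L ≫ cL n.unop = cL n'.unop ≫ W.map φ
    rw [Category.id_comp, e1]
    apply homology_faithful_of_single a (P := L) (Q := W.obj (op n.unop))
    rw [Functor.map_comp, hcL, hcL, Category.assoc, hcn]
  · change cL i ≫ sL = 𝟙 L
    apply homology_faithful_of_single a (P := L) (Q := L)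
    rw [Functor.map_comp, hcL, hsL, CategoryTheory.Functor.map_id, Category.assoc, ← Category.assoc (c.app _),
      hs]
    simp
  · intro j
    obtain ⟨k, hi, hj, hk'⟩ := hk j
    refine ⟨k, hi, hj, ?_⟩
    change ARSys.tr W hj = ARSys.tr W hi ≫ sL ≫ cL j
    apply homology_faithful_of_single a (P := W.obj (op k)) (Q := W.obj (op j))
    rw [Functor.map_comp, Functor.map_comp, hcL, hsL]
    simp only [Category.assoc, Iso.inv_hom_id_assoc]
    exact hk'

theorem essConstant_of_homology_aux (d : ℕ) : ∀ (a b : ℤ) (_ : b < a + d)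
    (X : ARSys.PS (DerivedCategory A))
    (_ : ∀ (n : ℕ) (i : ℤ), i < a ∨ b < i → IsZero ((homologyFunctor A i).obj (X.obj (op n))))
    (_ : ∀ i : ℤ, ∃ (B : A) (c : (Functor.const ℕᵒᵖ).obj B ⟶ X ⋙ homologyFunctor A i),
      DerCA.IsEssConstant (X ⋙ homologyFunctor A i) B c),
    ∃ (L : DerivedCategory A) (c : (Functor.const ℕᵒᵖ).obj L ⟶ X), DerCA.IsEssConstant X L c := by
  induction d with
  | zero =>
    intro a b hd X hX hH
    refine essConstant_of_isZero X (fun n => ?_)
    have h1 : (X.obj (op n)).IsLE (a - 1) :=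
      (isLE_iff _ _).2 (fun i hi => hX n i (Or.inr (by omega)))
    have h2 : (X.obj (op n)).IsGE a := (isGE_iff _ _).2 (fun i hi => hX n i (Or.inl hi))
    exact tt.isZero _ (a - 1) a (by omega)
  | succ d ih =>
    intro a b hd X hX hH
    -- `τ_{≥ a+1}`
    obtain ⟨C, cC, hC⟩ : ∃ (L : DerivedCategory A)
        (c : (Functor.const ℕᵒᵖ).obj L ⟶ X ⋙ tt.truncGE (a + 1)),
        DerCA.IsEssConstant (X ⋙ tt.truncGE (a + 1)) L c := by
      refine ih (a + 1) b (by omega) _ ?_ ?_
      · intro n i hi
        by_cases hia : i < a + 1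
        · exact isZero_homology_truncGE _ _ _ hia
        · have := isIso_homology_truncGEπ (X.obj (op n)) (a + 1) i (by omega)
          exact (hX n i (Or.inr (by omega))).of_iso
            (asIso ((homologyFunctor A i).map ((tt.truncGEπ (a + 1)).app (X.obj (op n))))).symm
      · intro i
        by_cases hia : i < a + 1
        · exact essConstant_of_isZero _ (fun n => isZero_homology_truncGE _ _ _ hia)
        · have hiso : ∀ (V : DerivedCategory A),
              IsIso ((homologyFunctor A i).map ((tt.truncGEπ (a + 1)).app V)) :=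
            fun V => isIso_homology_truncGEπ V (a + 1) i (by omega)
          refine essConstant_of_iso (X := X ⋙ homologyFunctor A i)
            (X' := (X ⋙ tt.truncGE (a + 1)) ⋙ homologyFunctor A i)
            (fun n => asIso ((homologyFunctor A i).map ((tt.truncGEπ (a + 1)).app (X.obj (op n)))))
            ?_ (hH i)
          intro n m h
          change (homologyFunctor A i).map (ARSys.tr X h) ≫ (homologyFunctor A i).map _ =
            (homologyFunctor A i).map _ ≫ (homologyFunctor A i).map ((tt.truncGE (a + 1)).map (ARSys.tr X h))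
          rw [← Functor.map_comp, ← Functor.map_comp]
          congr 1
          exact (tt.truncGEπ (a + 1)).naturality (ARSys.tr X h)
    -- `τ_{< a+1}`
    obtain ⟨B, cB, hB⟩ : ∃ (L : DerivedCategory A)
        (c : (Functor.const ℕᵒᵖ).obj L ⟶ X ⋙ tt.truncLT (a + 1)),
        DerCA.IsEssConstant (X ⋙ tt.truncLT (a + 1)) L c := by
      refine essConstant_of_single a _ ?_ ?_
      · intro n
        refine ⟨(isGE_iff _ _).2 (fun i hi => ?_), ?_⟩
        · have := isIso_homology_truncLTι (X.obj (op n)) (a + 1) i (by omega)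
          exact (hX n i (Or.inl hi)).of_iso
            (asIso ((homologyFunctor A i).map ((tt.truncLTι (a + 1)).app (X.obj (op n)))))
        · change tt.IsLE ((tt.truncLT (a + 1)).obj (X.obj (op n))) a
          infer_instance
      · have hiso : ∀ (V : DerivedCategory A),
            IsIso ((homologyFunctor A a).map ((tt.truncLTι (a + 1)).app V)) :=
          fun V => isIso_homology_truncLTι V (a + 1) a (by omega)
        refine essConstant_of_iso (X := X ⋙ homologyFunctor A a)
          (X' := (X ⋙ tt.truncLT (a + 1)) ⋙ homologyFunctor A a)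
          (fun n => (asIso ((homologyFunctor A a).map ((tt.truncLTι (a + 1)).app (X.obj (op n))))).symm)
          ?_ (hH a)
        intro n m h
        dsimp only [Iso.symm_hom, asIso_inv]
        rw [IsIso.comp_inv_eq, Category.assoc, IsIso.eq_inv_comp]
        change (homologyFunctor A a).map _ ≫ (homologyFunctor A a).map (ARSys.tr X h) =
          (homologyFunctor A a).map ((tt.truncLT (a + 1)).map (ARSys.tr X h)) ≫ (homologyFunctor A a).map _
        rw [← Functor.map_comp, ← Functor.map_comp]
        congr 1
        exact ((tt.truncLTι (a + 1)).naturality (ARSys.tr X h)).symm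
    exact essConstant_mid _ X _ (sysι (a + 1) X) (sysπ (a + 1) X) (sysδ (a + 1) X) (sys_dist _ X)
      B cB hB C cC hC

theorem essConstant_of_homology (X : ARSys.PS (DerivedCategory A)) (a b : ℤ)
    (hX : ∀ (n : ℕ) (i : ℤ), i < a ∨ b < i → IsZero ((homologyFunctor A i).obj (X.obj (op n))))
    (hH : ∀ i : ℤ, ∃ (B : A) (c : (Functor.const ℕᵒᵖ).obj B ⟶ X ⋙ homologyFunctor A i),
      DerCA.IsEssConstant (X ⋙ homologyFunctor A i) B c) :
    ∃ (L : DerivedCategory A) (c : (Functor.const ℕᵒᵖ).obj L ⟶ X), DerCA.IsEssConstant X L c :=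
  essConstant_of_homology_aux (b - a + 1).toNat a b (by omega) X hX hH

end EssConst

end Hom

end Groth.Agent.Lib.Helper2.DerTrunc
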