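import Groth.Agent.Lib.Helper13.HomBC5
import Groth.Agent.Lib.Helper13.FinCoh1

/-!
# Local-to-global for self-maps of a pseudo-coherent bounded below object of `D(A)`
-/

set_option autoImplicit false

open CategoryTheory CategoryTheory.Limits TensorProduct

universe u

namespace Groth.Agent.Lib.Helper2.DualLoc

open DerivedCategory Groth.Agent.Lib.Helper13.DR Groth.Agent.Lib.Helper13.HomBC

attribute [local instance] HasDerivedCategory.standard

variable {A : Type u} [CommRing A]

/-- A module all of whose base changes to the local rings at maximal ideals vanish is zero. -/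
lemma subsingleton_of_forall_tensor (H : Type*) [AddCommGroup H] [Module A H]
    (h : ∀ (m : Ideal A) [m.IsMaximal], Subsingleton (Localization.AtPrime m ⊗[A] H)) :
    Subsingleton H :=
  Module.subsingleton_of_localization_maximal
    (fun (P : Ideal A) [P.IsMaximal] => Localization.AtPrime P ⊗[A] H)
    (fun (P : Ideal A) [P.IsMaximal] => TensorProduct.mk A (Localization.AtPrime P) H 1)
    (fun P _ => h P)

/-- A linear map which is bijective after base change to all local rings at maximal ideals is
bijective. -/
lemma bijective_of_forall_lTensor {M N : Type*} [AddCommGroup M] [Module A M] [AddCommGroup N]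
    [Module A N] (F : M →ₗ[A] N)
    (h : ∀ (m : Ideal A) [m.IsMaximal],
      Function.Bijective (LinearMap.lTensor (Localization.AtPrime m) F)) :
    Function.Bijective F := by
  refine bijective_of_isLocalized_maximal
    (fun (P : Ideal A) [P.IsMaximal] => Localization.AtPrime P ⊗[A] M)
    (fun (P : Ideal A) [P.IsMaximal] => TensorProduct.mk A (Localization.AtPrime P) M 1)
    (fun (P : Ideal A) [P.IsMaximal] => Localization.AtPrime P ⊗[A] N)
    (fun (P : Ideal A) [P.IsMaximal] => TensorProduct.mk A (Localization.AtPrime P) N 1)
    F ?_
  intro P _
  have : IsLocalizedModule.map P.primeCompl (TensorProduct.mk A (Localization.AtPrime P) M 1)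
      (TensorProduct.mk A (Localization.AtPrime P) N 1) F
      = LinearMap.lTensor (Localization.AtPrime P) F := by
    apply IsLocalizedModule.linearMap_ext P.primeCompl
      (TensorProduct.mk A (Localization.AtPrime P) M 1)
      (TensorProduct.mk A (Localization.AtPrime P) N 1)
    ext x
    exact IsLocalizedModule.map_apply P.primeCompl
      (TensorProduct.mk A (Localization.AtPrime P) M 1)
      (TensorProduct.mk A (Localization.AtPrime P) N 1) F x
  rw [this]
  exact h P

variable [IsNoetherianRing A]

section

variable (K : Dual.D A) (hK : DRing.IsPseudoCoherent' A K)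

include hK in
/-- Vanishing of `Hom(K, K[i])` can be checked at the maximal ideals. -/
theorem subsingleton_hom_shift (c : ℤ) [K.IsGE c] (i : ℤ)
    (h : ∀ (m : Ideal A) [m.IsMaximal],
      Subsingleton ((flatBC A (Localization.AtPrime m)).obj K ⟶
        ((flatBC A (Localization.AtPrime m)).obj K)⟦i⟧)) :
    Subsingleton (K ⟶ K⟦i⟧) := by
  refine subsingleton_of_forall_tensor (A := A) _ ?_
  intro m _
  haveI : (K⟦i⟧).IsGE (c - i) := TStructure.t.isGE_shift K c i (c - i) (by omega)
  have hb := bijective_bcHom (Localization.AtPrime m) K hK (K⟦i⟧) (c - i)
  have := h m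
  let e := ((flatBC A (Localization.AtPrime m)).commShiftIso i).app K
  have hsub : Subsingleton ((flatBC A (Localization.AtPrime m)).obj K ⟶
      (flatBC A (Localization.AtPrime m)).obj (K⟦i⟧)) :=
    ⟨fun f g => by
      have h1 : (f ≫ e.hom : (flatBC A (Localization.AtPrime m)).obj K ⟶
          ((flatBC A (Localization.AtPrime m)).obj K)⟦i⟧) = g ≫ e.hom := Subsingleton.elim _ _
      exact (cancel_mono e.hom).1 h1⟩
  exact hb.1.subsingleton

include hK in
/-- Bijectivity of `A → End(K)` can be checked at the maximal ideals. -/
theorem bijective_toEnd (c : ℤ) [K.IsGE c]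
    (h : ∀ (m : Ideal A) [m.IsMaximal], Function.Bijective
      (fun b : Localization.AtPrime m => b • 𝟙 ((flatBC A (Localization.AtPrime m)).obj K))) :
    Function.Bijective (fun a : A => a • 𝟙 K) := by
  let F : A →ₗ[A] (K ⟶ K) :=
    { toFun := fun a => a • 𝟙 K
      map_add' := fun a b => add_smul a b _
      map_smul' := fun a b => by simp [mul_smul] }
  change Function.Bijective F
  apply bijective_of_forall_lTensor
  intro m _
  have hb := bijective_bcHom (Localization.AtPrime m) K hK K c
  have hcomp : ∀ b : Localization.AtPrime m,
      bcHom (Localization.AtPrime m) K K (LinearMap.lTensor (Localization.AtPrime m) F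
        ((TensorProduct.rid A (Localization.AtPrime m)).symm b))
      = b • 𝟙 ((flatBC A (Localization.AtPrime m)).obj K) := by
    intro b
    rw [TensorProduct.rid_symm_apply, LinearMap.lTensor_tmul, bcHom_tmul]
    change b • (flatBC A (Localization.AtPrime m)).map ((1 : A) • 𝟙 K) = _
    rw [one_smul, CategoryTheory.Functor.map_id]
  have h1 : Function.Bijective (fun b : Localization.AtPrime m =>
      bcHom (Localization.AtPrime m) K K (LinearMap.lTensor (Localization.AtPrime m) F
        ((TensorProduct.rid A (Localization.AtPrime m)).symm b))) := by
    have := h m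
    convert this using 1
    funext b
    exact hcomp b
  have h2 : Function.Bijective (fun x : Localization.AtPrime m ⊗[A] A =>
      bcHom (Localization.AtPrime m) K K (LinearMap.lTensor (Localization.AtPrime m) F x)) := by
    have h3 := h1.comp (TensorProduct.rid A (Localization.AtPrime m)).bijective
    convert h3 using 1
    funext x
    simp only [Function.comp_apply, LinearEquiv.symm_apply_apply]
  exact (Function.Bijective.of_comp_iff' hb _).1 h2

end

end Groth.Agent.Lib.Helper2.DualLoc
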