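import Mathlib

/-!
# Extension of complexes along an embedding commutes with additive functors (helper2)

`mapExtendIso G K e : (G.mapHomologicalComplex c').obj (K.extend e) ≅
  ((G.mapHomologicalComplex c).obj K).extend e`.
-/

set_option autoImplicit false

namespace Groth.Agent.Lib.Helper2.ExtendMap

open CategoryTheory CategoryTheory.Limits HomologicalComplex

variable {ι ι' : Type*} {c : ComplexShape ι} {c' : ComplexShape ι'}
variable {C D : Type*} [Category C] [Category D] [Preadditive C] [Preadditive D]
  [HasZeroObject C] [HasZeroObject D]
variable (G : C ⥤ D) [G.Additive] (K : HomologicalComplex C c)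

/-- componentwise comparison -/
noncomputable def xIso (i : Option ι) :
    G.obj (extend.X K i) ≅ extend.X ((G.mapHomologicalComplex c).obj K) i :=
  match i with
  | some _ => Iso.refl _
  | none => IsZero.iso (G.map_isZero (extend.isZero_X K rfl)) (extend.isZero_X _ rfl)

lemma xIso_hom_d (i j : Option ι) :
    G.map (extend.d K i j) ≫ (xIso G K j).hom =
      (xIso G K i).hom ≫ extend.d ((G.mapHomologicalComplex c).obj K) i j :=
  match i, j with
  | none, _ => by
      simp only [extend.d_none_eq_zero, Functor.map_zero, zero_comp, comp_zero]
  | some i, some j => by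
      change G.map (K.d i j) ≫ 𝟙 _ = 𝟙 _ ≫ G.map (K.d i j)
      rw [Category.comp_id, Category.id_comp]
  | some _, none => by
      simp only [extend.d_none_eq_zero', Functor.map_zero, zero_comp, comp_zero]

/-- `extend` commutes with `mapHomologicalComplex`. -/
noncomputable def mapExtendIso (e : c.Embedding c') :
    (G.mapHomologicalComplex c').obj (K.extend e) ≅
      ((G.mapHomologicalComplex c).obj K).extend e :=
  Hom.isoOfComponents (fun i' => xIso G K (e.r i')) (fun i' j' _ => (xIso_hom_d G K _ _).symm)

end Groth.Agent.Lib.Helper2.ExtendMap
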