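import Mathlib

/-!
# Fully faithful continuous + cocontinuous functors between sites

For `G : C ⥤ D` fully faithful, continuous and cocontinuous, the unit of `G^* ⊣ G_*`
(sheaf pullback ⊣ sheaf pushforward) is an isomorphism, and the counit of `G_* ⊣ Ran` is an iso.
-/

set_option autoImplicit false
open CategoryTheory CategoryTheory.Limits Opposite

namespace Groth.Agent.Lib.Helper2.FFSite

universe v' u'

section
variable {C : Type*} [Category C] {D : Type*} [Category D] (G : C ⥤ D) [G.Full] [G.Faithful]
  (J : GrothendieckTopology C) (K : GrothendieckTopology D) (A : Type u') [Category.{v'} A]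
  [G.IsContinuous J K] [G.IsCocontinuous J K]
  [∀ (F : Cᵒᵖ ⥤ A), G.op.HasPointwiseRightKanExtension F]

theorem isIso_counit_cocont : IsIso (G.sheafAdjunctionCocontinuous A J K).counit := by
  apply +allowSynthFailures NatIso.isIso_of_isIso_app
  intro Y
  have : IsIso ((sheafToPresheaf J A).map ((G.sheafAdjunctionCocontinuous A J K).counit.app Y)) := by
    change IsIso ((G.sheafAdjunctionCocontinuous A J K).counit.app Y).hom
    rw [Functor.sheafAdjunctionCocontinuous_counit_app_hom, Functor.ranAdjunction_counit]
    apply +allowSynthFailures NatIso.isIso_of_isIso_app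
    intro U
    exact (Functor.isPointwiseRightKanExtensionRanCounit G.op Y.obj (G.op.obj U)).isIso_hom_app
  exact isIso_of_reflects_iso _ (sheafToPresheaf J A)

variable [(G.sheafPushforwardContinuous A J K).IsRightAdjoint]

theorem isIso_unit_cont : IsIso (G.sheafAdjunctionContinuous A J K).unit := by
  let t : Adjunction.Triple (G.sheafPullback A J K) (G.sheafPushforwardContinuous A J K)
      (G.sheafPushforwardCocontinuous A J K) :=
    ⟨G.sheafAdjunctionContinuous _ _ _, G.sheafAdjunctionCocontinuous _ _ _⟩
  rw [t.isIso_unit_iff_isIso_counit]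
  exact isIso_counit_cocont G J K A

end

end Groth.Agent.Lib.Helper2.FFSite
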