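import Mathlib
import Groth.Agent.Lib.Helper12.ConstrTop

/-!
# Fibre dimension of a finite module: semicontinuity and constructibility
-/

set_option autoImplicit false
universe u

namespace Groth.Agent.Lib.Helper2.FiberDim

open TensorProduct

section General

variable {A : Type*} [CommRing A] {F : Type*} [AddCommGroup F] [Module A F]
  (K : Type*) [CommRing K] [Algebra A K]

/-- The `K`-span of the `1 ⊗ v i` is the kernel of `K ⊗ F → K ⊗ F/⟨v⟩`. -/
theorem span_tmul_eq_ker {ι : Type*} (v : ι → F) :
    Submodule.span K (Set.range fun i => (1 : K) ⊗ₜ[A] v i) =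
      LinearMap.ker ((Submodule.span A (Set.range v)).mkQ.baseChange K) := by
  set B := Submodule.span A (Set.range v) with hB
  apply le_antisymm
  · rw [Submodule.span_le]
    rintro _ ⟨i, rfl⟩
    rw [SetLike.mem_coe, LinearMap.mem_ker, LinearMap.baseChange_tmul]
    have : B.mkQ (v i) = 0 := by
      rw [Submodule.mkQ_apply, Submodule.Quotient.mk_eq_zero]
      exact Submodule.subset_span ⟨i, rfl⟩
    rw [this, tmul_zero]
  · intro x hx
    rw [LinearMap.mem_ker] at hx
    have hex := lTensor_exact K (LinearMap.exact_subtype_mkQ B) (Submodule.mkQ_surjective B)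
    have hx' : (B.mkQ.lTensor K) x = 0 := hx
    obtain ⟨y, rfl⟩ := (hex x).mp hx'
    clear hx hx'
    induction y using TensorProduct.induction_on with
    | zero => simp
    | add y z hy hz =>
      rw [map_add]
      exact Submodule.add_mem _ hy hz
    | tmul c b =>
      rw [LinearMap.lTensor_tmul, Submodule.subtype_apply]
      obtain ⟨b, hb⟩ := b
      change c ⊗ₜ[A] b ∈ _
      induction hb using Submodule.span_induction generalizing c with
      | mem b hb =>
        obtain ⟨i, rfl⟩ := hb
        have : c ⊗ₜ[A] v i = c • ((1 : K) ⊗ₜ[A] v i) := by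
          rw [TensorProduct.smul_tmul', smul_eq_mul, mul_one]
        rw [this]
        exact Submodule.smul_mem _ _ (Submodule.subset_span ⟨i, rfl⟩)
      | zero => simp
      | add b b' _ _ hb hb' =>
        rw [tmul_add]
        exact Submodule.add_mem _ (hb c) (hb' c)
      | smul a b _ hb =>
        rw [← TensorProduct.smul_tmul]
        exact hb (a • c)

theorem span_tmul_eq_top : Submodule.span K (Set.range fun n : F => (1 : K) ⊗ₜ[A] n) = ⊤ := by
  rw [eq_top_iff]
  rintro x -
  induction x using TensorProduct.induction_on with
  | zero => simp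
  | add y z hy hz => exact Submodule.add_mem _ hy hz
  | tmul c b =>
    have : c ⊗ₜ[A] b = c • ((1 : K) ⊗ₜ[A] b) := by
      rw [TensorProduct.smul_tmul', smul_eq_mul, mul_one]
    rw [this]
    exact Submodule.smul_mem _ _ (Submodule.subset_span ⟨b, rfl⟩)

end General

section Field

variable {A : Type*} [CommRing A] {F : Type*} [AddCommGroup F] [Module A F] [Module.Finite A F]
  (K : Type*) [Field K] [Algebra A K]

/-- rank–nullity for the fibre. -/
theorem finrank_span_add {ι : Type*} (v : ι → F) :
    Module.finrank K (Submodule.span K (Set.range fun i => (1 : K) ⊗ₜ[A] v i)) +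
      Module.finrank K (K ⊗[A] (F ⧸ Submodule.span A (Set.range v))) =
      Module.finrank K (K ⊗[A] F) := by
  rw [span_tmul_eq_ker]
  set g := (Submodule.span A (Set.range v)).mkQ.baseChange K with hg
  have hsurj : Function.Surjective g :=
    LinearMap.lTensor_surjective K (Submodule.mkQ_surjective _)
  have := LinearMap.finrank_range_add_finrank_ker g
  rw [LinearMap.range_eq_top.mpr hsurj, finrank_top] at this
  rw [add_comm]
  exact this

omit [Module.Finite A F] in
/-- if `1 ⊗ v i` span, the fibre has dimension at most the cardinality. -/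
theorem finrank_le_card_of_subsingleton {ι : Type*} [Fintype ι] (v : ι → F)
    (h : Subsingleton (K ⊗[A] (F ⧸ Submodule.span A (Set.range v)))) :
    Module.finrank K (K ⊗[A] F) ≤ Fintype.card ι := by
  apply finrank_le_of_span_eq_top (v := fun i => (1 : K) ⊗ₜ[A] v i)
  rw [span_tmul_eq_ker, eq_top_iff]
  intro x _
  rw [LinearMap.mem_ker]
  exact Subsingleton.elim _ _

end Field

section Spec

variable {A : Type u} [CommRing A] (N : Type u) [AddCommGroup N] [Module A N] [Module.Finite A N]

/-- fibre dimension function. -/
noncomputable def fdim (p : PrimeSpectrum A) : ℕ :=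
  Module.finrank p.asIdeal.ResidueField (p.asIdeal.ResidueField ⊗[A] N)

/-- upper semicontinuity. -/
theorem isOpen_setOf_fdim_le (b : ℕ) : IsOpen {p : PrimeSpectrum A | fdim N p ≤ b} := by
  rw [isOpen_iff_mem_nhds]
  intro p hp
  let K := p.asIdeal.ResidueField
  have hfin : Module.Finite K (Submodule.span K (Set.range fun n : N => (1 : K) ⊗ₜ[A] n)) := by
    rw [span_tmul_eq_top]
    infer_instance
  obtain ⟨f, hf, hspan, -⟩ := Submodule.exists_fun_fin_finrank_span_eq K
    (Set.range fun n : N => (1 : K) ⊗ₜ[A] n)
  choose v hv using hf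
  replace hspan : Submodule.span K (Set.range f) = ⊤ := hspan.trans (span_tmul_eq_top K)
  have hd : Module.finrank K (Submodule.span K (Set.range fun n : N => (1 : K) ⊗ₜ[A] n)) =
      fdim N p := by
    rw [span_tmul_eq_top, finrank_top]
    rfl
  set C := N ⧸ Submodule.span A (Set.range v) with hC
  -- p is not in the support of C
  have hpC : p ∉ Module.support A C := by
    rw [Module.mem_support_iff_nontrivial_residueField_tensorProduct, not_nontrivial_iff_subsingleton]
    have hker := span_tmul_eq_ker (A := A) (F := N) K v
    have hfv : (fun i => (1 : K) ⊗ₜ[A] v i) = f := funext hv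
    rw [hfv, hspan] at hker
    refine ⟨fun x y => ?_⟩
    have hz : ∀ z : K ⊗[A] C, z = 0 := by
      intro z
      obtain ⟨w, rfl⟩ := LinearMap.lTensor_surjective K
        (Submodule.mkQ_surjective (Submodule.span A (Set.range v))) z
      have : w ∈ LinearMap.ker ((Submodule.span A (Set.range v)).mkQ.baseChange K) := by
        rw [← hker]; trivial
      exact this
    rw [hz x, hz y]
  have hopen : IsOpen (Module.support A C)ᶜ := by
    rw [Module.support_eq_zeroLocus]
    exact (PrimeSpectrum.isClosed_zeroLocus _).isOpen_compl
  refine Filter.mem_of_superset (hopen.mem_nhds hpC) ?_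
  intro q hq
  have hqC : Subsingleton (q.asIdeal.ResidueField ⊗[A] C) := by
    rw [← not_nontrivial_iff_subsingleton,
      ← Module.mem_support_iff_nontrivial_residueField_tensorProduct]
    exact hq
  have := finrank_le_card_of_subsingleton q.asIdeal.ResidueField v hqC
  rw [Fintype.card_fin, hd] at this
  exact le_trans this hp

theorem isConstructible_setOf_fdim_eq [IsNoetherianRing A] (b : ℕ) :
    Topology.IsConstructible {p : PrimeSpectrum A | fdim N p = b} := by
  have h1 := Helper12.isConstructible_of_isOpen (isOpen_setOf_fdim_le (A := A) N b)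
  cases b with
  | zero =>
    convert h1 using 1
    ext p
    simp
  | succ b =>
    have h2 := Helper12.isConstructible_of_isOpen (isOpen_setOf_fdim_le (A := A) N b)
    convert h1.sdiff h2 using 1
    ext p
    simp only [Set.mem_ofPred_eq, Set.mem_sdiff, not_le]
    omega

theorem exists_fdim_le : ∃ g : ℕ, ∀ p : PrimeSpectrum A, fdim N p ≤ g := by
  obtain ⟨n, s, hs⟩ := Module.Finite.exists_fin (R := A) (M := N)
  refine ⟨n, fun p => ?_⟩
  have : Subsingleton (p.asIdeal.ResidueField ⊗[A] (N ⧸ Submodule.span A (Set.range s))) := by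
    rw [hs]
    have : Subsingleton (N ⧸ (⊤ : Submodule A N)) := Submodule.Quotient.subsingleton_iff.mpr rfl
    infer_instance
  have := finrank_le_card_of_subsingleton p.asIdeal.ResidueField s this
  rwa [Fintype.card_fin] at this

end Spec

end Groth.Agent.Lib.Helper2.FiberDim
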