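import Mathlib
import Groth.Agent.Lib.Helper28.FlatCxBounded

/-!
# Acyclic bounded-above complexes of flat modules stay acyclic after tensoring (helper2)

* `quasiIso_iff_cone_exactAt`: a morphism of cochain complexes is a quasi-isomorphism iff its
  mapping cone is acyclic.
* `exactAt_tensor`: an acyclic bounded above cochain complex of flat modules remains acyclic
  after `- ⊗ M`.
* `quasiIso_tensor`: a quasi-isomorphism of bounded-above complexes of flat modules remains a
  quasi-isomorphism after `- ⊗ M`.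
-/

set_option autoImplicit false
universe u

namespace Groth.Agent.Lib.Helper2.FlatAcyclic

open CategoryTheory CategoryTheory.Limits MonoidalCategory Function
open Groth.Agent.Lib.Helper28.FlatCx

theorem quasiIso_iff_cone_exactAt {C : Type*} [Category C] [Abelian C]
    {K L : CochainComplex C ℤ} (φ : K ⟶ L) :
    QuasiIso φ ↔ ∀ n, (CochainComplex.mappingCone φ).ExactAt n := by
  rw [← HomologicalComplex.mem_quasiIso_iff, ← HomotopyCategory.quotient_map_mem_quasiIso_iff,
    HomotopyCategory.quasiIso_eq_trW_subcategoryAcyclic,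
    ← HomotopyCategory.quotient_obj_mem_subcategoryAcyclic_iff_exactAt]
  exact (HomotopyCategory.subcategoryAcyclic C).trW_iff_of_distinguished _
    (HomotopyCategory.mappingCone_triangleh_distinguished φ)

section Splice

variable {A : Type u} [CommRing A]
variable {X0 Z1 X1 Z2 X2 : Type u} [AddCommGroup X0] [Module A X0] [AddCommGroup Z1] [Module A Z1]
  [AddCommGroup X1] [Module A X1] [AddCommGroup Z2] [Module A Z2] [AddCommGroup X2] [Module A X2]

theorem splice (M : Type u) [AddCommGroup M] [Module A M]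
    (t0 : X0 →ₗ[A] Z1) (i1 : Z1 →ₗ[A] X1) (t1 : X1 →ₗ[A] Z2) (i2 : Z2 →ₗ[A] X2)
    (ht0 : Surjective t0) (hex : Function.Exact i1 t1) (ht1 : Surjective t1)
    (hi2 : Injective (i2.rTensor M))
    (x : TensorProduct A X1 M) (hx : ((i2 ∘ₗ t1).rTensor M) x = 0) :
    ∃ w : TensorProduct A X0 M, ((i1 ∘ₗ t0).rTensor M) w = x := by
  rw [LinearMap.rTensor_comp, LinearMap.comp_apply] at hx
  have h1 : (t1.rTensor M) x = 0 := hi2 (by rw [hx, map_zero])
  have hexM : Function.Exact (i1.rTensor M) (t1.rTensor M) := rTensor_exact M hex ht1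
  obtain ⟨z, rfl⟩ := (hexM x).mp h1
  obtain ⟨w, rfl⟩ := LinearMap.rTensor_surjective M ht0 z
  exact ⟨w, by rw [LinearMap.rTensor_comp, LinearMap.comp_apply]⟩

end Splice

variable {A : Type u} [CommRing A]

/-- An acyclic bounded above cochain complex of flat modules remains acyclic after `- ⊗ M`. -/
theorem exactAt_tensor (F : CochainComplex (ModuleCat.{u} A) ℤ) (hF : ∀ i, Module.Flat A (F.X i))
    (b : ℤ) (hb : ∀ i, b < i → IsZero (F.X i)) (hac : ∀ n, F.ExactAt n) (M : ModuleCat.{u} A)
    (n : ℤ) :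
    (((tensorRight M).mapHomologicalComplex (ComplexShape.up ℤ)).obj F).ExactAt n := by
  have hH : ∀ p, IsZero (F.homology p) := fun p => (hac p).isZero_homology
  have hZ : ∀ p, Module.Flat A (F.cycles p) := fun p =>
    flat_cycles_of_boundedAbove F hF b hb p (fun q _ => hH q) p le_rfl
  rw [HomologicalComplex.exactAt_iff' _ (n - 1) n (n + 1) (by simp) (by simp),
    ShortComplex.moduleCat_exact_iff]
  intro x hx
  -- the injectivity of `iCycles (n+1) ⊗ M`
  have hi2 : Injective ((F.iCycles (n + 1)).hom.rTensor M) := by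
    haveI := hZ (n + 1 + 1)
    rw [← LinearMap.lTensor_inj_iff_rTensor_inj]
    exact LinearMap.lTensor_injective_of_exact_of_flat (F.toCycles (n + 1) (n + 1 + 1)).hom
      (toCycles_surjective_of_isZero F (n + 1) (n + 1 + 1) (by simp) (hH _))
      (F.iCycles (n + 1)).hom (iCycles_injective F (n + 1))
      (exact_iCycles_toCycles F (n + 1) (n + 1 + 1) (by simp)) M
  have hd1 : (F.d n (n + 1)).hom = (F.iCycles (n + 1)).hom ∘ₗ (F.toCycles n (n + 1)).hom := by
    rw [← ModuleCat.hom_comp, F.toCycles_i]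
  have hd0 : (F.d (n - 1) n).hom = (F.iCycles n).hom ∘ₗ (F.toCycles (n - 1) n).hom := by
    rw [← ModuleCat.hom_comp, F.toCycles_i]
  have hx' : (((F.iCycles (n + 1)).hom ∘ₗ (F.toCycles n (n + 1)).hom).rTensor M) x = 0 := by
    rw [← hd1]
    exact hx
  obtain ⟨w, hw⟩ := splice M (F.toCycles (n - 1) n).hom (F.iCycles n).hom
    (F.toCycles n (n + 1)).hom (F.iCycles (n + 1)).hom
    (toCycles_surjective_of_isZero F (n - 1) n (by simp) (hH _))
    (exact_iCycles_toCycles F n (n + 1) (by simp))
    (toCycles_surjective_of_isZero F n (n + 1) (by simp) (hH _)) hi2 x hx'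
  refine ⟨w, ?_⟩
  rw [← hd0] at hw
  exact hw

open CochainComplex in
theorem cone_flat' {K L : CochainComplex (ModuleCat.{u} A) ℤ}
    (hK : ∀ i : ℤ, Module.Flat A (K.X i)) (hL : ∀ i : ℤ, Module.Flat A (L.X i))
    (φ : K ⟶ L) (i : ℤ) : Module.Flat A ((mappingCone φ).X i) := by
  let S := (mappingCone.triangleRotateShortComplex φ).map (HomologicalComplex.eval _ _ i)
  have hS : S.ShortExact := (mappingCone.triangleRotateShortComplexSplitting φ i).shortExact
  haveI : Module.Flat A S.X₁ := hL i
  haveI : Module.Flat A S.X₃ := hK (i + 1)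
  exact flat_of_flat_of_flat S.f.hom S.g.hom hS.moduleCat_injective_f hS.moduleCat_surjective_g
    ((ShortComplex.ShortExact.moduleCat_exact_iff_function_exact S).mp hS.exact)

open CochainComplex in
theorem quasiIso_tensor (C D : CochainComplex (ModuleCat.{u} A) ℤ)
    (hC : ∀ i, Module.Flat A (C.X i)) (hD : ∀ i, Module.Flat A (D.X i))
    (bC : ∃ b : ℤ, ∀ i, b < i → IsZero (C.X i)) (bD : ∃ b : ℤ, ∀ i, b < i → IsZero (D.X i))
    (φ : C ⟶ D) [QuasiIso φ] (M : ModuleCat.{u} A) :
    QuasiIso (((MonoidalCategory.tensorRight M).mapHomologicalComplex (ComplexShape.up ℤ)).map φ) := by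
  obtain ⟨b1, hb1⟩ := bC
  obtain ⟨b2, hb2⟩ := bD
  rw [quasiIso_iff_cone_exactAt]
  intro n
  have hcone := (quasiIso_iff_cone_exactAt φ).mp inferInstance
  have key := exactAt_tensor (mappingCone φ) (cone_flat' hC hD φ) (max b1 b2) (by
    intro i hi
    rw [mappingCone.isZero_X_iff]
    exact ⟨hb1 _ (by omega), hb2 _ (by omega)⟩) hcone M n
  let e := mappingCone.mapHomologicalComplexIso φ (tensorRight M)
  rw [HomologicalComplex.exactAt_iff_isZero_homology] at key ⊢
  exact key.of_iso ((HomologicalComplex.homologyFunctor _ _ n).mapIso e).symm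

end Groth.Agent.Lib.Helper2.FlatAcyclic
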