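import Mathlib
import Groth.Agent.Lib.Helper2.FlatAcyclic
import Groth.Agent.Lib.Helper2.ExtendMap

/-!
# Flat resolutions compute `Tor'` (helper2)
-/

set_option autoImplicit false
universe u v

namespace Groth.Agent.Lib.Helper2.FlatResol

open CategoryTheory CategoryTheory.Limits HomologicalComplex ChainComplex Category

section Lift

variable {C : Type u} [Category.{v} C] [Abelian C]
variable {Z : C} (F : ChainComplex C ℕ) (φ : F ⟶ (ChainComplex.single₀ C).obj Z) [QuasiIso φ]

include φ in
lemma exactAt_succ (n : ℕ) : F.ExactAt (n + 1) := by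
  rw [← quasiIsoAt_iff_exactAt' φ (n + 1) (exactAt_succ_single_obj _ _)]
  infer_instance

include φ in
lemma exact_succ (n : ℕ) : (ShortComplex.mk _ _ (F.d_comp_d (n + 2) (n + 1) n)).Exact :=
  ((HomologicalComplex.exactAt_iff' _ (n + 2) (n + 1) n) (by simp only [ChainComplex.prev]; rfl)
    (by simp)).1 (exactAt_succ F φ n)

omit [QuasiIso φ] in
lemma d_comp_φ : F.d 1 0 ≫ φ.f 0 = 0 := by
  rw [← φ.comm 1 0, single_obj_d, comp_zero]

set_option backward.isDefEq.respectTransparency.types false in
set_option backward.defeqAttrib.useBackward true in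
/-- `Z` is the cokernel of `F.X 1 ⟶ F.X 0`. -/
noncomputable def isColimitCokernelCofork :
    IsColimit (CokernelCofork.ofπ _ (d_comp_φ F φ)) := by
  refine IsColimit.ofIsoColimit (F.opcyclesIsCokernel 1 0 (by simp)) ?_
  refine Cofork.ext (F.isoHomologyι₀.symm ≪≫ isoOfQuasiIsoAt φ 0 ≪≫
    singleObjHomologySelfIso _ _ _) ?_
  rw [← cancel_mono (singleObjHomologySelfIso (ComplexShape.down ℕ) 0 _).inv,
    ← cancel_mono (isoHomologyι₀ _).hom]
  dsimp
  simp only [isoHomologyι₀_inv_naturality_assoc, p_opcyclesMap_assoc, single₀_obj_zero, assoc,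
    Iso.hom_inv_id, comp_id, isoHomologyι_inv_hom_id, singleObjHomologySelfIso_inv_homologyι,
    singleObjOpcyclesSelfIso_hom, single₀ObjXSelf, Iso.refl_inv, id_comp]

lemma exact₀ : (ShortComplex.mk _ _ (d_comp_φ F φ)).Exact :=
  ShortComplex.exact_of_g_is_cokernel _ (isColimitCokernelCofork F φ)

lemma epi_φ_zero : Epi (φ.f 0) := epi_of_isColimit_cofork (isColimitCokernelCofork F φ)

variable (P : ProjectiveResolution Z)

/-- Auxiliary construction for `lift`. -/
noncomputable def liftFZero : P.complex.X 0 ⟶ F.X 0 :=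
  haveI := epi_φ_zero F φ
  Projective.factorThru (P.π.f 0) (φ.f 0)

lemma liftFZero_comp : liftFZero F φ P ≫ φ.f 0 = P.π.f 0 := by
  haveI := epi_φ_zero F φ
  exact Projective.factorThru_comp _ _

/-- Auxiliary construction for `lift`. -/
noncomputable def liftFOne : P.complex.X 1 ⟶ F.X 1 :=
  (exact₀ F φ).liftFromProjective (P.complex.d 1 0 ≫ liftFZero F φ P) (by
    change (P.complex.d 1 0 ≫ liftFZero F φ P) ≫ φ.f 0 = 0
    rw [assoc, liftFZero_comp, P.complex_d_comp_π_f_zero])

lemma liftFOne_zero_comm :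
    liftFOne F φ P ≫ F.d 1 0 = P.complex.d 1 0 ≫ liftFZero F φ P := by
  apply (exact₀ F φ).liftFromProjective_comp

/-- Auxiliary construction for `lift`. -/
noncomputable def liftFSucc (n : ℕ)
    (g : P.complex.X n ⟶ F.X n) (g' : P.complex.X (n + 1) ⟶ F.X (n + 1))
    (w : g' ≫ F.d (n + 1) n = P.complex.d (n + 1) n ≫ g) :
    Σ' g'' : P.complex.X (n + 2) ⟶ F.X (n + 2),
      g'' ≫ F.d (n + 2) (n + 1) = P.complex.d (n + 2) (n + 1) ≫ g' :=
  ⟨(exact_succ F φ n).liftFromProjective
    (P.complex.d (n + 2) (n + 1) ≫ g') (by simp [w]),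
      (exact_succ F φ n).liftFromProjective_comp _ _⟩

/-- The identity lifts to a chain map from a projective resolution to any resolution. -/
noncomputable def lift : P.complex ⟶ F :=
  ChainComplex.mkHom _ _ (liftFZero F φ P) (liftFOne F φ P) (liftFOne_zero_comm F φ P)
    fun n ⟨g, g', w⟩ => ⟨(liftFSucc F φ P n g g' w).1, (liftFSucc F φ P n g g' w).2⟩

theorem lift_commutes : lift F φ P ≫ φ = P.π := by
  ext
  simp only [lift, comp_f, mkHom_f_0]
  exact liftFZero_comp F φ P

instance : QuasiIso (lift F φ P) := by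
  haveI : QuasiIso (lift F φ P ≫ φ) := by
    rw [lift_commutes]
    infer_instance
  exact quasiIso_of_comp_right (lift F φ P) φ

end Lift

section Main

open MonoidalCategory Groth.Agent.Lib.Helper2.FlatAcyclic Groth.Agent.Lib.Helper2.ExtendMap

variable {R : Type u} [CommRing R]

lemma flat_extendX (K : ChainComplex (ModuleCat.{u} R) ℕ) (hK : ∀ i, Module.Flat R (K.X i))
    (o : Option ℕ) : Module.Flat R (extend.X K o : ModuleCat.{u} R) := by
  cases o with
  | none =>
    haveI : Subsingleton (extend.X K none : ModuleCat.{u} R) :=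
      ModuleCat.subsingleton_of_isZero (extend.isZero_X K rfl)
    infer_instance
  | some x => exact hK x

lemma flat_extend (K : ChainComplex (ModuleCat.{u} R) ℕ) (hK : ∀ i, Module.Flat R (K.X i))
    (i' : ℤ) : Module.Flat R ((K.extend ComplexShape.embeddingDownNat).X i') :=
  flat_extendX K hK _

lemma isZero_extend_pos (K : ChainComplex (ModuleCat.{u} R) ℕ) (i' : ℤ) (hi : 0 < i') :
    IsZero ((K.extend ComplexShape.embeddingDownNat).X i') := by
  apply isZero_extend_X
  intro i h
  simp only [ComplexShape.embeddingDownNat, ComplexShape.Embedding.mk'_f] at h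
  omega

/-- homology of `G K` computed after extension to a cochain complex -/
noncomputable def homologyExtendIso (N : ModuleCat.{u} R) (K : ChainComplex (ModuleCat.{u} R) ℕ)
    (i : ℕ) :
    (((tensorRight N).mapHomologicalComplex (ComplexShape.up ℤ)).obj
      (K.extend ComplexShape.embeddingDownNat)).homology (-(i : ℤ)) ≅
    (((tensorRight N).mapHomologicalComplex (ComplexShape.down ℕ)).obj K).homology i :=
  (HomologicalComplex.homologyFunctor _ _ (-(i : ℤ))).mapIso
      (mapExtendIso (tensorRight N) K ComplexShape.embeddingDownNat) ≪≫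
    extendHomologyIso _ ComplexShape.embeddingDownNat (j := i) (j' := -(i : ℤ)) rfl

theorem nonempty_homology_iso_Tor' (M N : ModuleCat.{u} R)
    (F : ChainComplex (ModuleCat.{u} R) ℕ) (hF : ∀ i : ℕ, Module.Flat R (F.X i))
    (φ : F ⟶ (ChainComplex.single₀ (ModuleCat.{u} R)).obj M) [QuasiIso φ] (i : ℕ) :
    Nonempty ((((tensorRight N).mapHomologicalComplex (ComplexShape.down ℕ)).obj F).homology i ≅
      ((Tor' (ModuleCat.{u} R) i).obj M).obj N) := by
  let P := ProjectiveResolution.of M
  let ψ := lift F φ P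
  let e := ComplexShape.embeddingDownNat
  let ψ' := extendMap ψ e
  have hP : ∀ i : ℕ, Module.Flat R (P.complex.X i) := fun i => by
    haveI : Module.Projective R (P.complex.X i) :=
      (IsProjective.iff_projective _).mpr (P.projective i)
    infer_instance
  have hq : QuasiIso (((tensorRight N).mapHomologicalComplex (ComplexShape.up ℤ)).map ψ') :=
    quasiIso_tensor _ _ (flat_extend _ hP) (flat_extend _ hF)
      ⟨0, fun i' hi => isZero_extend_pos _ i' hi⟩ ⟨0, fun i' hi => isZero_extend_pos _ i' hi⟩ ψ' N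
  have hα : IsIso (HomologicalComplex.homologyMap
      (((tensorRight N).mapHomologicalComplex (ComplexShape.up ℤ)).map ψ') (-(i : ℤ))) :=
    (quasiIsoAt_iff_isIso_homologyMap _ _).mp (hq.quasiIsoAt _)
  let α := @asIso _ _ _ _ _ hα
  exact ⟨(homologyExtendIso N F i).symm ≪≫ α.symm ≪≫ homologyExtendIso N P.complex i ≪≫
    (P.isoLeftDerivedObj (tensorRight N) i).symm⟩

end Main

end Groth.Agent.Lib.Helper2.FlatResol
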