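import Mathlib
import Groth.Prelude.Def_W4c3ghconstell
import Groth.Agent.Lib.Helper7.CoeffSpace
import Groth.Agent.Lib.Helper7.ComodIsotypic
import Groth.Agent.Lib.Helper7.FreeOrbitMod
import Groth.Agent.Lib.Helper7.UE5

/-!
# G-constellations: bookkeeping for θ-stability (helper2)

Uses helper7's comodule library.
-/

set_option autoImplicit false
universe u v w w'
open TensorProduct

namespace Groth.Agent.Lib.Helper2.GhConst

open HopfRep W4c3ghconstell Groth.Agent.Lib.Helper7.Comod

section Coalg

variable {k : Type u} [Field k] {A : Type v} [AddCommGroup A] [Module k A] [Coalgebra k A]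
variable {M : Type w'} [AddCommGroup M] [Module k M] [cM : Comod k A M]

theorem isSubcomod_isoComp (D : SimpSub k A) :
    IsSubcomod (k := k) (A := A) (isoComp M D.1) :=
  Groth.Agent.Lib.Helper7.UnipExt.isSubcomod_coeffPiece (V := M) (D := D.1) D.2.2.1

theorem exists_inf_isoComp_ne_bot {W : Submodule k M} (hW : IsSubcomod (k := k) (A := A) W)
    (hne : W ≠ ⊥) : ∃ D : SimpSub k A, W ⊓ isoComp M D.1 ≠ ⊥ := by
  obtain ⟨T, hTW, hT⟩ := exists_isSimpleSub_le hW hne
  letI cT : Comod k A T := ComodSub.Comod.restr cM T hT.1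
  have hsimple : IsSimpleComod k A T := isSimpleComod_restr hT
  have hD : Groth.Agent.Lib.Helper7.Comod.IsSimpleSubcoalg (coeffSpace k A T) :=
    isSimpleSubcoalg_coeffSpace hsimple
  refine ⟨⟨coeffSpace k A T, hD⟩, ?_⟩
  have hle : T ≤ W ⊓ isoComp M (coeffSpace k A T) := by
    refine le_inf hTW ?_
    intro t ht
    show Comod.coact (k := k) (A := A) t ∈
      LinearMap.range (LinearMap.lTensor M (coeffSpace k A T).subtype)
    have h1 := ComodSub.restr_coact_coe cM T hT.1 ⟨t, ht⟩
    have h2 := coact_mem_coeffSpace (k := k) (C := A) (V := T) ⟨t, ht⟩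
    obtain ⟨y, hy⟩ := h2
    have h3 : Comod.coact (k := k) (A := A) (V := T) ⟨t, ht⟩ =
        (ComodSub.Comod.restr cM T hT.1).coact ⟨t, ht⟩ := rfl
    rw [← h3, ← hy] at h1
    refine ⟨T.subtype.rTensor _ y, ?_⟩
    rw [← h1, ← LinearMap.comp_apply, ← LinearMap.comp_apply, LinearMap.lTensor_comp_rTensor,
      LinearMap.rTensor_comp_lTensor]
  intro h
  apply hT.2.1
  rw [h] at hle
  exact le_bot_iff.1 hle

end Coalg

section Mod

variable {k : Type u} [Field k] {A : Type v} [CommRing A] [Bialgebra k A]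
variable {R : Type w} [CommRing R] [Algebra k R] [cR : Comod k A R]
variable {M : Type w'} [AddCommGroup M] [Module k M] [Module R M] [IsScalarTower k R M]
  [cM : Comod k A M] [TameAct.IsHopfMod k A R M]

omit cR [TameAct.IsHopfMod k A R M] in
theorem genIn_le (S : Set (SimpSub k A)) (N : Submodule R M) : genIn k A R M S N ≤ N := by
  unfold genIn
  rw [Submodule.span_le]
  intro x hx
  simp only [Set.mem_iUnion, SetLike.mem_coe] at hx
  obtain ⟨D, _, hxD⟩ := hx
  exact hxD.1

omit cR [TameAct.IsHopfMod k A R M] in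
theorem inf_isoComp_le_genIn (S : Set (SimpSub k A)) (N : Submodule R M) {D : SimpSub k A}
    (hD : D ∈ S) :
    (N.restrictScalars k ⊓ isoComp M D.1 : Submodule k M) ≤ (genIn k A R M S N).restrictScalars k := by
  intro x hx
  show x ∈ genIn k A R M S N
  unfold genIn
  apply Submodule.subset_span
  simp only [Set.mem_iUnion, SetLike.mem_coe]
  exact ⟨D, hD, hx⟩

omit cR [TameAct.IsHopfMod k A R M] in
theorem genIn_inf_isoComp (S : Set (SimpSub k A)) (N : Submodule R M) {D : SimpSub k A}
    (hD : D ∈ S) :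
    ((genIn k A R M S N).restrictScalars k ⊓ isoComp M D.1 : Submodule k M) =
      N.restrictScalars k ⊓ isoComp M D.1 := by
  apply le_antisymm
  · exact inf_le_inf_right _ (fun x hx => genIn_le S N hx)
  · exact le_inf (inf_isoComp_le_genIn S N hD) inf_le_right

omit cR [TameAct.IsHopfMod k A R M] in
theorem genIn_genIn (S : Set (SimpSub k A)) (N : Submodule R M) :
    genIn k A R M S (genIn k A R M S N) = genIn k A R M S N := by
  apply le_antisymm (genIn_le S _)
  conv_lhs => unfold genIn
  rw [Submodule.span_le]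
  intro x hx
  simp only [Set.mem_iUnion, SetLike.mem_coe] at hx
  obtain ⟨D, hD, hxD⟩ := hx
  have : x ∈ ((genIn k A R M S N).restrictScalars k ⊓ isoComp M D.1 : Submodule k M) := by
    rw [genIn_inf_isoComp S N hD]; exact hxD
  exact inf_isoComp_le_genIn S (genIn k A R M S N) hD this

theorem isSubcomod_genIn (S : Set (SimpSub k A)) (N : Submodule R M)
    (hN : IsSubcomod (k := k) (A := A) (N.restrictScalars k)) :
    IsSubcomod (k := k) (A := A) ((genIn k A R M S N).restrictScalars k) := by
  intro x hx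
  change x ∈ genIn k A R M S N at hx
  unfold genIn at hx
  induction hx using Submodule.span_induction with
  | mem x hx =>
    simp only [Set.mem_iUnion, SetLike.mem_coe] at hx
    obtain ⟨D, hD, hxD⟩ := hx
    have hsub : IsSubcomod (k := k) (A := A)
        (N.restrictScalars k ⊓ isoComp M D.1 : Submodule k M) :=
      isSubcomod_inf hN (isSubcomod_isoComp D)
    obtain ⟨y, hy⟩ := hsub x hxD
    have hle := inf_isoComp_le_genIn S N hD
    rw [← hy]
    refine ⟨(Submodule.inclusion hle).rTensor A y, ?_⟩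
    rw [← LinearMap.comp_apply, ← LinearMap.rTensor_comp]
    rfl
  | zero => simp
  | add x y _ _ hx hy =>
    rw [map_add]
    exact Submodule.add_mem _ hx hy
  | smul r x _ hx =>
    rw [TameAct.IsHopfMod.coact_smul (k := k) (A := A) (B := R)]
    have hr : Comod.coact (k := k) (A := A) r ∈
        LinearMap.range (((⊤ : Ideal R).restrictScalars k).subtype.rTensor A) := by
      have hsurj : Function.Surjective (((⊤ : Ideal R).restrictScalars k).subtype) :=
        fun z => ⟨⟨z, trivial⟩, rfl⟩
      exact LinearMap.range_eq_top.2 (LinearMap.rTensor_surjective A hsurj) ▸ Submodule.mem_top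
    have := Groth.Agent.Lib.Helper7.FreeOrbitMod.hmSMul_mem_range (k := k) (A := A)
      (⊤ : Ideal R) (genIn k A R M S N) hr hx
    rwa [Submodule.top_smul] at this

end Mod

section Theta

variable {k : Type u} [Field k] {A : Type v} [AddCommGroup A] [Module k A] [Coalgebra k A]
variable {M : Type w'} [AddCommGroup M] [Module k M] [cM : Comod k A M]
variable {h : SimpSub k A → ℕ} {θ : SimpSub k A → ℚ}

theorem hilbAt_mono
    (hfd : ∀ D : SimpSub k A, Module.Finite k ↥(isoComp M D.1) ∧
      Module.finrank k ↥(isoComp M D.1) = h D)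
    {N N' : Submodule k M} (hle : N ≤ N') (D : SimpSub k A) :
    hilbAt M N D ≤ hilbAt M N' D := by
  haveI := (hfd D).1
  haveI : Module.Finite k ↥(N' ⊓ isoComp M D.1) :=
    Submodule.finiteDimensional_of_le inf_le_right
  exact Submodule.finrank_mono (inf_le_inf_right _ hle)

theorem hilbAt_top
    (hfd : ∀ D : SimpSub k A, Module.Finite k ↥(isoComp M D.1) ∧
      Module.finrank k ↥(isoComp M D.1) = h D) (D : SimpSub k A) :
    hilbAt M (⊤ : Submodule k M) D = h D := by
  unfold hilbAt
  rw [top_inf_eq]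
  exact (hfd D).2

theorem hilbAt_le
    (hfd : ∀ D : SimpSub k A, Module.Finite k ↥(isoComp M D.1) ∧
      Module.finrank k ↥(isoComp M D.1) = h D) (N : Submodule k M) (D : SimpSub k A) :
    hilbAt M N D ≤ h D := by
  rw [← hilbAt_top hfd D]
  exact hilbAt_mono hfd le_top D

theorem hilbAt_eq_zero_iff
    (hfd : ∀ D : SimpSub k A, Module.Finite k ↥(isoComp M D.1) ∧
      Module.finrank k ↥(isoComp M D.1) = h D) (N : Submodule k M) (D : SimpSub k A) :
    hilbAt M N D = 0 ↔ N ⊓ isoComp M D.1 = ⊥ := by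
  haveI := (hfd D).1
  haveI : Module.Finite k ↥(N ⊓ isoComp M D.1) :=
    Submodule.finiteDimensional_of_le inf_le_right
  exact Submodule.finrank_eq_zero

theorem summable_term
    (hfd : ∀ D : SimpSub k A, Module.Finite k ↥(isoComp M D.1) ∧
      Module.finrank k ↥(isoComp M D.1) = h D)
    (hfin : {D | θ D < 0}.Finite) (hs : Summable (fun D => (θ D : ℝ) * (h D : ℝ)))
    (N : Submodule k M) : Summable (fun D => (θ D : ℝ) * (hilbAt M N D : ℝ)) := by
  classical
  set F : Set (SimpSub k A) := {D | θ D < 0} with hF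
  set f : SimpSub k A → ℝ := fun D => (θ D : ℝ) * (hilbAt M N D : ℝ) with hf
  have h1 : Summable (F.indicator f) := by
    apply summable_of_finite_support
    exact hfin.subset (fun D hD => by
      by_contra hDF
      exact hD (Set.indicator_of_notMem hDF f))
  have h2 : Summable (Fᶜ.indicator f) := by
    refine Summable.of_nonneg_of_le (f := Fᶜ.indicator (fun D => (θ D : ℝ) * (h D : ℝ))) ?_ ?_
      (hs.indicator _)
    · intro D
      by_cases hD : D ∈ Fᶜ
      · rw [Set.indicator_of_mem hD]
        have : (0 : ℝ) ≤ θ D := by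
          have : ¬ θ D < 0 := hD
          exact_mod_cast not_lt.1 this
        exact mul_nonneg this (Nat.cast_nonneg _)
      · rw [Set.indicator_of_notMem hD]
    · intro D
      by_cases hD : D ∈ Fᶜ
      · rw [Set.indicator_of_mem hD, Set.indicator_of_mem hD]
        have : (0 : ℝ) ≤ θ D := by
          have : ¬ θ D < 0 := hD
          exact_mod_cast not_lt.1 this
        exact mul_le_mul_of_nonneg_left (by exact_mod_cast hilbAt_le hfd N D) this
      · rw [Set.indicator_of_notMem hD, Set.indicator_of_notMem hD]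
  have := h1.add h2
  have he : (fun b => F.indicator f b + Fᶜ.indicator f b) = f := by
    funext b
    exact Set.indicator_self_add_compl_apply F f b
  rwa [he] at this

theorem theta_top
    (hfd : ∀ D : SimpSub k A, Module.Finite k ↥(isoComp M D.1) ∧
      Module.finrank k ↥(isoComp M D.1) = h D)
    (hsum : HasSum (fun D => (θ D : ℝ) * (h D : ℝ)) 0) :
    theta M θ (⊤ : Submodule k M) = 0 := by
  unfold theta
  simp_rw [hilbAt_top hfd]
  exact hsum.tsum_eq

theorem theta_le_theta
    (hfd : ∀ D : SimpSub k A, Module.Finite k ↥(isoComp M D.1) ∧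
      Module.finrank k ↥(isoComp M D.1) = h D)
    (hfin : {D | θ D < 0}.Finite) (hs : Summable (fun D => (θ D : ℝ) * (h D : ℝ)))
    (N N' : Submodule k M)
    (hterm : ∀ D, (θ D : ℝ) * (hilbAt M N D : ℝ) ≤ (θ D : ℝ) * (hilbAt M N' D : ℝ)) :
    theta M θ N ≤ theta M θ N' :=
  (summable_term hfd hfin hs N).tsum_le_tsum hterm (summable_term hfd hfin hs N')

/-- termwise comparison when the negative parts agree and `N ≤ N'`. -/
theorem term_le_term
    (hfd : ∀ D : SimpSub k A, Module.Finite k ↥(isoComp M D.1) ∧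
      Module.finrank k ↥(isoComp M D.1) = h D)
    {N N' : Submodule k M} (hle : N ≤ N')
    (hneg : ∀ D, θ D < 0 → N ⊓ isoComp M D.1 = N' ⊓ isoComp M D.1) (D : SimpSub k A) :
    (θ D : ℝ) * (hilbAt M N D : ℝ) ≤ (θ D : ℝ) * (hilbAt M N' D : ℝ) := by
  by_cases hD : θ D < 0
  · have : hilbAt M N D = hilbAt M N' D := by
      unfold hilbAt; rw [hneg D hD]
    rw [this]
  · have : (0 : ℝ) ≤ θ D := by exact_mod_cast not_lt.1 hD
    exact mul_le_mul_of_nonneg_left (by exact_mod_cast hilbAt_mono hfd hle D) this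

theorem theta_pos_of_neg_parts_bot
    (hfd : ∀ D : SimpSub k A, Module.Finite k ↥(isoComp M D.1) ∧
      Module.finrank k ↥(isoComp M D.1) = h D)
    (hfin : {D | θ D < 0}.Finite) (hs : Summable (fun D => (θ D : ℝ) * (h D : ℝ)))
    (hθ : ∀ D, h D ≠ 0 → θ D ≠ 0)
    {N : Submodule k M} (hN : IsSubcomod (k := k) (A := A) N) (hne : N ≠ ⊥)
    (hneg : ∀ D, θ D < 0 → N ⊓ isoComp M D.1 = ⊥) :
    0 < theta M θ N := by
  obtain ⟨D, hD⟩ := exists_inf_isoComp_ne_bot hN hne
  have hnn : ∀ D', 0 ≤ (θ D' : ℝ) * (hilbAt M N D' : ℝ) := by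
    intro D'
    by_cases hD' : θ D' < 0
    · rw [(hilbAt_eq_zero_iff hfd N D').2 (hneg D' hD')]; simp
    · have : (0 : ℝ) ≤ θ D' := by exact_mod_cast not_lt.1 hD'
      exact mul_nonneg this (Nat.cast_nonneg _)
  have hpos : 0 < hilbAt M N D := by
    rcases Nat.eq_zero_or_pos (hilbAt M N D) with h0 | h0
    · exact absurd ((hilbAt_eq_zero_iff hfd N D).1 h0) hD
    · exact h0
  have hhD : h D ≠ 0 := by
    have := hilbAt_le hfd N D
    omega
  have hθD : 0 < θ D := by
    rcases lt_trichotomy (θ D) 0 with h1 | h1 | h1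
    · exact absurd (hneg D h1) hD
    · exact absurd h1 (hθ D hhD)
    · exact h1
  have hterm : 0 < (θ D : ℝ) * (hilbAt M N D : ℝ) := by
    apply mul_pos
    · exact_mod_cast hθD
    · exact_mod_cast hpos
  exact (summable_term hfd hfin hs N).tsum_pos hnn D hterm

end Theta

end Groth.Agent.Lib.Helper2.GhConst
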