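import Mathlib
import Groth.Agent.Lib.Helper2.Graded

/-! More helper lemmas on `ℕ`-graded algebras of finite type and their graded modules (helper2):
eventual periodicity `A_{n+q} = A_q A_n`, `M_{n+q} = A_q M_n`. -/

set_option autoImplicit false
universe u

namespace Groth.Agent.Lib.Helper2

open DirectSum

section Ring

variable {R A : Type u} [CommRing R] [CommRing A] [Algebra R A]
variable (𝒜 : ℕ → Submodule R A) [GradedAlgebra 𝒜]

/-- ideal form of the pigeonhole principle -/
theorem span_pow_le_span_pow (s : Finset A) (k : A → ℕ) :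
    (Ideal.span (s : Set A)) ^ (∑ e ∈ s, k e + 1) ≤ Ideal.span ((fun e => e ^ k e) '' (s : Set A)) := by
  classical
  induction s using Finset.induction_on with
  | empty => simp
  | insert e t he ih =>
    rw [Finset.sum_insert he, Finset.coe_insert, Ideal.span_insert, Set.image_insert_eq,
      Ideal.span_insert, add_assoc]
    refine Ideal.sup_pow_add_le_pow_sup_pow.trans (sup_le_sup ?_ ih)
    rw [Ideal.span_singleton_pow]

/-- Eventual multiplicative periodicity of the graded pieces of a finite type graded algebra. -/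
theorem exists_mul_eq [Algebra.FiniteType (𝒜 0) A] :
    ∃ (q m₀ : ℕ), 0 < q ∧ ∀ n : ℕ, m₀ ≤ n → 𝒜 (n + q) = 𝒜 q * 𝒜 n := by
  classical
  obtain ⟨s, hs, hs'⟩ := GradedAlgebra.exists_finset_adjoin_eq_top_and_homogeneous_ne_zero 𝒜
  have hE : ∀ e ∈ (s : Set A), ∃ d : ℕ, 0 < d ∧ e ∈ 𝒜 d := by
    intro e he
    obtain ⟨n, hn, hen⟩ := hs' e he
    exact ⟨n, Nat.pos_of_ne_zero hn, hen⟩
  have hspan : (HomogeneousIdeal.irrelevant 𝒜).toIdeal = Ideal.span (s : Set A) :=
    (irrelevant_eq_span_iff 𝒜 (s : Set A) hE).2 hs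
  choose! deg hdegpos hdeg using hE
  set q : ℕ := ∏ e ∈ s, deg e with hq
  have hqpos : 0 < q := Finset.prod_pos (fun e he => hdegpos e he)
  let k : A → ℕ := fun e => q / deg e
  have hk : ∀ e ∈ s, k e * deg e = q := fun e he =>
    Nat.div_mul_cancel (Finset.dvd_prod_of_mem deg he)
  have hg : ∀ e ∈ s, e ^ k e ∈ 𝒜 q := by
    intro e he
    have := SetLike.pow_mem_graded (k e) (hdeg e he)
    rwa [smul_eq_mul, hk e he] at this
  set N := ∑ e ∈ s, k e + 1 with hN
  obtain ⟨m₀, hm₀⟩ := exists_forall_le_irrelevant_pow 𝒜 N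
  refine ⟨q, m₀, hqpos, ?_⟩
  intro n hn
  apply le_antisymm
  · intro x hx
    have hxJ : x ∈ Ideal.span ((fun e => e ^ k e) '' (s : Set A)) := by
      have h1 := hm₀ (n + q) (by omega) hx
      rw [hspan] at h1
      exact span_pow_le_span_pow s k h1
    refine span_homogeneous_induction 𝒜 _ ?_ hx hxJ (fun y => y ∈ 𝒜 q * 𝒜 n) (zero_mem _)
      (fun a b => add_mem) ?_
    · rintro _ ⟨e, he, rfl⟩
      exact ⟨q, hg e he⟩
    · rintro _ ⟨e, he, rfl⟩ d k' c hd hc hkd
      simp only at hd ⊢
      by_cases h0 : e ^ k e = 0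
      · rw [h0, mul_zero]; exact zero_mem _
      · have hdq : d = q := DirectSum.degree_eq_of_mem_mem 𝒜 hd (hg e he) h0
        subst hdq
        have : k' = n := by omega
        subst this
        rw [mul_comm c]
        exact Submodule.mul_mem_mul hd hc
  · rw [Submodule.mul_le]
    intro a ha b hb
    rw [add_comm]
    exact SetLike.mul_mem_graded ha hb

/-- `A_{mh} = (A_h)^m` for a suitable `h > 0`. -/
theorem exists_pow_eq [Algebra.FiniteType (𝒜 0) A] :
    ∃ h : ℕ, 0 < h ∧ ∀ m : ℕ, 0 < m → 𝒜 (m * h) = (𝒜 h : Submodule R A) ^ m := by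
  obtain ⟨q, m₀, hq, hper⟩ := exists_mul_eq 𝒜
  have hone : (1 : A) ∈ 𝒜 0 := SetLike.one_mem_graded 𝒜
  -- A_{n + t q} ≤ A_{t q} * A_n
  have hstep : ∀ t : ℕ, ∀ n, m₀ ≤ n → 𝒜 (n + t * q) ≤ 𝒜 (t * q) * 𝒜 n := by
    intro t
    induction t with
    | zero =>
      intro n _ x hx
      rw [Nat.zero_mul, Nat.add_zero] at *
      have := Submodule.mul_mem_mul hone hx
      rwa [one_mul] at this
    | succ t ih =>
      intro n hn
      have e1 : n + (t + 1) * q = (n + t * q) + q := by ring
      rw [e1, hper _ (by omega)]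
      refine (mul_le_mul_right (ih n hn) _).trans ?_
      rw [← mul_assoc]
      refine mul_le_mul_left ?_ _
      rw [Submodule.mul_le]
      intro a ha b hb
      have := SetLike.mul_mem_graded ha hb
      have e2 : q + t * q = (t + 1) * q := by ring
      rwa [e2] at this
  set h := (m₀ + 1) * q with hh
  have hpos : 0 < h := Nat.mul_pos (Nat.succ_pos _) hq
  have hm₀h : m₀ ≤ h := by
    calc m₀ ≤ (m₀ + 1) * 1 := by omega
      _ ≤ (m₀ + 1) * q := Nat.mul_le_mul_left _ hq
  have hperh : ∀ n, m₀ ≤ n → 𝒜 (n + h) = 𝒜 h * 𝒜 n := by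
    intro n hn
    apply le_antisymm (hstep (m₀ + 1) n hn)
    rw [Submodule.mul_le]
    intro a ha b hb
    rw [add_comm]
    exact SetLike.mul_mem_graded ha hb
  refine ⟨h, hpos, ?_⟩
  intro m hm
  induction m with
  | zero => omega
  | succ m ih =>
    rcases Nat.eq_zero_or_pos m with rfl | hmpos
    · simp
    · have e1 : (m + 1) * h = m * h + h := by ring
      have hle : m₀ ≤ m * h := hm₀h.trans (Nat.le_mul_of_pos_left h hmpos)
      rw [e1, hperh _ hle, ih hmpos, pow_succ']

end Ring

section Module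

variable {R A : Type u} [CommRing R] [CommRing A] [Algebra R A]
variable (𝒜 : ℕ → Submodule R A) [GradedAlgebra 𝒜]
variable {M : Type u} [AddCommGroup M] [Module R M] [Module A M] [IsScalarTower R A M]
  (ℳ : ℕ → Submodule R M) [DirectSum.Decomposition ℳ] [SetLike.GradedSMul 𝒜 ℳ]

theorem gsmul_mem {i j : ℕ} {a : A} {x : M} (ha : a ∈ 𝒜 i) (hx : x ∈ ℳ j) : a • x ∈ ℳ (i + j) := by
  have := SetLike.GradedSMul.smul_mem (A := 𝒜) (B := ℳ) ha hx
  simpa using this

/-- components of `a • e` for homogeneous `e` -/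
theorem coe_decompose_smul_of_right_mem {d : ℕ} {e : M} (he : e ∈ ℳ d) (a : A) (n : ℕ) :
    ((decompose ℳ (a • e)) n : M) = if d ≤ n then ((decompose 𝒜 a) (n - d) : A) • e else 0 := by
  classical
  induction a using DirectSum.Decomposition.inductionOn 𝒜 with
  | zero => simp
  | @homogeneous i r =>
    have hr : (r : A) ∈ 𝒜 i := r.2
    have hre : (r : A) • e ∈ ℳ (i + d) := gsmul_mem 𝒜 ℳ hr he
    by_cases hdn : d ≤ n
    · rw [if_pos hdn]
      by_cases h : i = n - d
      · subst h
        have : n - d + d = n := Nat.sub_add_cancel hdn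
        rw [this] at hre
        rw [decompose_of_mem_same ℳ hre, decompose_of_mem_same 𝒜 hr]
      · have h' : i + d ≠ n := fun h'' => h (by omega)
        rw [decompose_of_mem_ne ℳ hre h', decompose_of_mem_ne 𝒜 hr h, zero_smul]
    · rw [if_neg hdn]
      have h' : i + d ≠ n := fun h'' => hdn (by omega)
      rw [decompose_of_mem_ne ℳ hre h']
  | add r r' hr hr' =>
    rw [add_smul, decompose_add, decompose_add, DirectSum.add_apply, DirectSum.add_apply,
      Submodule.coe_add, Submodule.coe_add, hr, hr']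
    split_ifs
    · rw [add_smul]
    · simp

/-- Module version of `span_homogeneous_induction`. -/
theorem span_homogeneous_induction_module (X : Set M) (hX : ∀ e ∈ X, ∃ d, e ∈ ℳ d) {n : ℕ} {z : M}
    (hzn : z ∈ ℳ n) (hz : z ∈ Submodule.span A X) (P : M → Prop) (h0 : P 0)
    (hadd : ∀ a b, P a → P b → P (a + b))
    (hsmul : ∀ e ∈ X, ∀ d k c, e ∈ ℳ d → c ∈ 𝒜 k → k + d = n → P (c • e)) : P z := by
  classical
  obtain ⟨l, rfl⟩ := (Finsupp.mem_span_iff_linearCombination A X z).1 hz
  rw [Finsupp.linearCombination_apply, Finsupp.sum] at hzn ⊢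
  have hdec : (decompose ℳ (∑ a ∈ l.support, l a • (a : M)) n : M) =
      ∑ a ∈ l.support, (decompose ℳ (l a • (a : M)) n : M) := by
    rw [decompose_sum, DFinsupp.finsetSum_apply, AddSubmonoidClass.coe_finsetSum]
  rw [← decompose_of_mem_same ℳ hzn, hdec]
  refine Finset.sum_induction _ P hadd h0 ?_
  intro e _
  obtain ⟨d, hd⟩ := hX e e.2
  rw [coe_decompose_smul_of_right_mem 𝒜 ℳ hd]
  split_ifs with hdn
  · exact hsmul e e.2 d (n - d) _ hd (Submodule.coe_mem _) (Nat.sub_add_cancel hdn)
  · exact h0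

include 𝒜 in
/-- A finite graded module has a finite generating set of homogeneous elements. -/
theorem exists_finset_homogeneous_span_eq_top [Module.Finite A M] :
    ∃ X : Finset M, Submodule.span A (X : Set M) = ⊤ ∧ ∀ e ∈ X, ∃ d, e ∈ ℳ d := by
  classical
  obtain ⟨F, hF⟩ := (Module.Finite.fg_top : (⊤ : Submodule A M).FG)
  refine ⟨F.biUnion (fun f => (decompose ℳ f).support.image (fun i => (decompose ℳ f i : M))),
    ?_, ?_⟩
  · rw [eq_top_iff, ← hF, Submodule.span_le]
    intro f hf
    rw [SetLike.mem_coe, ← DirectSum.sum_support_decompose ℳ f]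
    refine Submodule.sum_mem _ (fun i hi => Submodule.subset_span ?_)
    rw [Finset.mem_coe, Finset.mem_biUnion]
    exact ⟨f, hf, Finset.mem_image.mpr ⟨i, hi, rfl⟩⟩
  · intro e he
    rw [Finset.mem_biUnion] at he
    obtain ⟨f, _, he⟩ := he
    obtain ⟨i, _, rfl⟩ := Finset.mem_image.mp he
    exact ⟨i, Submodule.coe_mem _⟩

/-- Eventual periodicity for finite graded modules over finite type graded algebras. -/
theorem exists_smul_eq [Algebra.FiniteType (𝒜 0) A] [Module.Finite A M] :
    ∃ (n₁ h : ℕ), 0 < h ∧ ∀ n : ℕ, n₁ ≤ n →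
      ℳ (n + h) = (𝒜 h : Submodule R A) • (ℳ n : Submodule R M) := by
  classical
  obtain ⟨q, m₀, hq, hper⟩ := exists_mul_eq 𝒜
  obtain ⟨X, hXtop, hXhom⟩ := exists_finset_homogeneous_span_eq_top 𝒜 ℳ (M := M)
  choose! deg hdeg using hXhom
  set E := X.sup deg with hE
  refine ⟨E + m₀, q, hq, ?_⟩
  intro n hn
  apply le_antisymm
  · intro z hz
    have hzX : z ∈ Submodule.span A (X : Set M) := hXtop ▸ Submodule.mem_top
    refine span_homogeneous_induction_module 𝒜 ℳ (X : Set M) (fun e he => ⟨deg e, hdeg e he⟩)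
      hz hzX (fun y => y ∈ (𝒜 q : Submodule R A) • (ℳ n : Submodule R M)) (zero_mem _)
      (fun a b => add_mem) ?_
    intro e he d k c hd hc hkd
    by_cases he0 : e = 0
    · rw [he0, smul_zero]; exact zero_mem _
    have hdd : d = deg e := DirectSum.degree_eq_of_mem_mem ℳ hd (hdeg e he) he0
    have hdE : d ≤ E := hdd ▸ Finset.le_sup (f := deg) he
    have hkq : k = (k - q) + q := by omega
    have hk' : m₀ ≤ k - q := by omega
    have hc' : c ∈ 𝒜 q * 𝒜 (k - q) := by
      rw [← hper _ hk', ← hkq]; exact hc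
    refine Submodule.mul_induction_on hc' ?_ ?_
    · intro a ha b hb
      rw [mul_smul]
      refine Submodule.smul_mem_smul ha ?_
      have := gsmul_mem 𝒜 ℳ hb hd
      have e1 : k - q + d = n := by omega
      rwa [e1] at this
    · intro a b ha hb
      rw [add_smul]; exact add_mem ha hb
  · rw [Submodule.smul_le]
    intro a ha x hx
    rw [add_comm]
    exact gsmul_mem 𝒜 ℳ ha hx

end Module

end Groth.Agent.Lib.Helper2
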