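import Mathlib
import Groth.Prelude.Def_Koszul
import Groth.Agent.Lib.Helper11.KzCompare

/-!
# Koszul complex of `x • l` versus the Koszul complex of `l` with differential scaled by `x`
-/

set_option autoImplicit false
universe u
open CategoryTheory CategoryTheory.Limits CochainComplex HomologicalComplex

namespace Groth.Agent.Lib.Helper2.KoszulScale

variable {A : Type u} [CommRing A]

/-- the complex with the same terms and differential scaled by `x` -/
noncomputable abbrev scaleCx (x : A) (K : CochainComplex (ModuleCat.{u} A) ℤ) :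
    CochainComplex (ModuleCat.{u} A) ℤ where
  X := K.X
  d i j := x • K.d i j
  shape i j h := by rw [K.shape i j h, smul_zero]
  d_comp_d' i j k _ _ := by
    rw [Linear.smul_comp, Linear.comp_smul, K.d_comp_d, smul_zero, smul_zero]

lemma scaleCx_d (x : A) (K : CochainComplex (ModuleCat.{u} A) ℤ) (i j : ℤ) :
    (scaleCx x K).d i j = x • K.d i j := rfl

/-- functoriality of `scaleCx` for isomorphisms -/
noncomputable def scaleIso (x : A) {K K' : CochainComplex (ModuleCat.{u} A) ℤ} (e : K ≅ K') :
    scaleCx x K ≅ scaleCx x K' :=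
  HomologicalComplex.Hom.isoOfComponents
    (fun n => HomologicalComplex.Hom.isoApp e n)
    (fun i j _ => by
      rw [HomologicalComplex.Hom.isoApp_hom, HomologicalComplex.Hom.isoApp_hom, scaleCx_d,
        scaleCx_d, Linear.comp_smul, Linear.smul_comp, e.hom.comm])

section Cone

variable (x : A) {K : CochainComplex (ModuleCat.{u} A) ℤ} (φ : K ⟶ K)
  (φ' : scaleCx x K ⟶ scaleCx x K) (hφ : ∀ n, φ'.f n = x • φ.f n)

/-- component of the comparison map -/
noncomputable def coneHom (n : ℤ) : (mappingCone φ').X n ⟶ (mappingCone φ).X n :=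
  (mappingCone.fst φ').1.v n (n + 1) rfl ≫ (mappingCone.inl φ).v (n + 1) n (by lia) +
    (mappingCone.snd φ').v n n (add_zero n) ≫ (mappingCone.inr φ).f n

/-- component of the inverse comparison map -/
noncomputable def coneInv (n : ℤ) : (mappingCone φ).X n ⟶ (mappingCone φ').X n :=
  (mappingCone.fst φ).1.v n (n + 1) rfl ≫ (mappingCone.inl φ').v (n + 1) n (by lia) +
    (mappingCone.snd φ).v n n (add_zero n) ≫ (mappingCone.inr φ').f n

lemma coneHom_inv (n : ℤ) : coneHom x φ φ' n ≫ coneInv x φ φ' n = 𝟙 _ := by
  unfold coneHom coneInv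
  simp only [Preadditive.add_comp, Preadditive.comp_add, Category.assoc,
    mappingCone.inl_v_fst_v_assoc, mappingCone.inl_v_snd_v_assoc, mappingCone.inr_f_fst_v_assoc,
    mappingCone.inr_f_snd_v_assoc, zero_comp, comp_zero, add_zero, zero_add]
  exact mappingCone.id_X φ' n (n + 1) rfl

lemma coneInv_hom (n : ℤ) : coneInv x φ φ' n ≫ coneHom x φ φ' n = 𝟙 _ := by
  unfold coneHom coneInv
  simp only [Preadditive.add_comp, Preadditive.comp_add, Category.assoc,
    mappingCone.inl_v_fst_v_assoc, mappingCone.inl_v_snd_v_assoc, mappingCone.inr_f_fst_v_assoc,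
    mappingCone.inr_f_snd_v_assoc, zero_comp, comp_zero, add_zero, zero_add]
  exact mappingCone.id_X φ n (n + 1) rfl

lemma inl_coneHom (n : ℤ) :
    (mappingCone.inl φ').v (n + 1) n (by lia) ≫ coneHom x φ φ' n =
      (mappingCone.inl φ).v (n + 1) n (by lia) := by
  unfold coneHom
  simp

lemma inr_coneHom (n : ℤ) :
    (mappingCone.inr φ').f n ≫ coneHom x φ φ' n = (mappingCone.inr φ).f n := by
  unfold coneHom
  simp

include hφ in
lemma coneHom_comm (n : ℤ) :
    coneHom x φ φ' n ≫ (x • (mappingCone φ).d n (n + 1)) =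
      (mappingCone φ').d n (n + 1) ≫ coneHom x φ φ' (n + 1) := by
  apply mappingCone.ext_from φ' (n + 1) n rfl
  · rw [← Category.assoc, inl_coneHom, Linear.comp_smul,
      mappingCone.inl_v_d φ (n + 1) n (n + 1 + 1) (by lia) (by lia),
      mappingCone.inl_v_d_assoc φ' (n + 1) n (n + 1 + 1) (by lia) (by lia)]
    rw [Preadditive.sub_comp, Category.assoc, Category.assoc, inr_coneHom, inl_coneHom, hφ,
      scaleCx_d, smul_sub, Linear.smul_comp, Linear.smul_comp]
  · rw [← Category.assoc, inr_coneHom, Linear.comp_smul, mappingCone.inr_f_d,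
      mappingCone.inr_f_d_assoc, inr_coneHom, scaleCx_d, Linear.smul_comp]

/-- the cone of a scaled endomorphism of a scaled complex is the scaled cone -/
noncomputable def coneScaleIso : mappingCone φ' ≅ scaleCx x (mappingCone φ) :=
  HomologicalComplex.Hom.isoOfComponents
    (fun n => ⟨coneHom x φ φ' n, coneInv x φ φ' n, coneHom_inv x φ φ' n, coneInv_hom x φ φ' n⟩)
    (fun i j hij => by
      have hij' : i + 1 = j := hij
      subst hij'
      exact coneHom_comm x φ φ' hφ i)

end Cone

/-- the scaled complex of a complex concentrated in one degree -/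
noncomputable def singleScaleIso (x : A) (M : ModuleCat.{u} A) :
    (CochainComplex.singleFunctor (ModuleCat.{u} A) 0).obj M ≅
      scaleCx x ((CochainComplex.singleFunctor (ModuleCat.{u} A) 0).obj M) :=
  HomologicalComplex.Hom.isoOfComponents (fun n => Iso.refl _)
    (fun i j _ => by
      dsimp
      simp)

/-- `K(x • l) ≅ K(l)` with differential scaled by `x` -/
noncomputable def koszulScaleIso (x : A) : ∀ l : List A,
    Koszul.koszul A (l.map (fun f => x * f)) ≅ scaleCx x (Koszul.koszul A l)
  | [] => singleScaleIso x _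
  | f :: l =>
    Groth.Agent.Lib.Helper11.Kz.coneIso (koszulScaleIso x l) ((x * f) • 𝟙 _) ((x * f) • 𝟙 _)
      (by simp only [Linear.smul_comp, Linear.comp_smul, Category.id_comp, Category.comp_id]) ≪≫
    coneScaleIso x (f • 𝟙 (Koszul.koszul A l)) ((x * f) • 𝟙 _) (fun n => by
      rw [HomologicalComplex.smul_f_apply, HomologicalComplex.smul_f_apply, mul_smul]
      rfl)

end Groth.Agent.Lib.Helper2.KoszulScale
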