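import Mathlib
import Groth.Agent.Lib.Helper2.KoszulScale
import Groth.Agent.Lib.Helper11.KzRes

/-!
# Homology of a complex with scaled differential
-/

set_option autoImplicit false
universe u
open CategoryTheory CategoryTheory.Limits CochainComplex HomologicalComplex

namespace Groth.Agent.Lib.Helper2.KoszulScale

variable {A : Type u} [CommRing A]

section LinAlg

variable {M₁ M₂ M₃ : Type u} [AddCommGroup M₁] [Module A M₁] [AddCommGroup M₂] [Module A M₂]
  [AddCommGroup M₃] [Module A M₃]

lemma ker_smul_eq (x : A) (g : M₂ →ₗ[A] M₃) (hx : IsSMulRegular M₃ x) :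
    LinearMap.ker (x • g) = LinearMap.ker g := by
  ext v
  simp only [LinearMap.mem_ker, LinearMap.smul_apply]
  constructor
  · intro h
    exact hx (by change x • g v = x • 0; rw [h, smul_zero])
  · intro h
    rw [h, smul_zero]

/-- `ker (x g) / im (x f) ≃ ker g / x im f` -/
noncomputable def quotEquiv (x : A) (f : M₁ →ₗ[A] M₂) (g : M₂ →ₗ[A] M₃)
    (hx : IsSMulRegular M₃ x) (f' : M₁ →ₗ[A] LinearMap.ker (x • g))
    (hf' : ∀ u, (f' u : M₂) = x • f u) :
    (LinearMap.ker (x • g) ⧸ LinearMap.range f') ≃ₗ[A]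
      (LinearMap.ker g ⧸ Submodule.comap (LinearMap.ker g).subtype
        (Ideal.span {x} • LinearMap.range f)) :=
  Submodule.Quotient.equiv _ _ (LinearEquiv.ofEq _ _ (ker_smul_eq x g hx)) (by
    ext w
    simp only [Submodule.mem_map, LinearMap.mem_range, Submodule.mem_comap,
      Submodule.subtype_apply, Submodule.ideal_span_singleton_smul,
      Submodule.mem_smul_pointwise_iff_exists]
    constructor
    · rintro ⟨w', ⟨u, rfl⟩, rfl⟩
      refine ⟨f u, ⟨u, rfl⟩, ?_⟩
      rw [← hf' u]
      rfl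
    · rintro ⟨v, ⟨u, rfl⟩, hv⟩
      refine ⟨f' u, ⟨u, rfl⟩, ?_⟩
      apply Subtype.ext
      rw [← hv, ← hf' u]
      rfl)

end LinAlg

/-- homology of the scaled complex: `ker d / x im d` -/
theorem nonempty_scale_homology_iso (x : A) (K : CochainComplex (ModuleCat.{u} A) ℤ) (q : ℤ)
    (hx : IsSMulRegular (K.X (q + 1)) x) :
    Nonempty ((scaleCx x K).homology q ≅
      ModuleCat.of A (↥(LinearMap.ker (K.d q (q + 1)).hom) ⧸
        Submodule.comap (LinearMap.ker (K.d q (q + 1)).hom).subtype
          (Ideal.span {x} • LinearMap.range (K.d (q - 1) q).hom))) := by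
  let L := scaleCx x K
  let S' := L.sc' (q - 1) q (q + 1)
  have iso1 : L.homology q ≅ S'.homology :=
    L.homologyIsoSc' (q - 1) q (q + 1) (by simp) (by simp)
  have iso2 : S'.homology ≅ S'.moduleCatLeftHomologyData.H := S'.moduleCatHomologyIso
  refine ⟨iso1 ≪≫ iso2 ≪≫ LinearEquiv.toModuleIso ?_⟩
  exact quotEquiv x (K.d (q - 1) q).hom (K.d q (q + 1)).hom hx S'.moduleCatToCycles
    (fun u => rfl)

end Groth.Agent.Lib.Helper2.KoszulScale

namespace Groth.Agent.Lib.Helper2.KoszulScale

variable {A : Type u} [CommRing A]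

lemma isSMulRegular_koszul_X (l : List A) (n : ℤ) (x : A) (hx : x ∈ nonZeroDivisors A) :
    IsSMulRegular ((Koszul.koszul A l).X n) x := by
  have hproj : Module.Projective A ((Koszul.koszul A l).X n) := by
    rw [Groth.Agent.Lib.Helper11.Kz.koszul_eq]
    exact Groth.Agent.Lib.Helper11.Kz.projective_X (ModuleCat.of A A) l n
  have hreg : IsRegular x := by
    rw [isRegular_iff]
    have h1 : IsLeftRegular x := by
      rw [isLeftRegular_iff_right_eq_zero_of_mul]
      intro y hy
      exact (mem_nonZeroDivisors_iff.mp hx).1 y hy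
    exact ⟨h1, (Commute.isRegular_iff (fun b => Commute.all x b)).mpr h1 |>.2⟩
  exact Module.Flat.isSMulRegular_of_isRegular hreg

/-- `H^q(K(x l)) ≅ Z^q(K(l)) / x B^q(K(l))` -/
theorem nonempty_homology_koszul_mul_iso (l : List A) (x : A) (hx : x ∈ nonZeroDivisors A)
    (q : ℤ) :
    Nonempty ((Koszul.koszul A (l.map (fun f => x * f))).homology q ≅
      ModuleCat.of A (↥(LinearMap.ker ((Koszul.koszul A l).d q (q + 1)).hom) ⧸
        Submodule.comap (LinearMap.ker ((Koszul.koszul A l).d q (q + 1)).hom).subtype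
          (Ideal.span {x} • LinearMap.range ((Koszul.koszul A l).d (q - 1) q).hom))) := by
  obtain ⟨e⟩ := nonempty_scale_homology_iso x (Koszul.koszul A l) q
    (isSMulRegular_koszul_X l (q + 1) x hx)
  exact ⟨(HomologicalComplex.homologyFunctor _ _ q).mapIso (koszulScaleIso x l) ≪≫ e⟩

end Groth.Agent.Lib.Helper2.KoszulScale
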