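import Mathlib.RingTheory.Flat.EquationalCriterion
import Mathlib.Algebra.Category.ModuleCat.Colimits
import Mathlib.Algebra.Category.ModuleCat.FilteredColimits
import Mathlib.CategoryTheory.Presentable.Directed
import Mathlib.CategoryTheory.Limits.ConcreteCategory.Basic
import Mathlib.CategoryTheory.Limits.Final

/-!
# Lazard's theorem: flat modules are directed colimits of finite free modules
-/

set_option autoImplicit false
universe u
open CategoryTheory CategoryTheory.Limits

namespace Groth.Agent.Lib.Helper2.Lazard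

variable (R : Type u) [CommRing R] (M : Type u) [AddCommGroup M] [Module R M]

/-- a finite free module with a map to `M` -/
structure Pt where
  n : ℕ
  x : (Fin n →₀ R) →ₗ[R] M

variable {R M}

/-- morphisms of finite free modules over `M` -/
@[ext]
structure PtHom (A B : Pt R M) where
  a : (Fin A.n →₀ R) →ₗ[R] (Fin B.n →₀ R)
  comm : B.x ∘ₗ a = A.x

noncomputable instance : Category.{u} (Pt R M) where
  Hom A B := PtHom A B
  id A := ⟨LinearMap.id, by simp⟩
  comp f g := ⟨g.a ∘ₗ f.a, by rw [← LinearMap.comp_assoc, g.comm, f.comm]⟩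

@[simp] lemma id_a (A : Pt R M) : (𝟙 A : PtHom A A).a = LinearMap.id := rfl

@[simp] lemma comp_a {A B C : Pt R M} (f : A ⟶ B) (g : B ⟶ C) :
    (f ≫ g : PtHom A C).a = (g : PtHom B C).a ∘ₗ (f : PtHom A B).a := rfl

lemma hom_ext' {A B : Pt R M} (f g : A ⟶ B) (h : (f : PtHom A B).a = (g : PtHom A B).a) :
    f = g := PtHom.ext h

variable (R M)

/-- the forgetful functor to modules -/
noncomputable def G : Pt R M ⥤ ModuleCat.{u} R where
  obj A := ModuleCat.of R (Fin A.n →₀ R)
  map f := ModuleCat.ofHom (f : PtHom _ _).a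
  map_id A := rfl
  map_comp f g := rfl

/-- the tautological cocone -/
noncomputable def cc : Cocone (G R M) where
  pt := ModuleCat.of R M
  ι :=
    { app := fun A => ModuleCat.ofHom A.x
      naturality := by
        intro A B f
        apply ModuleCat.hom_ext
        exact (f : PtHom A B).comm }

variable {R M}

/-- the point given by an element -/
noncomputable def ptOf (m : M) : Pt R M := ⟨1, Finsupp.linearCombination R (fun _ : Fin 1 => m)⟩

/-- the basis vector of `R^1` -/
noncomputable def e0 (m : M) : Fin (ptOf (R := R) m).n →₀ R := Finsupp.single (0 : Fin 1) 1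

lemma ptOf_x_e0 (m : M) : (ptOf (R := R) m).x (e0 m) = m := by
  show (Finsupp.linearCombination R (fun _ : Fin 1 => m)) (Finsupp.single (0 : Fin 1) 1) = m
  rw [Finsupp.linearCombination_single, one_smul]

/-- the morphism from the point of `A.x v` to `A` -/
noncomputable def ptOfHom (A : Pt R M) (v : Fin A.n →₀ R) : ptOf (A.x v) ⟶ A :=
  ⟨Finsupp.linearCombination R (fun _ : Fin 1 => v), by
    apply Finsupp.lhom_ext'
    intro i
    ext
    simp only [LinearMap.comp_apply, Finsupp.lsingle_apply]
    unfold ptOf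
    simp only
    rw [Finsupp.linearCombination_single, Finsupp.linearCombination_single, map_smul]⟩

lemma ptOfHom_e0 (A : Pt R M) (v : Fin A.n →₀ R) :
    (ptOfHom A v : PtHom _ _).a (e0 (A.x v)) = v := by
  unfold ptOfHom e0
  simp only
  rw [Finsupp.linearCombination_single, one_smul]

/-- the components of a cocone as linear maps -/
noncomputable def ιL (s : Cocone (G R M)) (A : Pt R M) : (Fin A.n →₀ R) →ₗ[R] s.pt :=
  (s.ι.app A).hom

lemma ιL_w (s : Cocone (G R M)) {A B : Pt R M} (f : A ⟶ B) (v : Fin A.n →₀ R) :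
    ιL s B ((f : PtHom A B).a v) = ιL s A v := by
  have h := s.w f
  exact congrArg (fun φ => φ.hom v) h

/-- the value of a cocone at an element -/
noncomputable def descFun (s : Cocone (G R M)) (m : M) : s.pt :=
  ιL s (ptOf m) (e0 m)

lemma ι_apply_eq (s : Cocone (G R M)) (A : Pt R M) (v : Fin A.n →₀ R) :
    ιL s A v = descFun s (A.x v) := by
  unfold descFun
  rw [← ιL_w s (ptOfHom A v), ptOfHom_e0]

lemma descFun_add_aux (s : Cocone (G R M)) (A : Pt R M) (v w : Fin A.n →₀ R) :
    descFun s (A.x v + A.x w) = descFun s (A.x v) + descFun s (A.x w) := by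
  rw [← map_add, ← ι_apply_eq, map_add, ι_apply_eq, ι_apply_eq]

lemma descFun_smul_aux (s : Cocone (G R M)) (A : Pt R M) (r : R) (v : Fin A.n →₀ R) :
    descFun s (r • A.x v) = r • descFun s (A.x v) := by
  rw [← map_smul, ← ι_apply_eq, map_smul, ι_apply_eq]

lemma exists_pt₂ (m m' : M) :
    ∃ (A : Pt R M) (v w : Fin A.n →₀ R), A.x v = m ∧ A.x w = m' := by
  refine ⟨⟨2, Finsupp.linearCombination R ![m, m']⟩, Finsupp.single (0 : Fin 2) 1,
    Finsupp.single (1 : Fin 2) 1, ?_, ?_⟩
  · simp only
    rw [Finsupp.linearCombination_single, one_smul]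
    rfl
  · simp only
    rw [Finsupp.linearCombination_single, one_smul]
    rfl

/-- the descent map of a cocone -/
noncomputable def descLin (s : Cocone (G R M)) : M →ₗ[R] s.pt where
  toFun := descFun s
  map_add' m m' := by
    obtain ⟨A, v, w, rfl, rfl⟩ := exists_pt₂ (R := R) m m'
    exact descFun_add_aux s A v w
  map_smul' r m := by
    simp only [RingHom.id_apply]
    have h := descFun_smul_aux s (ptOf m) r (e0 m)
    rw [ptOf_x_e0] at h
    exact h

variable (R M)

/-- the tautological cocone is a colimit -/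
noncomputable def isColimitCc : IsColimit (cc R M) where
  desc s := ModuleCat.ofHom (descLin s)
  fac s A := by
    apply ModuleCat.hom_ext
    apply LinearMap.ext
    intro v
    exact (ι_apply_eq s A v).symm
  uniq s m hm := by
    apply ModuleCat.hom_ext
    apply LinearMap.ext
    intro v
    have h := hm (ptOf v)
    have h1 : m.hom ((ptOf (R := R) v).x (e0 v)) = ιL s (ptOf v) (e0 v) :=
      congrArg (fun φ => φ.hom (e0 v)) h
    rw [ptOf_x_e0] at h1
    exact h1

variable {R M}

/-- the sum of two points -/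
noncomputable def ptSum (A B : Pt R M) : Pt R M :=
  ⟨A.n + B.n, Finsupp.linearCombination R
    (Fin.append (fun i => A.x (Finsupp.single i 1)) (fun j => B.x (Finsupp.single j 1)))⟩

noncomputable def ptInl (A B : Pt R M) : A ⟶ ptSum A B :=
  ⟨Finsupp.lmapDomain R R (Fin.castAdd B.n), by
    apply Finsupp.lhom_ext'
    intro i
    ext
    simp [ptSum]⟩

noncomputable def ptInr (A B : Pt R M) : B ⟶ ptSum A B :=
  ⟨Finsupp.lmapDomain R R (Fin.natAdd A.n), by
    apply Finsupp.lhom_ext'
    intro i
    ext
    simp [ptSum]⟩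

instance [Module.Flat R M] : IsFiltered (Pt R M) where
  cocone_objs A B := ⟨ptSum A B, ptInl A B, ptInr A B, trivial⟩
  cocone_maps := by
    intro A B f g
    have h0 : B.x ∘ₗ ((f : PtHom A B).a - (g : PtHom A B).a) = 0 := by
      rw [LinearMap.comp_sub, (f : PtHom A B).comm, (g : PtHom A B).comm, sub_self]
    obtain ⟨k, a, y, hy, ha⟩ := Module.Flat.exists_factorization_of_comp_eq_zero_of_free h0
    refine ⟨⟨k, y⟩, ⟨a, hy.symm⟩, ?_⟩
    apply hom_ext'
    have ha' := ha
    rw [LinearMap.comp_sub] at ha'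
    exact sub_eq_zero.1 ha'
  nonempty := ⟨⟨0, 0⟩⟩

variable (R M)

theorem exists_directed_of_flat [Module.Flat R M] :
    ∃ (J : Type u) (_ : Preorder J) (_ : IsDirected J (fun a b => a ≤ b)) (_ : Nonempty J)
      (F : J ⥤ ModuleCat.{u} R), (∀ j, Module.Finite R (F.obj j) ∧ Module.Free R (F.obj j)) ∧
      Nonempty (Limits.colimit F ≅ ModuleCat.of R M) := by
  obtain ⟨α, hα, hd, hne, Φ, hΦ⟩ := IsFiltered.exists_directed (Pt R M)
  refine ⟨α, inferInstance, hd, hne, Φ ⋙ G R M, ?_, ?_⟩
  · intro j
    exact ⟨inferInstanceAs (Module.Finite R (Fin (Φ.obj j).n →₀ R)),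
      inferInstanceAs (Module.Free R (Fin (Φ.obj j).n →₀ R))⟩
  · exact ⟨Functor.Final.colimitIso Φ (G R M) ≪≫
      (colimit.isColimit (G R M)).coconePointUniqueUpToIso (isColimitCc R M)⟩

theorem flat_of_directed {J : Type u} [Preorder J] [IsDirected J (fun a b => a ≤ b)] [Nonempty J]
    (F : J ⥤ ModuleCat.{u} R) (hF : ∀ j, Module.Finite R (F.obj j) ∧ Module.Free R (F.obj j))
    (e : Limits.colimit F ≅ ModuleCat.of R M) : Module.Flat R M := by
  suffices h : Module.Flat R ((colimit F : ModuleCat.{u} R) : Type u) from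
    Module.Flat.of_linearEquiv e.toLinearEquiv.symm
  apply Module.Flat.of_forall_exists_factorization
  intro l f x hx
  -- lift the images of the basis vectors
  have h1 : ∀ i : Fin l, ∃ (j : J) (v : F.obj j), colimit.ι F j v = x (Finsupp.single i 1) :=
    fun i => Concrete.colimit_exists_rep F (x (Finsupp.single i 1))
  choose j v hv using h1
  obtain ⟨j₀, hj₀⟩ := Finite.exists_le j
  let v' : Fin l → F.obj j₀ := fun i => F.map (homOfLE (hj₀ i)) (v i)
  have hv' : ∀ i, colimit.ι F j₀ (v' i) = x (Finsupp.single i 1) := by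
    intro i
    rw [← hv i]
    have := colimit.w F (homOfLE (hj₀ i))
    exact congrArg (fun φ => φ.hom (v i)) this
  let x' : (Fin l →₀ R) →ₗ[R] F.obj j₀ := Finsupp.linearCombination R v'
  have hx' : (colimit.ι F j₀).hom ∘ₗ x' = x := by
    apply Finsupp.lhom_ext'
    intro i
    ext
    simp only [LinearMap.comp_apply, Finsupp.lsingle_apply]
    have : x' (Finsupp.single i 1) = v' i := by simp [x']
    rw [this]
    exact hv' i
  have h2 : colimit.ι F j₀ (x' f) = colimit.ι F j₀ (0 : F.obj j₀) := by
    have : (colimit.ι F j₀).hom (x' f) = x f := congrArg (fun φ => φ f) hx'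
    rw [map_zero]
    exact this.trans hx
  obtain ⟨j₁, g, g', hg⟩ := (Concrete.colimit_rep_eq_iff_exists F (x' f) (0 : F.obj j₀)).1 h2
  rw [map_zero] at hg
  have := (hF j₁).1
  have := (hF j₁).2
  let b := (Module.Free.chooseBasis R (F.obj j₁)).reindex (Fintype.equivFin _)
  refine ⟨_, b.repr.toLinearMap ∘ₗ (F.map g).hom ∘ₗ x',
    (colimit.ι F j₁).hom ∘ₗ b.repr.symm.toLinearMap, ?_, ?_⟩
  · rw [← hx']
    apply LinearMap.ext
    intro w
    simp only [LinearMap.comp_apply, LinearEquiv.coe_coe, LinearEquiv.symm_apply_apply]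
    have := colimit.w F g
    exact (congrArg (fun φ => φ.hom (x' w)) this).symm
  · simp only [LinearMap.comp_apply, LinearEquiv.coe_coe]
    have : (F.map g).hom (x' f) = 0 := hg
    rw [this, map_zero]

end Groth.Agent.Lib.Helper2.Lazard
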