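import Mathlib

/-! Pfaffian via a universal square root of the determinant of the generic alternating matrix. -/

set_option autoImplicit false

namespace Groth.Agent.Lib.Helper2.Pfaff

open Matrix MvPolynomial

section Alt
variable {R : Type*} [CommRing R]

/-- alternating: `xᵀ A x = 0` for all `x`. -/
def IsAlt {ι : Type*} [Fintype ι] (A : Matrix ι ι R) : Prop := ∀ x : ι → R, x ⬝ᵥ A *ᵥ x = 0

/-- antisymmetric with zero diagonal -/
def AltMat {ι : Type*} (A : Matrix ι ι R) : Prop := Aᵀ = -A ∧ ∀ i, A i i = 0

variable {ι : Type*} [Fintype ι] [DecidableEq ι]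

lemma IsAlt.diag {A : Matrix ι ι R} (hA : IsAlt A) (i : ι) : A i i = 0 := by
  simpa using hA (Pi.single i 1)

lemma IsAlt.antisymm {A : Matrix ι ι R} (hA : IsAlt A) (i j : ι) : A i j + A j i = 0 := by
  have h := hA (Pi.single i 1 + Pi.single j 1)
  rw [Matrix.mulVec_add, dotProduct_add, add_dotProduct, add_dotProduct] at h
  simp only [Matrix.mulVec_single_one, single_one_dotProduct, Matrix.col_apply] at h
  have hi := hA.diag i
  have hj := hA.diag j
  simp only [hi, hj] at h
  linear_combination h

lemma isAlt_of_antisymm {A : Matrix ι ι R} (h2 : ∀ a : R, a + a = 0 → a = 0) (hA : Aᵀ = -A) :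
    IsAlt A := by
  intro x
  apply h2
  have : x ⬝ᵥ A *ᵥ x = -(x ⬝ᵥ A *ᵥ x) := by
    calc x ⬝ᵥ A *ᵥ x = (x ᵥ* A) ⬝ᵥ x := Matrix.dotProduct_mulVec x A x
      _ = (Aᵀ *ᵥ x) ⬝ᵥ x := by rw [Matrix.mulVec_transpose]
      _ = -(x ⬝ᵥ A *ᵥ x) := by rw [hA, Matrix.neg_mulVec, neg_dotProduct, dotProduct_comm]
  linear_combination this

lemma altMat_of_antisymm {κ : Type*} {A : Matrix κ κ R} (h2 : ∀ a : R, a + a = 0 → a = 0)
    (hA : Aᵀ = -A) : AltMat A := by
  refine ⟨hA, fun i => h2 _ ?_⟩
  have := congrFun (congrFun hA i) i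
  simp only [Matrix.transpose_apply, Matrix.neg_apply] at this
  linear_combination this

lemma AltMat.map {R' : Type*} [CommRing R'] {A : Matrix ι ι R} (hA : AltMat A)
    (f : R →+* R') : AltMat (f.mapMatrix A) := by
  constructor
  · refine Matrix.ext fun i j => ?_
    have := congrFun (congrFun hA.1 i) j
    simp only [Matrix.transpose_apply, Matrix.neg_apply] at this
    simp only [RingHom.mapMatrix_apply, Matrix.transpose_apply, Matrix.map_apply, Matrix.neg_apply,
      this, map_neg]
  · intro i
    simp only [RingHom.mapMatrix_apply, Matrix.map_apply, hA.2 i, map_zero]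

end Alt

section Field
variable {K : Type*} [Field K]

theorem isSquare_det_of_isAlt : ∀ (n : ℕ) (ι : Type) [Fintype ι] [DecidableEq ι],
    Fintype.card ι = n → ∀ A : Matrix ι ι K, IsAlt A → IsSquare A.det := by
  intro n
  induction n using Nat.strong_induction_on with
  | _ n ih =>
    intro ι _ _ hcard A hA
    by_cases hzero : A = 0
    · subst hzero
      rcases isEmpty_or_nonempty ι with h | h
      · rw [Matrix.det_isEmpty]; exact ⟨1, (mul_one 1).symm⟩
      · rw [Matrix.det_zero]; exact ⟨0, (mul_zero 0).symm⟩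
    · obtain ⟨i, j, hij⟩ : ∃ i j, A i j ≠ 0 := by
        by_contra hcon
        push Not at hcon
        exact hzero (Matrix.ext hcon)
      have hne : i ≠ j := by
        rintro rfl
        exact hij (hA.diag i)
      let e : Fin 2 ⊕ {x : ι // x ≠ i ∧ x ≠ j} ≃ ι :=
        { toFun := Sum.elim ![i, j] Subtype.val
          invFun := fun x => if hi : x = i then Sum.inl 0 else
            if hj : x = j then Sum.inl 1 else Sum.inr ⟨x, hi, hj⟩
          left_inv := by
            rintro (a | ⟨x, hxi, hxj⟩)
            · fin_cases a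
              · simp
              · simp [hne.symm]
            · simp [hxi, hxj]
          right_inv := by
            intro x
            by_cases hi : x = i
            · simp [hi]
            · by_cases hj : x = j
              · simp [hj, hne.symm]
              · simp [hi, hj] }
      have hcard' : Fintype.card {x : ι // x ≠ i ∧ x ≠ j} < n := by
        have := Fintype.card_congr e
        rw [Fintype.card_sum, Fintype.card_fin, hcard] at this
        omega
      set A' := A.submatrix e e with hA'
      have hdet : A'.det = A.det := Matrix.det_submatrix_equiv_self e A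
      have hA'alt : IsAlt A' := by
        intro x
        rw [hA', Matrix.submatrix_mulVec_equiv, ← comp_equiv_symm_dotProduct]
        exact hA _
      set A11 := A'.toBlocks₁₁ with h11
      set A12 := A'.toBlocks₁₂ with h12
      set A21 := A'.toBlocks₂₁ with h21
      set A22 := A'.toBlocks₂₂ with h22
      have hblocks : A' = Matrix.fromBlocks A11 A12 A21 A22 :=
        (Matrix.fromBlocks_toBlocks A').symm
      have hA11alt : IsAlt A11 := by
        intro u
        have hx := hA'alt (Sum.elim u 0)
        rw [hblocks, Matrix.fromBlocks_mulVec, sumElim_dotProduct_sumElim] at hx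
        simpa using hx
      have ha : A11 0 1 = A i j := rfl
      have hdet11 : A11.det = A i j * A i j := by
        rw [Matrix.det_fin_two, hA11alt.diag, hA11alt.diag, ha]
        have := hA11alt.antisymm 0 1
        rw [ha] at this
        have h10 : A11 1 0 = - A i j := by linear_combination this
        rw [h10]; ring
      have hdet11ne : A11.det ≠ 0 := by rw [hdet11]; exact mul_ne_zero hij hij
      letI : Invertible A11 := Matrix.invertibleOfIsUnitDet A11 (IsUnit.mk0 _ hdet11ne)
      have hD'alt : IsAlt (A22 - A21 * ⅟A11 * A12) := by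
        intro y
        set u : Fin 2 → K := -((⅟A11) *ᵥ (A12 *ᵥ y)) with hu
        have hx := hA'alt (Sum.elim u y)
        rw [hblocks, Matrix.fromBlocks_mulVec, sumElim_dotProduct_sumElim] at hx
        simp only [Sum.elim_comp_inl, Sum.elim_comp_inr] at hx
        have h1 : A11 *ᵥ u + A12 *ᵥ y = 0 := by
          rw [hu, Matrix.mulVec_neg]
          simp only [Matrix.mulVec_mulVec]
          rw [← Matrix.mul_assoc, mul_invOf_self, Matrix.one_mul, neg_add_cancel]
        rw [h1, dotProduct_zero, zero_add] at hx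
        have h2 : (A22 - A21 * ⅟A11 * A12) *ᵥ y = A21 *ᵥ u + A22 *ᵥ y := by
          rw [Matrix.sub_mulVec, hu, Matrix.mulVec_neg]
          simp only [Matrix.mulVec_mulVec, Matrix.mul_assoc]
          abel
        rw [h2]; exact hx
      obtain ⟨s, hs⟩ := ih _ hcard' _ rfl _ hD'alt
      refine ⟨A i j * s, ?_⟩
      rw [← hdet, hblocks, Matrix.det_fromBlocks₁₁, hdet11, hs]; ring

end Field

section Univ
variable (n : ℕ)

/-- The generic alternating matrix. -/
noncomputable def genAlt : Matrix (Fin n) (Fin n) (MvPolynomial (Fin n × Fin n) ℤ) :=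
  Matrix.of fun i j => if i < j then X (i, j) else if j < i then - X (j, i) else 0

lemma genAlt_altMat : AltMat (genAlt n) := by
  constructor
  · refine Matrix.ext fun i j => ?_
    simp only [genAlt, Matrix.transpose_apply, Matrix.neg_apply, Matrix.of_apply]
    rcases lt_trichotomy i j with h | h | h
    · simp [h, not_lt_of_gt h]
    · subst h; simp
    · simp [h, not_lt_of_gt h]
  · intro i; simp [genAlt]

theorem exists_pfU : ∃ p : MvPolynomial (Fin n × Fin n) ℤ, p * p = (genAlt n).det := by
  classical
  let P := MvPolynomial (Fin n × Fin n) ℤ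
  let K := FractionRing P
  have hinj : Function.Injective (algebraMap P K) := IsFractionRing.injective P K
  have h2 : ∀ a : K, a + a = 0 → a = 0 := by
    intro a ha
    have h2' : (2 : K) ≠ 0 := by
      have : (algebraMap P K) 2 ≠ 0 := by
        rw [Ne, map_eq_zero_iff _ hinj]
        exact two_ne_zero
      simpa using this
    rw [← two_mul] at ha
    exact (mul_eq_zero.mp ha).resolve_left h2'
  have halt : IsAlt ((algebraMap P K).mapMatrix (genAlt n)) :=
    isAlt_of_antisymm h2 ((genAlt_altMat n).map (algebraMap P K)).1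
  obtain ⟨r, hr⟩ := isSquare_det_of_isAlt n (Fin n) (Fintype.card_fin n) _ halt
  have hint : IsIntegral P (r ^ 2) := by
    rw [pow_two, ← hr, ← RingHom.map_det]; exact isIntegral_algebraMap
  obtain ⟨p, hp⟩ :=
    IsIntegrallyClosed.exists_algebraMap_eq_of_isIntegral_pow (by norm_num : 0 < 2) hint
  refine ⟨p, hinj ?_⟩
  rw [map_mul, hp, ← hr, RingHom.map_det]

/-- The universal Pfaffian (a chosen square root of the generic alternating determinant). -/
noncomputable def pfU : MvPolynomial (Fin n × Fin n) ℤ := Classical.choose (exists_pfU n)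

lemma pfU_mul_self : pfU n * pfU n = (genAlt n).det := Classical.choose_spec (exists_pfU n)

end Univ

section Pf
variable {n : ℕ} {R : Type*} [CommRing R]

/-- evaluation of the generic entries at the entries of `A` -/
noncomputable def evA (A : Matrix (Fin n) (Fin n) R) : MvPolynomial (Fin n × Fin n) ℤ →+* R :=
  eval₂Hom (Int.castRingHom R) (fun p => A p.1 p.2)

/-- the Pfaffian of `A` -/
noncomputable def pf (A : Matrix (Fin n) (Fin n) R) : R := evA A (pfU n)

lemma evA_genAlt {A : Matrix (Fin n) (Fin n) R} (hA : AltMat A) :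
    (evA A).mapMatrix (genAlt n) = A := by
  refine Matrix.ext fun i j => ?_
  simp only [RingHom.mapMatrix_apply, Matrix.map_apply, genAlt, Matrix.of_apply, evA]
  rcases lt_trichotomy i j with h | h | h
  · rw [if_pos h, eval₂Hom_X']
  · subst h; rw [if_neg (lt_irrefl _), if_neg (lt_irrefl _), map_zero, hA.2]
  · rw [if_neg (not_lt_of_gt h), if_pos h, map_neg, eval₂Hom_X']
    have := congrFun (congrFun hA.1 i) j
    simp only [Matrix.transpose_apply, Matrix.neg_apply] at this
    rw [this, neg_neg]

lemma pf_mul_self {A : Matrix (Fin n) (Fin n) R} (hA : AltMat A) : pf A * pf A = A.det := by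
  unfold pf
  rw [← map_mul, pfU_mul_self, RingHom.map_det, evA_genAlt hA]

lemma evA_comp {R' : Type*} [CommRing R'] (f : R →+* R') (A : Matrix (Fin n) (Fin n) R) :
    evA (f.mapMatrix A) = f.comp (evA A) := by
  apply MvPolynomial.ringHom_ext
  · intro z; simp [evA]
  · intro p; simp [evA]

lemma pf_map {R' : Type*} [CommRing R'] (f : R →+* R') (A : Matrix (Fin n) (Fin n) R) :
    pf (f.mapMatrix A) = f (pf A) := by
  unfold pf; rw [evA_comp]; rfl

end Pf


section Law
variable (n : ℕ)

/-- generic entries for `A` (left) and `G` (right) -/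
abbrev S' := MvPolynomial ((Fin n × Fin n) ⊕ (Fin n × Fin n)) ℤ

noncomputable def M₀ : Matrix (Fin n) (Fin n) (S' n) := Matrix.of fun i j => X (Sum.inl (i, j))

noncomputable def Ag : Matrix (Fin n) (Fin n) (S' n) := (evA (M₀ n)).mapMatrix (genAlt n)

noncomputable def Gg : Matrix (Fin n) (Fin n) (S' n) := Matrix.of fun i j => X (Sum.inr (i, j))

lemma mapMatrix_Ag {R : Type*} [CommRing R] (θ : S' n →+* R) :
    θ.mapMatrix (Ag n) = (θ.comp (evA (M₀ n))).mapMatrix (genAlt n) := by
  refine Matrix.ext fun i j => ?_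
  simp only [Ag, RingHom.mapMatrix_apply, Matrix.map_apply, RingHom.comp_apply]

theorem pf_conj_univ : pf ((Gg n)ᵀ * Ag n * Gg n) = (Gg n).det * pf (Ag n) := by
  classical
  have h2 : ∀ a : S' n, a + a = 0 → a = 0 := by
    intro a ha
    rw [← two_mul] at ha
    exact (mul_eq_zero.mp ha).resolve_left two_ne_zero
  have h2P : ∀ a : MvPolynomial (Fin n × Fin n) ℤ, a + a = 0 → a = 0 := by
    intro a ha
    rw [← two_mul] at ha
    exact (mul_eq_zero.mp ha).resolve_left two_ne_zero
  have hAg : AltMat (Ag n) := (genAlt_altMat n).map _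
  have hconj : AltMat ((Gg n)ᵀ * Ag n * Gg n) :=
    altMat_of_antisymm h2 (by
      rw [Matrix.transpose_mul, Matrix.transpose_mul, Matrix.transpose_transpose, hAg.1]
      simp [Matrix.mul_assoc])
  set L := pf ((Gg n)ᵀ * Ag n * Gg n) with hL
  set Rr := (Gg n).det * pf (Ag n) with hRr
  have hsq : L * L = Rr * Rr := by
    rw [hL, pf_mul_self hconj, Matrix.det_mul, Matrix.det_mul, Matrix.det_transpose, hRr]
    have := pf_mul_self hAg
    rw [← this]; ring
  have hfac : (L - Rr) * (L + Rr) = 0 := by linear_combination hsq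
  rcases mul_eq_zero.mp hfac with h | h
  · exact sub_eq_zero.mp h
  · let ψ : S' n →+* MvPolynomial (Fin n × Fin n) ℤ :=
      eval₂Hom (Int.castRingHom _)
        (Sum.elim X (fun p => (1 : Matrix (Fin n) (Fin n) (MvPolynomial (Fin n × Fin n) ℤ)) p.1 p.2))
    have hψG : ψ.mapMatrix (Gg n) = 1 := by
      refine Matrix.ext fun i j => ?_
      simp only [RingHom.mapMatrix_apply, Matrix.map_apply, Gg, Matrix.of_apply, ψ]
      rw [eval₂Hom_X']; rfl
    have hψGt : ψ.mapMatrix (Gg n)ᵀ = 1 := by
      have : ψ.mapMatrix (Gg n)ᵀ = (ψ.mapMatrix (Gg n))ᵀ := rfl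
      rw [this, hψG, Matrix.transpose_one]
    have hcomp : ψ.comp (evA (M₀ n)) = RingHom.id _ := by
      apply MvPolynomial.ringHom_ext
      · intro z; simp [evA, ψ]
      · intro p; simp [evA, ψ, M₀]
    have hψA : ψ.mapMatrix (Ag n) = genAlt n := by
      rw [mapMatrix_Ag, hcomp]
      refine Matrix.ext fun i j => ?_
      simp only [RingHom.mapMatrix_apply, Matrix.map_apply, RingHom.id_apply]
    have hψL : ψ L = pf (genAlt n) := by
      rw [hL, ← pf_map, map_mul, map_mul, hψA, hψG, hψGt, Matrix.one_mul, Matrix.mul_one]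
    have hψR : ψ Rr = pf (genAlt n) := by
      rw [hRr, map_mul, RingHom.map_det, hψG, Matrix.det_one, one_mul, ← pf_map, hψA]
    have h0 : pf (genAlt n) = 0 := by
      apply h2P
      have := congrArg ψ h
      rw [map_add, hψL, hψR, map_zero] at this
      exact this
    have hpfA : pf (Ag n) = 0 := by
      rw [Ag, pf_map, h0, map_zero]
    have hR0 : Rr = 0 := by rw [hRr, hpfA, mul_zero]
    rw [hR0, add_zero] at h
    rw [h, hR0]

theorem pf_conj {n : ℕ} {R : Type*} [CommRing R] {A : Matrix (Fin n) (Fin n) R} (hA : AltMat A)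
    (G : Matrix (Fin n) (Fin n) R) : pf (Gᵀ * A * G) = G.det * pf A := by
  classical
  let θ : S' n →+* R :=
    eval₂Hom (Int.castRingHom R) (Sum.elim (fun p => A p.1 p.2) (fun p => G p.1 p.2))
  have hθG : θ.mapMatrix (Gg n) = G := by
    refine Matrix.ext fun i j => ?_
    simp only [RingHom.mapMatrix_apply, Matrix.map_apply, Gg, Matrix.of_apply, θ]
    rw [eval₂Hom_X']; rfl
  have hθGt : θ.mapMatrix (Gg n)ᵀ = Gᵀ := by
    have : θ.mapMatrix (Gg n)ᵀ = (θ.mapMatrix (Gg n))ᵀ := rfl
    rw [this, hθG]
  have hcomp : θ.comp (evA (M₀ n)) = evA A := by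
    apply MvPolynomial.ringHom_ext
    · intro z; simp [evA, θ]
    · intro p; simp [evA, θ, M₀]
  have hθA : θ.mapMatrix (Ag n) = A := by
    rw [mapMatrix_Ag, hcomp, evA_genAlt hA]
  have := congrArg θ (pf_conj_univ n)
  rw [← pf_map, map_mul, map_mul, hθA, hθG, hθGt, map_mul, RingHom.map_det, hθG, ← pf_map,
    hθA] at this
  exact this

end Law

end Groth.Agent.Lib.Helper2.Pfaff
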