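import Mathlib

/-!
# Commuting projective representations of elementary abelian groups

`exists_scalar`: a family of pairwise commuting operators `f g` (`g` in a finite abelian group `G`)
on a `d`-dimensional space over an algebraically closed field of characteristic zero, multiplicative
up to scalars and with `f g ^ p` a nonzero scalar, has a nonzero `g` with `f g` scalar as soon as
`p ^ d ≤ |G|`.
-/

namespace Groth.Agent.Lib.Helper2.ProjRepScalar

open Module Module.End Polynomial

variable {K V G : Type*} [Field K] [IsAlgClosed K] [CharZero K] [AddCommGroup V] [Module K V]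
  [FiniteDimensional K V] [AddCommGroup G] [Fintype G]

theorem pow_apply_of_eigen (T : Module.End K V) (v : V) (c : K) (h : T v = c • v) (m : ℕ) :
    (T ^ m) v = c ^ m • v := by
  induction m with
  | zero => simp
  | succ m ih =>
    rw [pow_succ, Module.End.mul_apply, h, map_smul, ih, smul_smul, pow_succ, mul_comm]

theorem exists_scalar (p : ℕ) (hp : p.Prime) (f : G → Module.End K V)
    (h1 : ∀ g g', ∃ u : K, f (g + g') = u • (f g * f g'))
    (h2 : ∀ g g', Commute (f g) (f g'))
    (h3 : ∀ g, ∃ μ : K, μ ≠ 0 ∧ f g ^ p = μ • 1)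
    (h4 : p ^ Module.finrank K V ≤ Fintype.card G) (hV : 0 < Module.finrank K V) :
    ∃ g : G, g ≠ 0 ∧ ∃ c : K, f g = c • 1 := by
  classical
  have hp0 : 0 < p := hp.pos
  have hss : ∀ g, (f g).IsSemisimple := by
    intro g
    obtain ⟨μ, hμ0, hμ⟩ := h3 g
    apply isSemisimple_of_squarefree_aeval_eq_zero (p := X ^ p - C μ)
    · exact (separable_X_pow_sub_C μ (by exact_mod_cast hp.ne_zero) hμ0).squarefree
    · simp only [map_sub, map_pow, aeval_X, aeval_C, hμ, Algebra.algebraMap_eq_smul_one, sub_self]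
  choose u hu using h1
  choose μ hμ0 hμ using h3
  let W : (G → K) → Submodule K V := fun χ => ⨅ g, (f g).maxGenEigenspace (χ g)
  have htop : ⨆ χ, W χ = ⊤ :=
    iSup_iInf_maxGenEigenspace_eq_top_of_iSup_maxGenEigenspace_eq_top_of_commute f
      (fun i j _ => h2 i j) (fun g => iSup_maxGenEigenspace_eq_top (f g))
  have hind : iSupIndep W :=
    independent_iInf_maxGenEigenspace_of_forall_mapsTo f
      (fun i j φ => mapsTo_maxGenEigenspace_of_comm (h2 j i) φ)
  have memW : ∀ χ v, v ∈ W χ ↔ ∀ g, f g v = χ g • v := by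
    intro χ v
    simp only [W, Submodule.mem_iInf]
    refine forall_congr' fun g => ?_
    rw [(hss g).isFinitelySemisimple.maxGenEigenspace_eq_eigenspace, mem_eigenspace_iff]
  letI : Fintype {χ // W χ ≠ ⊥} := hind.fintypeNeBotOfFiniteDimensional
  have hcard : Fintype.card {χ // W χ ≠ ⊥} ≤ Module.finrank K V :=
    hind.subtype_ne_bot_le_finrank
  have hnontriv : Nontrivial V := Module.nontrivial_of_finrank_pos (R := K) hV
  obtain ⟨χ₁, hχ₁⟩ : ∃ χ, W χ ≠ ⊥ := by
    by_contra hcon
    push Not at hcon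
    have : (⨆ χ, W χ) = ⊥ := by simp [hcon]
    rw [htop] at this
    exact top_ne_bot this
  -- properties of weights
  have hvec : ∀ χ, W χ ≠ ⊥ → ∃ v ∈ W χ, v ≠ 0 := fun χ hχ => (Submodule.ne_bot_iff _).1 hχ
  have hmul : ∀ χ, W χ ≠ ⊥ → ∀ g g', χ (g + g') = u g g' * (χ g * χ g') := by
    intro χ hχ g g'
    obtain ⟨v, hv, hv0⟩ := hvec χ hχ
    have hv' := (memW χ v).1 hv
    have e1 : f (g + g') v = (u g g' * (χ g * χ g')) • v := by
      rw [hu g g', LinearMap.smul_apply, Module.End.mul_apply, hv' g', map_smul, hv' g,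
        smul_smul, smul_smul]
      congr 1; ring
    rw [hv' (g + g')] at e1
    by_contra hne
    have : (χ (g + g') - u g g' * (χ g * χ g')) • v = 0 := by rw [sub_smul, e1, sub_self]
    rcases smul_eq_zero.1 this with h | h
    · exact hne (sub_eq_zero.1 h)
    · exact hv0 h
  have hpow : ∀ χ, W χ ≠ ⊥ → ∀ g, χ g ^ p = μ g := by
    intro χ hχ g
    obtain ⟨v, hv, hv0⟩ := hvec χ hχ
    have hv' := (memW χ v).1 hv
    have e1 := pow_apply_of_eigen (f g) v (χ g) (hv' g) p
    rw [hμ g, LinearMap.smul_apply, Module.End.one_apply] at e1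
    by_contra hne
    have : (χ g ^ p - μ g) • v = 0 := by rw [sub_smul, e1, sub_self]
    rcases smul_eq_zero.1 this with h | h
    · exact hne (sub_eq_zero.1 h)
    · exact hv0 h
  have hne0 : ∀ χ, W χ ≠ ⊥ → ∀ g, χ g ≠ 0 := by
    intro χ hχ g h0
    have := hpow χ hχ g
    rw [h0, zero_pow hp.ne_zero] at this
    exact hμ0 g this.symm
  -- pigeonhole
  let X := {χ // W χ ≠ ⊥}
  let x₁ : X := ⟨χ₁, hχ₁⟩
  let β := {x : X // x ≠ x₁} → ↥(nthRootsFinset p (1 : K))
  let Φ : G → β := fun g x => ⟨x.1.1 g / χ₁ g, by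
    rw [mem_nthRootsFinset hp0, div_pow, hpow _ x.1.2 g, hpow _ hχ₁ g, div_self (hμ0 g)]⟩
  have hβ : Fintype.card β < Fintype.card G := by
    have hr : Fintype.card ↥(nthRootsFinset p (1 : K)) ≤ p := by
      rw [Fintype.card_coe, nthRootsFinset_def]
      exact (Multiset.toFinset_card_le _).trans (card_nthRoots p 1)
    have hm : Fintype.card {x : X // x ≠ x₁} < Fintype.card X :=
      Fintype.card_subtype_lt (x := x₁) (by simp)
    have hm' : Fintype.card {x : X // x ≠ x₁} + 1 ≤ Module.finrank K V := hm.trans_le hcard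
    calc Fintype.card β = Fintype.card ↥(nthRootsFinset p (1 : K)) ^
          Fintype.card {x : X // x ≠ x₁} := Fintype.card_fun
      _ ≤ p ^ Fintype.card {x : X // x ≠ x₁} := Nat.pow_le_pow_left hr _
      _ < p ^ (Fintype.card {x : X // x ≠ x₁} + 1) := Nat.pow_lt_pow_right hp.one_lt (by omega)
      _ ≤ p ^ Module.finrank K V := Nat.pow_le_pow_right hp0 hm'
      _ ≤ Fintype.card G := h4
  obtain ⟨g, g', hgg', hΦ⟩ := Fintype.exists_ne_map_eq_of_card_lt Φ hβ
  have hratio : ∀ χ, W χ ≠ ⊥ → χ g / χ₁ g = χ g' / χ₁ g' := by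
    intro χ hχ
    by_cases hx : (⟨χ, hχ⟩ : X) = x₁
    · have : χ = χ₁ := congrArg Subtype.val hx
      rw [this, div_self (hne0 _ hχ₁ g), div_self (hne0 _ hχ₁ g')]
    · have := congrFun hΦ ⟨⟨χ, hχ⟩, hx⟩
      exact congrArg Subtype.val this
  refine ⟨g - g', sub_ne_zero.2 hgg', χ₁ (g - g'), ?_⟩
  have hval : ∀ χ, W χ ≠ ⊥ → χ (g - g') = χ₁ (g - g') := by
    intro χ hχ
    have e1 := hmul χ hχ (g - g') g'
    have e2 := hmul χ₁ hχ₁ (g - g') g'
    rw [sub_add_cancel] at e1 e2
    have hr := hratio χ hχ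
    have hu0 : u (g - g') g' ≠ 0 := by
      intro h0
      rw [h0, zero_mul] at e2
      exact hne0 _ hχ₁ g e2
    have a1 := hne0 χ hχ g'
    have a2 := hne0 χ₁ hχ₁ g'
    have a3 := hne0 χ₁ hχ₁ g
    rw [div_eq_div_iff a3 a2, e1, e2] at hr
    have : u (g - g') g' * χ g' * χ₁ g' * (χ (g - g') - χ₁ (g - g')) = 0 := by
      linear_combination hr
    rcases mul_eq_zero.1 this with h | h
    · exact absurd h (mul_ne_zero (mul_ne_zero hu0 a1) a2)
    · exact sub_eq_zero.1 h
  ext v
  have hv : v ∈ ⨆ χ, W χ := by rw [htop]; trivial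
  rw [LinearMap.smul_apply, Module.End.one_apply]
  refine Submodule.iSup_induction (motive := fun v => f (g - g') v = χ₁ (g - g') • v) W hv ?_ ?_ ?_
  · intro χ w hw
    by_cases hχ : W χ = ⊥
    · rw [hχ] at hw
      rw [(Submodule.mem_bot K).1 hw]; simp
    · rw [(memW χ w).1 hw (g - g'), hval χ hχ]
  · simp
  · intro a b ha hb
    rw [map_add, ha, hb, smul_add]

end Groth.Agent.Lib.Helper2.ProjRepScalar
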