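import Groth.Prelude.Def_W4c5quivmodgenus0Quiv
import Mathlib

/-! Translation between (semi)stability for the quivers `Q` and `P`. -/

set_option autoImplicit false
universe u v
open PtQuiv

namespace Groth.Agent.Lib.Helper2.PtQuivTr

variable {K : Type u} [Field K] {κ : Type v} [Fintype κ] [DecidableEq κ]

theorem sum_split {a b : κ} (hab : a ≠ b) (θ : κ → ℚ) :
    ∑ i, θ i = θ a + θ b + ∑ i : {i : κ // i ≠ a ∧ i ≠ b}, θ i.1 := by
  have h1 : (Finset.univ : Finset κ) =
      insert a (insert b (Finset.univ.filter (fun i => i ≠ a ∧ i ≠ b))) := by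
    ext i
    simp only [Finset.mem_univ, Finset.mem_insert, Finset.mem_filter, true_and, true_iff]
    tauto
  rw [h1, Finset.sum_insert, Finset.sum_insert, ← add_assoc]
  · congr 1
    exact Finset.sum_subtype _ (by simp) _
  · simp
  · simp [hab]

theorem PWt_eq (c x y : ℚ) {ι : Type*} (θ' : ι → ℚ) (U : Fin 2 → Submodule K K) (I' : Finset ι) :
    PWt K ![c * x, c * y] (fun i => c * θ' i) U I' =
      c * (x * (Module.finrank K (U 0) : ℚ) + y * (Module.finrank K (U 1) : ℚ) + ∑ i ∈ I', θ' i) := by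
  unfold PWt
  rw [Fin.sum_univ_two, ← Finset.mul_sum]
  simp only [Matrix.cons_val_zero, Matrix.cons_val_one]
  ring

theorem finrank_cases (V : Submodule K K) :
    (V = ⊥ ∧ Module.finrank K V = 0) ∨ (V = ⊤ ∧ Module.finrank K V = 1) := by
  rcases eq_bot_or_eq_top V with h | h
  · left; exact ⟨h, by rw [h, finrank_bot]⟩
  · right; exact ⟨h, by rw [h, finrank_top, Module.finrank_self]⟩

theorem mem_of_top_or {V : Submodule K K} {x : K} (h : V = ⊤ ∨ x = 0) : x ∈ V := by
  rcases h with h | h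
  · rw [h]; trivial
  · rw [h]; exact V.zero_mem

section

variable {a b : κ} (hab : a ≠ b) (s : κ → (Fin 2 → K)) (θ : κ → ℚ)
  (t : {i : κ // i ≠ a ∧ i ≠ b} → (Fin 2 → K))
  (hrel : ∀ i : {i : κ // i ≠ a ∧ i ≠ b}, s i.1 = t i 0 • s a + t i 1 • s b)

include hab hrel

/-- `P`-subrepresentations give `Q`-subrepresentations of the same (rescaled) weight. -/
theorem PtoQ (hsa : s a ≠ 0) (hsb : s b ≠ 0) (U : Fin 2 → Submodule K K)
    (I' : Finset {i : κ // i ≠ a ∧ i ≠ b}) (hsub : PSubrep t U I') :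
    ∃ (L : Submodule K (Fin 2 → K)) (J : Finset κ), QSubrep s L J ∧
      ((θ a - 1) * (Module.finrank K (U 0) : ℚ) + (θ b - 1) * (Module.finrank K (U 1) : ℚ)
        + ∑ i ∈ I', θ i.1 = QWt K (-1) θ L J) ∧
      (J = ∅ → (U = ⊥ ∧ I' = ∅)) ∧ (J = Finset.univ → (U = ⊤ ∧ I' = Finset.univ)) := by
  classical
  set e : {i : κ // i ≠ a ∧ i ≠ b} ↪ κ := Function.Embedding.subtype _ with he
  set J₀ : Finset κ := I'.map e with hJ₀
  have hσ : ∑ i ∈ J₀, θ i = ∑ i ∈ I', θ i.1 := by
    rw [hJ₀, Finset.sum_map]; rfl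
  have haJ₀ : a ∉ J₀ := by
    rw [hJ₀, Finset.mem_map]
    rintro ⟨i, -, hi⟩
    exact i.2.1 hi
  have hbJ₀ : b ∉ J₀ := by
    rw [hJ₀, Finset.mem_map]
    rintro ⟨i, -, hi⟩
    exact i.2.2 hi
  have hmemJ₀ : ∀ i ∈ J₀, ∃ i' ∈ I', (i' : κ) = i := by
    intro i hi
    rw [hJ₀, Finset.mem_map] at hi
    obtain ⟨i', hi', rfl⟩ := hi
    exact ⟨i', hi', rfl⟩
  rcases finrank_cases (U 0) with ⟨hU0, hf0⟩ | ⟨hU0, hf0⟩ <;>
  rcases finrank_cases (U 1) with ⟨hU1, hf1⟩ | ⟨hU1, hf1⟩
  · -- (⊥, ⊥)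
    refine ⟨⊥, J₀, ?_, ?_, ?_, ?_⟩
    · intro i hi
      obtain ⟨i', hi', rfl⟩ := hmemJ₀ i hi
      have e0 := hsub i' hi' 0
      have e1 := hsub i' hi' 1
      rw [hU0, Submodule.mem_bot] at e0
      rw [hU1, Submodule.mem_bot] at e1
      rw [Submodule.mem_bot, hrel i', e0, e1, zero_smul, zero_smul, add_zero]
    · unfold QWt
      rw [hf0, hf1, finrank_bot, hσ]
      push_cast; ring
    · intro hJ
      refine ⟨?_, ?_⟩
      · funext j; fin_cases j
        · exact hU0
        · exact hU1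
      · rwa [hJ₀, Finset.map_eq_empty] at hJ
    · intro hJ
      exact absurd (hJ ▸ Finset.mem_univ a) haJ₀
  · -- (⊥, ⊤)
    refine ⟨K ∙ s b, insert b J₀, ?_, ?_, ?_, ?_⟩
    · intro i hi
      rw [Finset.mem_insert] at hi
      rcases hi with rfl | hi
      · exact Submodule.mem_span_singleton_self _
      · obtain ⟨i', hi', rfl⟩ := hmemJ₀ i hi
        have e0 := hsub i' hi' 0
        rw [hU0, Submodule.mem_bot] at e0
        rw [hrel i', e0, zero_smul, zero_add]
        exact Submodule.smul_mem _ _ (Submodule.mem_span_singleton_self _)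
    · unfold QWt
      rw [hf0, hf1, finrank_span_singleton hsb, Finset.sum_insert hbJ₀, hσ]
      push_cast; ring
    · intro hJ
      exact absurd hJ (Finset.insert_ne_empty _ _)
    · intro hJ
      have : a ∈ insert b J₀ := hJ ▸ Finset.mem_univ a
      rw [Finset.mem_insert] at this
      rcases this with h | h
      · exact absurd h hab
      · exact absurd h haJ₀
  · -- (⊤, ⊥)
    refine ⟨K ∙ s a, insert a J₀, ?_, ?_, ?_, ?_⟩
    · intro i hi
      rw [Finset.mem_insert] at hi
      rcases hi with rfl | hi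
      · exact Submodule.mem_span_singleton_self _
      · obtain ⟨i', hi', rfl⟩ := hmemJ₀ i hi
        have e1 := hsub i' hi' 1
        rw [hU1, Submodule.mem_bot] at e1
        rw [hrel i', e1, zero_smul, add_zero]
        exact Submodule.smul_mem _ _ (Submodule.mem_span_singleton_self _)
    · unfold QWt
      rw [hf0, hf1, finrank_span_singleton hsa, Finset.sum_insert haJ₀, hσ]
      push_cast; ring
    · intro hJ
      exact absurd hJ (Finset.insert_ne_empty _ _)
    · intro hJ
      have : b ∈ insert a J₀ := hJ ▸ Finset.mem_univ b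
      rw [Finset.mem_insert] at this
      rcases this with h | h
      · exact absurd h.symm hab
      · exact absurd h hbJ₀
  · -- (⊤, ⊤)
    have hbJ₀' : a ∉ insert b J₀ := by
      rw [Finset.mem_insert]; rintro (h | h)
      · exact hab h
      · exact haJ₀ h
    refine ⟨⊤, insert a (insert b J₀), fun _ _ => Submodule.mem_top, ?_, ?_, ?_⟩
    · unfold QWt
      rw [hf0, hf1, finrank_top, Module.finrank_fin_fun, Finset.sum_insert hbJ₀',
        Finset.sum_insert hbJ₀, hσ]
      push_cast; ring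
    · intro hJ
      exact absurd hJ (Finset.insert_ne_empty _ _)
    · intro hJ
      refine ⟨?_, ?_⟩
      · funext j; fin_cases j
        · exact hU0
        · exact hU1
      · rw [Finset.eq_univ_iff_forall]
        intro i
        have : (i : κ) ∈ insert a (insert b J₀) := hJ ▸ Finset.mem_univ _
        rw [Finset.mem_insert, Finset.mem_insert] at this
        rcases this with h | h | h
        · exact absurd h i.2.1
        · exact absurd h i.2.2
        · obtain ⟨i', hi', hii'⟩ := hmemJ₀ _ h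
          have : i' = i := Subtype.ext hii'
          rwa [← this]

end

section

variable {a b : κ} (hab : a ≠ b) (s : κ → (Fin 2 → K)) (θ : κ → ℚ)
  (t : {i : κ // i ≠ a ∧ i ≠ b} → (Fin 2 → K))
  (hrel : ∀ i : {i : κ // i ≠ a ∧ i ≠ b}, s i.1 = t i 0 • s a + t i 1 • s b)
  (hli : LinearIndependent K ![s a, s b])

include hli in
theorem ne_zero_of_li : s a ≠ 0 ∧ s b ≠ 0 := ⟨hli.ne_zero 0, hli.ne_zero 1⟩

include hrel hli in
theorem coord_eq_zero_of_mem_span_a (i : {i : κ // i ≠ a ∧ i ≠ b}) (h : s i.1 ∈ K ∙ s a) :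
    t i 1 = 0 := by
  rw [Submodule.mem_span_singleton] at h
  obtain ⟨c, hc⟩ := h
  rw [LinearIndependent.pair_iff] at hli
  have := hli (t i 0 - c) (t i 1) (by rw [sub_smul, sub_add_eq_add_sub, ← hrel i, hc, sub_self])
  exact this.2

include hrel hli in
theorem coord_eq_zero_of_mem_span_b (i : {i : κ // i ≠ a ∧ i ≠ b}) (h : s i.1 ∈ K ∙ s b) :
    t i 0 = 0 := by
  rw [Submodule.mem_span_singleton] at h
  obtain ⟨c, hc⟩ := h
  rw [LinearIndependent.pair_iff] at hli
  have := hli (t i 0) (t i 1 - c) (by rw [sub_smul, ← add_sub_assoc, ← hrel i, hc, sub_self])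
  exact this.1

include hrel hli in
theorem coord_eq_zero_of_eq_zero (i : {i : κ // i ≠ a ∧ i ≠ b}) (h : s i.1 = 0) :
    t i 0 = 0 ∧ t i 1 = 0 := by
  rw [LinearIndependent.pair_iff] at hli
  exact hli (t i 0) (t i 1) (by rw [← hrel i, h])

theorem eq_span_of_mem {L : Submodule K (Fin 2 → K)} (hL : Module.finrank K L ≤ 1) {v : Fin 2 → K}
    (hv : v ≠ 0) (hvL : v ∈ L) : L = K ∙ v := by
  have hle : K ∙ v ≤ L := by
    rw [Submodule.span_singleton_le_iff_mem]; exact hvL
  exact (Submodule.eq_of_le_of_finrank_le hle (by rw [finrank_span_singleton hv]; exact hL)).symm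

include hli in
theorem not_both_mem {L : Submodule K (Fin 2 → K)} (hL : Module.finrank K L ≤ 1)
    (ha : s a ∈ L) (hb : s b ∈ L) : False := by
  have h1 := eq_span_of_mem hL (ne_zero_of_li s hli).1 ha
  rw [h1, Submodule.mem_span_singleton] at hb
  obtain ⟨c, hc⟩ := hb
  rw [LinearIndependent.pair_iff] at hli
  have := hli c (-1) (by rw [hc, neg_smul, one_smul, add_neg_cancel])
  exact one_ne_zero (neg_eq_zero.mp this.2)

include hab hrel hli in
/-- `Q`-subrepresentations of dimension `≤ 1` are dominated by `P`-subrepresentations. -/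
theorem QtoP (hθ : 1 < θ a + θ b) (L : Submodule K (Fin 2 → K)) (J : Finset κ)
    (hsub : QSubrep s L J) (hL : Module.finrank K L ≤ 1) :
    ∃ (U : Fin 2 → Submodule K K) (I' : Finset {i : κ // i ≠ a ∧ i ≠ b}), PSubrep t U I' ∧
      QWt K (-1) θ L J ≤ (θ a - 1) * (Module.finrank K (U 0) : ℚ)
        + (θ b - 1) * (Module.finrank K (U 1) : ℚ) + ∑ i ∈ I', θ i.1 ∧
      (QWt K (-1) θ L J = 0 → (θ a - 1) * (Module.finrank K (U 0) : ℚ)
        + (θ b - 1) * (Module.finrank K (U 1) : ℚ) + ∑ i ∈ I', θ i.1 ≤ 0 →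
        ((θ a - 1) * (Module.finrank K (U 0) : ℚ)
        + (θ b - 1) * (Module.finrank K (U 1) : ℚ) + ∑ i ∈ I', θ i.1 = 0 ∧ U ≠ ⊤ ∧
          ((U = ⊥ ∧ I' = ∅) → (L = ⊥ ∧ J = ∅)))) := by
  classical
  obtain ⟨hsa, hsb⟩ := ne_zero_of_li s hli
  have hbt : (⊥ : Submodule K K) ≠ ⊤ := bot_ne_top
  have hfb : Module.finrank K (⊥ : Submodule K K) = 0 := finrank_bot _ _
  have hft : Module.finrank K (⊤ : Submodule K K) = 1 := by rw [finrank_top, Module.finrank_self]
  by_cases haJ : a ∈ J
  · -- a ∈ J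
    have hLa : L = K ∙ s a := eq_span_of_mem hL hsa (hsub a haJ)
    have hbJ : b ∉ J := fun hbJ => not_both_mem s hli hL (hsub a haJ) (hsub b hbJ)
    have hp : ∀ x ∈ J.erase a, x ≠ a ∧ x ≠ b := by
      intro x hx
      rw [Finset.mem_erase] at hx
      exact ⟨hx.1, fun h => hbJ (h ▸ hx.2)⟩
    refine ⟨![⊤, ⊥], (J.erase a).subtype _, ?_, ?_, ?_⟩
    · intro i hi j
      rw [Finset.mem_subtype, Finset.mem_erase] at hi
      fin_cases j
      · exact Submodule.mem_top
      · show t i 1 ∈ (⊥ : Submodule K K)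
        rw [Submodule.mem_bot]
        exact coord_eq_zero_of_mem_span_a s t hrel hli i (hLa ▸ hsub i.1 hi.2)
    · have hW : QWt K (-1) θ L J = (θ a - 1) * (Module.finrank K ((![⊤, ⊥] : Fin 2 → Submodule K K) 0) : ℚ)
          + (θ b - 1) * (Module.finrank K ((![⊤, ⊥] : Fin 2 → Submodule K K) 1) : ℚ)
          + ∑ i ∈ (J.erase a).subtype (fun i => i ≠ a ∧ i ≠ b), θ i.1 := by
        unfold QWt
        rw [Finset.sum_subtype_of_mem (fun i => θ i) hp, ← Finset.add_sum_erase J θ haJ, hLa,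
          finrank_span_singleton hsa,
          show (![⊤, ⊥] : Fin 2 → Submodule K K) 0 = ⊤ from rfl,
          show (![⊤, ⊥] : Fin 2 → Submodule K K) 1 = ⊥ from rfl, hfb, hft]
        push_cast; ring
      exact hW.le
    · intro h0 _
      have hW : QWt K (-1) θ L J = (θ a - 1) * (Module.finrank K ((![⊤, ⊥] : Fin 2 → Submodule K K) 0) : ℚ)
          + (θ b - 1) * (Module.finrank K ((![⊤, ⊥] : Fin 2 → Submodule K K) 1) : ℚ)
          + ∑ i ∈ (J.erase a).subtype (fun i => i ≠ a ∧ i ≠ b), θ i.1 := by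
        unfold QWt
        rw [Finset.sum_subtype_of_mem (fun i => θ i) hp, ← Finset.add_sum_erase J θ haJ, hLa,
          finrank_span_singleton hsa,
          show (![⊤, ⊥] : Fin 2 → Submodule K K) 0 = ⊤ from rfl,
          show (![⊤, ⊥] : Fin 2 → Submodule K K) 1 = ⊥ from rfl, hfb, hft]
        push_cast; ring
      refine ⟨by rw [← hW]; exact h0, ?_, ?_⟩
      · intro h
        have := congrFun h 1
        exact hbt this
      · rintro ⟨h, -⟩
        have := congrFun h 0
        exact absurd this.symm hbt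
  by_cases hbJ : b ∈ J
  · -- b ∈ J, a ∉ J
    have hLb : L = K ∙ s b := eq_span_of_mem hL hsb (hsub b hbJ)
    have hp : ∀ x ∈ J.erase b, x ≠ a ∧ x ≠ b := by
      intro x hx
      rw [Finset.mem_erase] at hx
      exact ⟨fun h => haJ (h ▸ hx.2), hx.1⟩
    have hW : QWt K (-1) θ L J = (θ a - 1) * (Module.finrank K ((![⊥, ⊤] : Fin 2 → Submodule K K) 0) : ℚ)
        + (θ b - 1) * (Module.finrank K ((![⊥, ⊤] : Fin 2 → Submodule K K) 1) : ℚ)
        + ∑ i ∈ (J.erase b).subtype (fun i => i ≠ a ∧ i ≠ b), θ i.1 := by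
      unfold QWt
      rw [Finset.sum_subtype_of_mem (fun i => θ i) hp, ← Finset.add_sum_erase J θ hbJ, hLb,
        finrank_span_singleton hsb,
        show (![⊥, ⊤] : Fin 2 → Submodule K K) 0 = ⊥ from rfl,
        show (![⊥, ⊤] : Fin 2 → Submodule K K) 1 = ⊤ from rfl, hfb, hft]
      push_cast; ring
    refine ⟨![⊥, ⊤], (J.erase b).subtype _, ?_, hW.le, ?_⟩
    · intro i hi j
      rw [Finset.mem_subtype, Finset.mem_erase] at hi
      fin_cases j
      · show t i 0 ∈ (⊥ : Submodule K K)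
        rw [Submodule.mem_bot]
        exact coord_eq_zero_of_mem_span_b s t hrel hli i (hLb ▸ hsub i.1 hi.2)
      · exact Submodule.mem_top
    · intro h0 _
      refine ⟨by rw [← hW]; exact h0, ?_, ?_⟩
      · intro h
        have := congrFun h 0
        exact hbt this
      · rintro ⟨h, -⟩
        have := congrFun h 1
        exact absurd this.symm hbt
  -- neither
  have hp : ∀ x ∈ J, x ≠ a ∧ x ≠ b := fun x hx => ⟨fun h => haJ (h ▸ hx), fun h => hbJ (h ▸ hx)⟩
  have hσ : ∑ i ∈ J.subtype (fun i => i ≠ a ∧ i ≠ b), θ i.1 = ∑ i ∈ J, θ i :=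
    Finset.sum_subtype_of_mem (fun i => θ i) hp
  rcases Nat.lt_or_ge (Module.finrank K L) 1 with hL0 | hL1
  · -- dimension 0
    have hLbot : L = ⊥ := Submodule.finrank_eq_zero.mp (by omega)
    have hW : QWt K (-1) θ L J = (θ a - 1) * (Module.finrank K ((fun _ => ⊥ : Fin 2 → Submodule K K) 0) : ℚ)
        + (θ b - 1) * (Module.finrank K ((fun _ => ⊥ : Fin 2 → Submodule K K) 1) : ℚ)
        + ∑ i ∈ J.subtype (fun i => i ≠ a ∧ i ≠ b), θ i.1 := by
      unfold QWt
      rw [hσ, hLbot, finrank_bot]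
      simp only [hfb]
      push_cast; ring
    refine ⟨fun _ => ⊥, J.subtype _, ?_, hW.le, ?_⟩
    · intro i hi j
      rw [Finset.mem_subtype] at hi
      have h0 : s i.1 = 0 := by
        have := hsub i.1 hi
        rwa [hLbot, Submodule.mem_bot] at this
      have := coord_eq_zero_of_eq_zero s t hrel hli i h0
      show t i j ∈ (⊥ : Submodule K K)
      rw [Submodule.mem_bot]
      fin_cases j
      · exact this.1
      · exact this.2
    · intro h0 _
      refine ⟨by rw [← hW]; exact h0, ?_, ?_⟩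
      · intro h
        have := congrFun h 0
        exact hbt this
      · rintro ⟨-, h⟩
        refine ⟨hLbot, ?_⟩
        rw [Finset.eq_empty_iff_forall_notMem]
        intro x hx
        have : (⟨x, hp x hx⟩ : {i : κ // i ≠ a ∧ i ≠ b}) ∈ J.subtype (fun i => i ≠ a ∧ i ≠ b) := by
          rw [Finset.mem_subtype]; exact hx
        rw [h] at this
        exact absurd this (Finset.notMem_empty _)
  · -- dimension 1
    have hL1' : Module.finrank K L = 1 := by omega
    have hlt : QWt K (-1) θ L J < (θ a - 1) * (Module.finrank K ((fun _ => ⊤ : Fin 2 → Submodule K K) 0) : ℚ)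
        + (θ b - 1) * (Module.finrank K ((fun _ => ⊤ : Fin 2 → Submodule K K) 1) : ℚ)
        + ∑ i ∈ J.subtype (fun i => i ≠ a ∧ i ≠ b), θ i.1 := by
      unfold QWt
      rw [hσ, hL1']
      simp only [hft]
      push_cast
      linarith
    refine ⟨fun _ => ⊤, J.subtype _, fun _ _ _ => Submodule.mem_top, hlt.le, ?_⟩
    intro h0 hle
    exfalso
    linarith

end

end Groth.Agent.Lib.Helper2.PtQuivTr
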