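import Groth.Agent.Lib.Helper2.PtQuivTr

/-! Translation between (semi)stability for the quivers `Q` and `P`: main lemmas. -/

set_option autoImplicit false
universe u v
open PtQuiv

namespace Groth.Agent.Lib.Helper2.PtQuivTr

variable {K : Type u} [Field K] {κ : Type v} [Fintype κ] [DecidableEq κ]

variable {a b : κ} (hab : a ≠ b) (s : κ → (Fin 2 → K)) (θ : κ → ℚ)
  (h0 : ∀ i, 0 ≤ θ i) (h1 : ∀ i, θ i ≤ 1) (h2 : ∑ i, θ i = 2)
  (hθ : 1 < θ a + θ b) (hθ' : θ a + θ b < 2)

include hab hθ in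
theorem li_of_qSemistable (hQ : QSemistable (-1) θ s) : LinearIndependent K ![s a, s b] := by
  classical
  by_contra hli
  have hcard : (Set.range ![s a, s b]).finrank K ≤ 1 := by
    have h1 := finrank_range_le_card (R := K) ![s a, s b]
    have h2 : ¬ (Fintype.card (Fin 2) = (Set.range ![s a, s b]).finrank K) := by
      rw [← linearIndependent_iff_card_eq_finrank_span]; exact hli
    rw [Fintype.card_fin] at h1 h2
    omega
  set L := Submodule.span K (Set.range ![s a, s b]) with hL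
  have hsaL : s a ∈ L := Submodule.subset_span ⟨0, rfl⟩
  have hsbL : s b ∈ L := Submodule.subset_span ⟨1, rfl⟩
  have hsub : QSubrep s L {a, b} := by
    intro i hi
    rw [Finset.mem_insert, Finset.mem_singleton] at hi
    rcases hi with rfl | rfl
    · exact hsaL
    · exact hsbL
  have := hQ.2 L {a, b} hsub
  unfold QWt at this
  rw [Finset.sum_pair hab] at this
  have hf : (Module.finrank K L : ℚ) ≤ 1 := by exact_mod_cast hcard
  linarith

omit [Fintype κ] [DecidableEq κ] in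
theorem c_pos (hθ' : θ a + θ b < 2) : 0 < (2 - θ a - θ b)⁻¹ := by
  rw [inv_pos]; linarith

include hab h2 in
theorem total_P : (∑ j, (![(2 - θ a - θ b)⁻¹ * (θ a - 1), (2 - θ a - θ b)⁻¹ * (θ b - 1)] : Fin 2 → ℚ) j)
    + ∑ i : {i : κ // i ≠ a ∧ i ≠ b}, (2 - θ a - θ b)⁻¹ * θ i.1 = 0 := by
  have hs := sum_split hab θ
  rw [h2] at hs
  rw [Fin.sum_univ_two, ← Finset.mul_sum]
  simp only [Matrix.cons_val_zero, Matrix.cons_val_one]
  have : ∑ i : {i : κ // i ≠ a ∧ i ≠ b}, θ i.1 = 2 - θ a - θ b := by linarith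
  rw [this]
  ring

variable (t : {i : κ // i ≠ a ∧ i ≠ b} → (Fin 2 → K))
  (hrel : ∀ i : {i : κ // i ≠ a ∧ i ≠ b}, s i.1 = t i 0 • s a + t i 1 • s b)

include hab h2 hθ' hrel in
theorem pSemistable_of_qSemistable (hsa : s a ≠ 0) (hsb : s b ≠ 0) (hQ : QSemistable (-1) θ s) :
    PSemistable ![(2 - θ a - θ b)⁻¹ * (θ a - 1), (2 - θ a - θ b)⁻¹ * (θ b - 1)]
      (fun i : {i : κ // i ≠ a ∧ i ≠ b} => (2 - θ a - θ b)⁻¹ * θ i.1) t := by
  refine ⟨total_P hab θ h2, ?_⟩
  intro U I' hsub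
  rw [PWt_eq]
  obtain ⟨L, J, hLJ, hW, -, -⟩ := PtoQ hab s θ t hrel hsa hsb U I' hsub
  rw [hW]
  exact mul_nonpos_iff.mpr (Or.inl ⟨(c_pos θ hθ').le, hQ.2 L J hLJ⟩)

include hab h0 h2 hθ hθ' hrel in
theorem qSemistable_of_pSemistable (hli : LinearIndependent K ![s a, s b])
    (hP : PSemistable ![(2 - θ a - θ b)⁻¹ * (θ a - 1), (2 - θ a - θ b)⁻¹ * (θ b - 1)]
      (fun i : {i : κ // i ≠ a ∧ i ≠ b} => (2 - θ a - θ b)⁻¹ * θ i.1) t) :
    QSemistable (-1) θ s := by
  refine ⟨by rw [h2]; norm_num, ?_⟩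
  intro L J hsub
  by_cases hL : Module.finrank K L ≤ 1
  · obtain ⟨U, I', hPs, hle, -⟩ := QtoP hab s θ t hrel hli hθ L J hsub hL
    have := hP.2 U I' hPs
    rw [PWt_eq] at this
    have hc := c_pos θ hθ'
    have hW : (θ a - 1) * (Module.finrank K (U 0) : ℚ) + (θ b - 1) * (Module.finrank K (U 1) : ℚ)
        + ∑ i ∈ I', θ i.1 ≤ 0 := by
      by_contra hpos
      rw [not_le] at hpos
      have := mul_pos hc hpos
      linarith
    linarith
  · have hle : Module.finrank K L ≤ 2 := by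
      have := Submodule.finrank_le L
      simpa using this
    have h2' : Module.finrank K L = 2 := by omega
    unfold QWt
    rw [h2']
    have : ∑ i ∈ J, θ i ≤ 2 := by
      rw [← h2]
      exact Finset.sum_le_sum_of_subset_of_nonneg (Finset.subset_univ J) (fun i _ _ => h0 i)
    push_cast
    linarith

/-- coordinates in the basis `s a, s b`. -/
theorem exists_coords (hli : LinearIndependent K ![s a, s b]) :
    ∃ t : {i : κ // i ≠ a ∧ i ≠ b} → (Fin 2 → K),
      ∀ i : {i : κ // i ≠ a ∧ i ≠ b}, s i.1 = t i 0 • s a + t i 1 • s b := by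
  set B := basisOfLinearIndependentOfCardEqFinrank hli (by simp) with hB
  have hB0 : B 0 = s a := by rw [hB, coe_basisOfLinearIndependentOfCardEqFinrank]; rfl
  have hB1 : B 1 = s b := by rw [hB, coe_basisOfLinearIndependentOfCardEqFinrank]; rfl
  refine ⟨fun i j => B.repr (s i.1) j, fun i => ?_⟩
  have := B.sum_repr (s i.1)
  rw [Fin.sum_univ_two, hB0, hB1] at this
  exact this.symm

end Groth.Agent.Lib.Helper2.PtQuivTr
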