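import Groth.Prelude.Def_QCohCat
import Groth.Prelude.Def_CohB1
import Groth.Agent.Lib.Helper29.QCohQcqs
import Groth.Agent.Lib.Helper29.QCohExact
import Groth.Agent.Lib.Helper29.GenLocus
import Mathlib.CategoryTheory.Localization.Adjunction
import Mathlib.CategoryTheory.Adjunction.Restrict

/-! Restriction `QCoh(X) ⥤ QCoh(U)` is a localization (helper2). -/

set_option autoImplicit false
universe u
open CategoryTheory CategoryTheory.Limits AlgebraicGeometry
open QCohCat

namespace Groth.Agent.Lib.Helper2.QcLoc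

open Groth.Agent.Lib.Helper29.QCoh

variable {X : Scheme.{u}} (U : X.Opens)

/-- restriction on quasi-coherent modules -/
noncomputable abbrev resQ : QCoh X ⥤ QCoh (↑U : Scheme.{u}) :=
  ObjectProperty.lift (QCohCat.isQCoh (↑U : Scheme.{u}))
    (ObjectProperty.ι (QCohCat.isQCoh X) ⋙ Scheme.Modules.restrictFunctor U.ι)
    (fun M => @Scheme.Modules.isQuasicoherent_restrictFunctor (↑U : Scheme.{u}) X U.ι
      inferInstance M.obj M.property)

/-- direct image on quasi-coherent modules -/
noncomputable def pushQ [QuasiCompact U.ι] : QCoh (↑U : Scheme.{u}) ⥤ QCoh X :=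
  ObjectProperty.lift (QCohCat.isQCoh X)
    (ObjectProperty.ι (QCohCat.isQCoh (↑U : Scheme.{u})) ⋙ Scheme.Modules.pushforward U.ι)
    (fun M => by
      haveI : M.obj.IsQuasicoherent := M.property
      exact isQuasicoherent_pushforward_of_qcqs U.ι M.obj)

noncomputable instance [QuasiCompact U.ι] : (pushQ U).Full := by
  unfold pushQ; infer_instance

noncomputable instance [QuasiCompact U.ι] : (pushQ U).Faithful := by
  unfold pushQ; infer_instance

noncomputable def adj [QuasiCompact U.ι] : resQ U ⊣ pushQ U :=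
  Adjunction.restrictFullyFaithful (Scheme.Modules.restrictAdjunction U.ι)
    (ObjectProperty.fullyFaithfulι _) (ObjectProperty.fullyFaithfulι _)
    (Iso.refl _) (Iso.refl _)

theorem stalkMap_restrict_bijective_iff {M N : X.Modules} (φ : M ⟶ N) (y : (↑U : Scheme.{u})) :
    Function.Bijective (stalkMap ((Scheme.Modules.restrictFunctor U.ι).map φ) y) ↔
      Function.Bijective (stalkMap φ (U.ι y)) := by
  rw [← ConcreteCategory.isIso_iff_bijective, ← ConcreteCategory.isIso_iff_bijective]
  exact NatIso.isIso_map_iff (Scheme.Modules.restrictStalkNatIso U.ι y) φ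

theorem isIso_restrict_iff_stalk {M N : X.Modules} (φ : M ⟶ N) :
    IsIso ((Scheme.Modules.restrictFunctor U.ι).map φ) ↔
      ∀ x : X, x ∈ U → Function.Bijective (stalkMap φ x) := by
  rw [isIso_iff_stalkMap_bijective]
  constructor
  · intro h x hx
    have := (stalkMap_restrict_bijective_iff U φ ⟨x, hx⟩).1 (h ⟨x, hx⟩)
    exact this
  · intro h y
    exact (stalkMap_restrict_bijective_iff U φ y).2 (h _ y.2)

theorem stalk_kernel_subsingleton_iff {M N : X.Modules} (φ : M ⟶ N) (x : X) :
    Subsingleton ((kernel φ).presheaf.stalk x) ↔ Function.Injective (stalkMap φ x) := by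
  have hS : (ShortComplex.mk (kernel.ι φ) φ (kernel.condition φ)).Exact :=
    ShortComplex.exact_kernel φ
  have h1 : Function.Exact (stalkMap (kernel.ι φ) x) (stalkMap φ x) :=
    (exact_iff_stalk_function_exact _).1 hS x
  have h2 := (mono_iff_stalkMap_injective (kernel.ι φ)).1 inferInstance x
  constructor
  · intro hs
    rw [injective_iff_map_eq_zero]
    intro a ha
    obtain ⟨b, rfl⟩ := (h1 a).1 ha
    rw [Subsingleton.elim b 0, map_zero]
  · intro hi
    refine ⟨fun a b => h2 (hi ?_)⟩
    have ha : stalkMap φ x (stalkMap (kernel.ι φ) x a) = 0 := (h1 _).2 ⟨a, rfl⟩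
    have hb : stalkMap φ x (stalkMap (kernel.ι φ) x b) = 0 := (h1 _).2 ⟨b, rfl⟩
    rw [ha, hb]

theorem stalk_cokernel_subsingleton_iff {M N : X.Modules} (φ : M ⟶ N) (x : X) :
    Subsingleton ((cokernel φ).presheaf.stalk x) ↔ Function.Surjective (stalkMap φ x) := by
  have hS : (ShortComplex.mk φ (cokernel.π φ) (cokernel.condition φ)).Exact :=
    ShortComplex.exact_cokernel φ
  have h1 : Function.Exact (stalkMap φ x) (stalkMap (cokernel.π φ) x) :=
    (exact_iff_stalk_function_exact _).1 hS x
  have h2 := (epi_iff_stalkMap_surjective (cokernel.π φ)).1 inferInstance x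
  constructor
  · intro hs b
    exact (h1 b).1 (Subsingleton.elim _ _)
  · intro hsurj
    refine ⟨fun a b => ?_⟩
    obtain ⟨a', rfl⟩ := h2 a
    obtain ⟨b', rfl⟩ := h2 b
    obtain ⟨a'', rfl⟩ := hsurj a'
    obtain ⟨b'', rfl⟩ := hsurj b'
    rw [(h1 _).2 ⟨a'', rfl⟩, (h1 _).2 ⟨b'', rfl⟩]

theorem support_subset_compl_iff (K : X.Modules) :
    CohB1.support K ⊆ (↑U : Set X)ᶜ ↔ ∀ x : X, x ∈ U → Subsingleton (K.presheaf.stalk x) := by
  constructor
  · intro h x hx
    by_contra hns
    exact h hns hx
  · intro h x hx hxU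
    exact hx (h x hxU)

theorem main [QuasiCompact U.ι] :
    (resQ U).IsLocalization
      (fun (A B : QCohCat.QCoh X) (f : A ⟶ B) =>
        CohB1.support (kernel f.hom) ⊆ (↑U : Set X)ᶜ ∧
          CohB1.support (cokernel f.hom) ⊆ (↑U : Set X)ᶜ) := by
  have hW : (fun (A B : QCohCat.QCoh X) (f : A ⟶ B) =>
        CohB1.support (kernel f.hom) ⊆ (↑U : Set X)ᶜ ∧
          CohB1.support (cokernel f.hom) ⊆ (↑U : Set X)ᶜ) =
      (MorphismProperty.isomorphisms (QCoh (↑U : Scheme.{u}))).inverseImage (resQ U) := by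
    apply MorphismProperty.ext
    intro A B f
    change _ ↔ IsIso ((resQ U).map f)
    rw [support_subset_compl_iff, support_subset_compl_iff]
    have e1 : IsIso ((resQ U).map f) ↔
        IsIso ((Scheme.Modules.restrictFunctor U.ι).map f.hom) := by
      rw [← isIso_iff_of_reflects_iso ((resQ U).map f)
        (ObjectProperty.ι (QCohCat.isQCoh (↑U : Scheme.{u})))]
      rfl
    rw [e1, isIso_restrict_iff_stalk]
    constructor
    · rintro ⟨h1, h2⟩ x hx
      exact ⟨(stalk_kernel_subsingleton_iff f.hom x).1 (h1 x hx),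
        (stalk_cokernel_subsingleton_iff f.hom x).1 (h2 x hx)⟩
    · intro h
      exact ⟨fun x hx => (stalk_kernel_subsingleton_iff f.hom x).2 (h x hx).1,
        fun x hx => (stalk_cokernel_subsingleton_iff f.hom x).2 (h x hx).2⟩
  rw [hW]
  exact (adj U).isLocalization

end Groth.Agent.Lib.Helper2.QcLoc
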