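import Mathlib
import Groth.Prelude.Def_Coh
import Groth.Agent.Lib.Helper29.QCohQcqs
import Groth.Agent.Lib.Helper29.QCohCrit
import Groth.Agent.Lib.Helper29.QCohExact

/-! # Quasi-coherent modules vanishing on opens: kernels of units of restriction -/

set_option autoImplicit false
universe u
open CategoryTheory CategoryTheory.Limits AlgebraicGeometry TopologicalSpace Opposite
open Groth.Agent.Lib.Helper29.QCoh

namespace Groth.Agent.Lib.Helper2.QcSub

variable {X : Scheme.{u}}

theorem isZero_of_subsingleton (M : X.Modules) (h : ∀ W : X.Opens, Subsingleton Γ(M, W)) :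
    IsZero M := by
  rw [IsZero.iff_id_eq_zero]
  apply Scheme.Modules.hom_ext
  intro W
  ext x
  exact (h W).elim _ _

theorem subsingleton_of_isZero (M : X.Modules) (h : IsZero M) (W : X.Opens) :
    Subsingleton Γ(M, W) := by
  refine ⟨fun a b => ?_⟩
  have h0 : (𝟙 M : M ⟶ M) = 0 := (IsZero.iff_id_eq_zero M).1 h
  have ha : a = (0 : M ⟶ M).app W a := by rw [← h0]; rfl
  have hb : b = (0 : M ⟶ M).app W b := by rw [← h0]; rfl
  rw [ha, hb]
  rfl

theorem mono_restrict {M N : X.Modules} (φ : M ⟶ N) [Mono φ] (U : X.Opens) :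
    Mono ((Scheme.Modules.restrictFunctor U.ι).map φ) := by
  rw [mono_iff_app_injective]
  intro W
  exact (mono_iff_app_injective φ).1 inferInstance (U.ι ''ᵁ W)

/-- sections of a module vanishing on an open -/
theorem subsingleton_of_isZero_restrict (F : X.Modules) (U : X.Opens)
    (h : IsZero ((Scheme.Modules.restrictFunctor U.ι).obj F)) (W : X.Opens) (hW : W ≤ U) :
    Subsingleton Γ(F, W) := by
  have h1 := subsingleton_of_isZero _ h (U.ι ⁻¹ᵁ W)
  have h2 : U.ι ''ᵁ (U.ι ⁻¹ᵁ W) = W := by
    rw [Scheme.Hom.image_preimage_eq_opensRange_inf, Scheme.Opens.opensRange_ι]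
    exact inf_eq_right.mpr hW
  have h3 : Subsingleton Γ(F, U.ι ''ᵁ (U.ι ⁻¹ᵁ W)) := h1
  rw [h2] at h3
  exact h3


theorem main [CompactSpace X] [QuasiSeparatedSpace X] (U V : X.Opens) [QuasiCompact U.ι]
    (F : X.Modules) (hF : Coh.IsQCoh F)
    (h : IsZero ((Scheme.Modules.restrictFunctor (U ⊓ V).ι).obj F)) :
    ∃ (A : X.Modules) (i : A ⟶ F), Mono i ∧ Coh.IsQCoh A ∧
      IsZero ((Scheme.Modules.restrictFunctor U.ι).obj A) ∧
      IsZero ((Scheme.Modules.restrictFunctor V.ι).obj (cokernel i)) := by
  haveI : F.IsQuasicoherent := hF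
  let G : X.Modules := (Scheme.Modules.pushforward U.ι).obj (F.restrict U.ι)
  haveI : (F.restrict U.ι).IsQuasicoherent := inferInstance
  haveI : G.IsQuasicoherent := isQuasicoherent_pushforward_of_qcqs U.ι (F.restrict U.ι)
  let η : F ⟶ G := (Scheme.Modules.restrictAdjunction U.ι).unit.app F
  have hη : ∀ (W : X.Opens) (x : Γ(F, W)),
      η.app W x = F.presheaf.map (homOfLE (U.ι.image_preimage_le W)).op x := fun W x => rfl
  refine ⟨kernel η, kernel.ι η, inferInstance, inferInstance, ?_, ?_⟩
  · -- the kernel vanishes on U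
    apply isZero_of_subsingleton
    intro W
    refine ⟨fun a b => ?_⟩
    have hinj := (mono_iff_app_injective (kernel.ι η)).1 inferInstance (U.ι ''ᵁ W)
    apply hinj
    -- both images are killed by η, and η is injective on sections over opens inside U
    have hk : ∀ c : Γ(kernel η, U.ι ''ᵁ W), η.app (U.ι ''ᵁ W) ((kernel.ι η).app (U.ι ''ᵁ W) c) = 0 := by
      intro c
      have := congrArg (fun k => (Scheme.Modules.Hom.app k (U.ι ''ᵁ W)) c) (kernel.condition η)
      exact this
    have hres : Function.Injective (F.presheaf.map (homOfLE (U.ι.image_preimage_le (U.ι ''ᵁ W))).op) := by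
      have e : U.ι ''ᵁ (U.ι ⁻¹ᵁ (U.ι ''ᵁ W)) = U.ι ''ᵁ W := by
        rw [Scheme.Hom.preimage_image_eq]
      have hiso : IsIso (F.presheaf.map (homOfLE (U.ι.image_preimage_le (U.ι ''ᵁ W))).op) := by
        have : homOfLE (U.ι.image_preimage_le (U.ι ''ᵁ W)) = eqToHom e := Subsingleton.elim _ _
        rw [this, eqToHom_op, eqToHom_map]
        infer_instance
      exact ((ConcreteCategory.isIso_iff_bijective _).1 hiso).1
    apply hres
    have ha := hk a
    have hb := hk b
    rw [hη] at ha hb
    exact ha.trans hb.symm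
  · -- the cokernel embeds in `G`, which vanishes on V
    let m : cokernel (kernel.ι η) ⟶ G := Abelian.factorThruCoimage η
    haveI : Mono m := inferInstance
    haveI := mono_restrict m V
    refine IsZero.of_mono ((Scheme.Modules.restrictFunctor V.ι).map m) ?_
    apply isZero_of_subsingleton
    intro W
    -- sections of `G` over `V.ι '' W` are sections of `F` over an open inside `U ⊓ V`
    have : Subsingleton Γ(F, U.ι ''ᵁ (U.ι ⁻¹ᵁ (V.ι ''ᵁ W))) := by
      apply subsingleton_of_isZero_restrict F (U ⊓ V) h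
      refine le_inf ?_ ((U.ι.image_preimage_le _).trans ?_)
      · exact (Scheme.Hom.image_le_opensRange U.ι _).trans (by rw [Scheme.Opens.opensRange_ι])
      · exact (Scheme.Hom.image_le_opensRange V.ι _).trans (by rw [Scheme.Opens.opensRange_ι])
    exact this

end Groth.Agent.Lib.Helper2.QcSub
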