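import Groth.Prelude.Def_W4c1hurwitzcptBd
import Mathlib

/-! Helpers for `RootDisk p k` (`k⟦x⟧` as an algebra over `k⟦t⟧`, `t ↦ x ^ p`). -/

set_option autoImplicit false
universe u
open W4c1hurwitzcpt

namespace Groth.Agent.Lib.Helper2.RootDisk

section Aux
variable {p : ℕ} [NeZero p] {k : Type u} [Field k]

theorem val_smul (a : PowerSeries k) (s : RootDisk p k) :
    RootDisk.val (a • s) = PowerSeries.expand p (NeZero.ne p) a * RootDisk.val s := by
  rw [Algebra.smul_def, map_mul]; rfl

theorem order_val_smul (a : PowerSeries k) (s : RootDisk p k) :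
    PowerSeries.order (RootDisk.val (a • s)) =
      p • PowerSeries.order a + PowerSeries.order (RootDisk.val s) := by
  rw [val_smul, PowerSeries.order_mul, PowerSeries.order_expand]

/-- closure under multiplication can be tested on a spanning set -/
theorem mul_mem_of_span {R S : Type*} [CommRing R] [CommRing S] [Algebra R S] (T : Set S)
    (M : Submodule R S) (hM : M = Submodule.span R T) (h : ∀ a ∈ T, ∀ b ∈ T, a * b ∈ M) :
    ∀ a ∈ M, ∀ b ∈ M, a * b ∈ M := by
  intro a ha b hb
  rw [hM] at ha hb
  induction ha using Submodule.span_induction with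
  | mem a ha =>
    induction hb using Submodule.span_induction with
    | mem b hb => exact h a ha b hb
    | zero => rw [mul_zero]; exact M.zero_mem
    | add b b' _ _ hb hb' => rw [mul_add]; exact M.add_mem hb hb'
    | smul r b _ hb => rw [mul_smul_comm]; exact M.smul_mem r hb
  | zero => rw [zero_mul]; exact M.zero_mem
  | add a a' _ _ ha ha' => rw [add_mul]; exact M.add_mem ha ha'
  | smul r a _ ha => rw [smul_mul_assoc]; exact M.smul_mem r ha

theorem exists_order_eq {φ : PowerSeries k} (h : φ ≠ 0) : ∃ a : ℕ, PowerSeries.order φ = a := by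
  have : PowerSeries.order φ ≠ ⊤ := by
    rw [Ne, PowerSeries.order_eq_top]; exact h
  exact ⟨_, (ENat.coe_toNat this).symm⟩

end Aux

end Groth.Agent.Lib.Helper2.RootDisk
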