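import Groth.Agent.Lib.Helper2.RootDisk

/-! `RootDisk p k` is free of rank `p` over `k⟦t⟧`; full-rank submodules contain `t ^ N • S`. -/

set_option autoImplicit false
universe u
open W4c1hurwitzcpt

namespace Groth.Agent.Lib.Helper2.RootDisk

variable {p : ℕ} [NeZero p] {k : Type u} [Field k]

/-- the `R`-linear map `(a_i) ↦ ∑ a_i • x ^ i`. -/
noncomputable def recomp (p : ℕ) [NeZero p] (k : Type u) [Field k] :
    (Fin p → PowerSeries k) →ₗ[PowerSeries k] RootDisk p k :=
  ∑ i : Fin p, (LinearMap.proj i).smulRight ((RootDisk.val (p := p) (k := k)).symm (PowerSeries.X ^ (i : ℕ)))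

theorem val_recomp (a : Fin p → PowerSeries k) :
    RootDisk.val (recomp p k a) =
      ∑ i : Fin p, PowerSeries.expand p (NeZero.ne p) (a i) * PowerSeries.X ^ (i : ℕ) := by
  simp only [recomp, LinearMap.sum_apply, LinearMap.smulRight_apply, LinearMap.proj_apply, map_sum,
    val_smul, RingEquiv.apply_symm_apply]

theorem coeff_val_recomp (a : Fin p → PowerSeries k) (n : ℕ) :
    PowerSeries.coeff n (RootDisk.val (recomp p k a)) =
      PowerSeries.coeff (n / p) (a ⟨n % p, Nat.mod_lt _ (Nat.pos_of_ne_zero (NeZero.ne p))⟩) := by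
  have hp : 0 < p := Nat.pos_of_ne_zero (NeZero.ne p)
  rw [val_recomp, map_sum]
  rw [Finset.sum_eq_single (⟨n % p, Nat.mod_lt _ hp⟩ : Fin p)]
  · rw [PowerSeries.coeff_mul_X_pow', if_pos (Nat.mod_le n p), PowerSeries.coeff_expand,
      if_pos (Nat.dvd_sub_mod n), ← Nat.div_eq_sub_mod_div]
  · intro i _ hi
    rw [PowerSeries.coeff_mul_X_pow']
    split_ifs with h1
    · rw [PowerSeries.coeff_expand, if_neg]
      intro hdvd
      apply hi
      apply Fin.ext
      show (i : ℕ) = n % p
      have h2 : n = (n - i) + i := by omega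
      obtain ⟨c, hc⟩ := hdvd
      rw [h2, hc, Nat.mul_add_mod, Nat.mod_eq_of_lt i.2]
    · rfl
  · intro h
    exact absurd (Finset.mem_univ _) h

/-- the coordinates of a power series in the basis `x ^ i`. -/
noncomputable def decomp (p : ℕ) [NeZero p] (k : Type u) [Field k] (f : RootDisk p k) :
    Fin p → PowerSeries k :=
  fun i => PowerSeries.mk fun j => PowerSeries.coeff (p * j + i) (RootDisk.val f)

theorem decomp_recomp (a : Fin p → PowerSeries k) : decomp p k (recomp p k a) = a := by
  have hp : 0 < p := Nat.pos_of_ne_zero (NeZero.ne p)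
  funext i
  ext j
  rw [decomp, PowerSeries.coeff_mk, coeff_val_recomp]
  have h1 : (p * j + i) / p = j := by
    rw [Nat.mul_add_div hp, Nat.div_eq_of_lt i.2, add_zero]
  have h2 : (p * j + i) % p = i := by
    rw [Nat.mul_add_mod, Nat.mod_eq_of_lt i.2]
  simp only [h1, h2, Fin.eta]

theorem recomp_decomp (f : RootDisk p k) : recomp p k (decomp p k f) = f := by
  apply (RootDisk.val (p := p) (k := k)).injective
  ext n
  rw [coeff_val_recomp, decomp, PowerSeries.coeff_mk]
  simp only [Nat.div_add_mod]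

/-- `RootDisk p k ≃ R ^ p`. -/
noncomputable def equivFun (p : ℕ) [NeZero p] (k : Type u) [Field k] :
    RootDisk p k ≃ₗ[PowerSeries k] (Fin p → PowerSeries k) :=
  (LinearEquiv.ofBijective (recomp p k)
    (Function.bijective_iff_has_inverse.mpr ⟨decomp p k, decomp_recomp, recomp_decomp⟩)).symm

/-- the basis `x ^ i`, `i < p`. -/
noncomputable def basis (p : ℕ) [NeZero p] (k : Type u) [Field k] :
    Module.Basis (Fin p) (PowerSeries k) (RootDisk p k) :=
  Module.Basis.ofEquivFun (equivFun p k)

/-- full-rank submodules of a finite free module over a PID contain a non-zero multiple of the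
whole module. -/
theorem exists_smul_mem_of_finrank_eq {R N : Type*} [CommRing R] [IsDomain R]
    [IsPrincipalIdealRing R] [AddCommGroup N] [Module R N] {ι : Type*} [Finite ι]
    (b : Module.Basis ι R N) (M : Submodule R N) (h : Module.finrank R M = Module.finrank R N) :
    ∃ d : R, d ≠ 0 ∧ ∀ s : N, d • s ∈ M := by
  classical
  cases nonempty_fintype ι
  obtain ⟨b', a, ab', hab⟩ := Submodule.exists_smith_normal_form_of_rank_eq b h
  have ha : ∀ i, a i ≠ 0 := by
    intro i hi
    apply ab'.ne_zero i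
    apply Subtype.ext
    rw [hab i, hi, zero_smul]
    rfl
  refine ⟨∏ i, a i, Finset.prod_ne_zero_iff.mpr (fun i _ => ha i), ?_⟩
  intro s
  rw [← b'.sum_repr s, Finset.smul_sum]
  refine Submodule.sum_mem _ (fun i _ => ?_)
  rw [← Finset.mul_prod_erase Finset.univ a (Finset.mem_univ i), smul_smul]
  have : (a i * ∏ j ∈ Finset.univ.erase i, a j) * b'.repr s i
      = ((∏ j ∈ Finset.univ.erase i, a j) * b'.repr s i) * a i := by ring
  rw [this, mul_smul, ← hab i]
  exact M.smul_mem _ (ab' i).2

/-- in `k⟦t⟧`, a non-zero multiple can be replaced by a power of `t`. -/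
theorem exists_X_pow_smul_mem {N : Type*} [AddCommGroup N] [Module (PowerSeries k) N]
    (M : Submodule (PowerSeries k) N) (d : PowerSeries k) (hd : d ≠ 0) (h : ∀ s : N, d • s ∈ M) :
    ∃ n : ℕ, ∀ s : N, (PowerSeries.X ^ n : PowerSeries k) • s ∈ M := by
  refine ⟨d.order.toNat, fun s => ?_⟩
  have h1 := PowerSeries.X_pow_order_mul_divXPowOrder (f := d)
  have hu : IsUnit (PowerSeries.divXPowOrder d) := by
    rw [PowerSeries.isUnit_iff_constantCoeff]
    exact isUnit_iff_ne_zero.mpr (by
      rw [Ne, PowerSeries.constantCoeff_divXPowOrder_eq_zero_iff]; exact hd)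
  obtain ⟨u, hu⟩ := hu
  have h2 : (PowerSeries.X ^ d.order.toNat : PowerSeries k) = d * (↑u⁻¹ : PowerSeries k) := by
    conv_rhs => rw [← h1]
    rw [← hu, mul_assoc, Units.mul_inv, mul_one]
  rw [h2, mul_comm, mul_smul]
  exact M.smul_mem _ (h s)

end Groth.Agent.Lib.Helper2.RootDisk
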