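import Groth.Agent.Lib.Helper2.RootDiskBasis

/-! Reduced generating systems of full-rank submodules of `RootDisk p k`. -/

set_option autoImplicit false
universe u
open W4c1hurwitzcpt

namespace Groth.Agent.Lib.Helper2.RootDisk

variable {p : ℕ} [NeZero p] {k : Type u} [Field k]

/-- A finite sum of power series whose non-zero terms have pairwise distinct orders vanishes only
if every term vanishes. -/
theorem forall_eq_zero_of_sum_eq_zero {ι : Type*} (s : Finset ι) (T : ι → PowerSeries k)
    (hdist : ∀ i ∈ s, ∀ j ∈ s, i ≠ j → T i ≠ 0 → T j ≠ 0 →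
      PowerSeries.order (T i) ≠ PowerSeries.order (T j))
    (hsum : ∑ i ∈ s, T i = 0) : ∀ i ∈ s, T i = 0 := by
  classical
  by_contra hcon
  push Not at hcon
  obtain ⟨i₁, hi₁s, hi₁⟩ := hcon
  set s' := s.filter (fun i => T i ≠ 0) with hs'
  have hne : s'.Nonempty := ⟨i₁, by simp [hs', hi₁s, hi₁]⟩
  obtain ⟨i₀, hi₀, hmin⟩ := Finset.exists_min_image s' (fun i => PowerSeries.order (T i)) hne
  have hi₀s : i₀ ∈ s := (Finset.mem_filter.mp hi₀).1
  have hi₀0 : T i₀ ≠ 0 := (Finset.mem_filter.mp hi₀).2
  obtain ⟨n₀, hn₀⟩ := exists_order_eq hi₀0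
  have hc := congrArg (PowerSeries.coeff n₀) hsum
  rw [map_sum, map_zero, Finset.sum_eq_single_of_mem i₀ hi₀s] at hc
  · have := PowerSeries.coeff_order hi₀0
    rw [hn₀, ENat.toNat_coe] at this
    exact this hc
  · intro j hjs hj
    by_cases hj0 : T j = 0
    · rw [hj0, map_zero]
    · apply PowerSeries.coeff_of_lt_order
      have h1 := hmin j (by simp [hs', hjs, hj0])
      have h2 := hdist i₀ hi₀s j hjs (Ne.symm hj) hi₀0 hj0
      rw [← hn₀]
      exact lt_of_le_of_ne h1 h2

theorem smul_ne_zero' {a : PowerSeries k} {s : RootDisk p k} (ha : a ≠ 0) (hs : s ≠ 0) :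
    a • s ≠ 0 := by
  intro h
  have h1 := order_val_smul a s
  rw [h, map_zero, PowerSeries.order_zero] at h1
  obtain ⟨n, hn⟩ := exists_order_eq ha
  have hs' : RootDisk.val s ≠ 0 := by
    intro h0
    exact hs ((RootDisk.val (p := p) (k := k)).injective (by rw [h0, map_zero]))
  obtain ⟨m, hm⟩ := exists_order_eq hs'
  rw [hn, hm] at h1
  have : (p • ((n : ℕ) : ℕ∞) + (m : ℕ∞)) = ((p * n + m : ℕ) : ℕ∞) := by
    push_cast; simp
  rw [this] at h1
  exact ENat.top_ne_coe _ h1

theorem order_val_smul_nat {a : PowerSeries k} {s : RootDisk p k} {n m : ℕ}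
    (hn : PowerSeries.order a = n) (hm : PowerSeries.order (RootDisk.val s) = m) :
    PowerSeries.order (RootDisk.val (a • s)) = ((p * n + m : ℕ) : ℕ∞) := by
  rw [order_val_smul, hn, hm]
  push_cast; simp

theorem val_ne_zero {s : RootDisk p k} (hs : s ≠ 0) : RootDisk.val s ≠ 0 := by
  intro h0
  exact hs ((RootDisk.val (p := p) (k := k)).injective (by rw [h0, map_zero]))

/-- A system with `order (g r) ≡ r (mod p)` is linearly independent. -/
theorem linearIndependent_of_order (g : Fin p → RootDisk p k) (n : Fin p → ℕ)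
    (hg : ∀ r, PowerSeries.order (RootDisk.val (g r)) = n r) (hn : ∀ r : Fin p, n r % p = r) :
    LinearIndependent (PowerSeries k) g := by
  rw [Fintype.linearIndependent_iff]
  intro a ha
  have hg0 : ∀ r, g r ≠ 0 := by
    intro r h0
    have := hg r
    rw [h0, map_zero, PowerSeries.order_zero] at this
    exact ENat.top_ne_coe _ this
  have hsum : ∑ i ∈ Finset.univ, RootDisk.val (a i • g i) = 0 := by
    rw [← map_sum, ha, map_zero]
  have key := forall_eq_zero_of_sum_eq_zero Finset.univ (fun i => RootDisk.val (a i • g i)) ?_ hsum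
  · intro i
    by_contra hai
    exact val_ne_zero (smul_ne_zero' hai (hg0 i)) (key i (Finset.mem_univ i))
  · intro i _ j _ hij hTi hTj
    have hai : a i ≠ 0 := by
      rintro h; apply hTi; rw [h, zero_smul, map_zero]
    have haj : a j ≠ 0 := by
      rintro h; apply hTj; rw [h, zero_smul, map_zero]
    obtain ⟨ni, hni⟩ := exists_order_eq hai
    obtain ⟨nj, hnj⟩ := exists_order_eq haj
    show PowerSeries.order (RootDisk.val (a i • g i)) ≠ PowerSeries.order (RootDisk.val (a j • g j))
    rw [order_val_smul_nat hni (hg i), order_val_smul_nat hnj (hg j)]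
    intro h
    have h' : p * ni + n i = p * nj + n j := by exact_mod_cast h
    apply hij
    apply Fin.ext
    have h1 := congrArg (· % p) h'
    simp only [Nat.mul_add_mod] at h1
    rw [hn i, hn j] at h1
    exact h1

/-- `x ^ r` in `RootDisk p k`. -/
noncomputable def xpow (p : ℕ) (k : Type u) [Field k] (r : ℕ) : RootDisk p k :=
  (RootDisk.val (p := p) (k := k)).symm (PowerSeries.X ^ r)

theorem val_X_pow_smul (N : ℕ) (s : RootDisk p k) :
    RootDisk.val ((PowerSeries.X ^ N : PowerSeries k) • s) = PowerSeries.X ^ (p * N) * RootDisk.val s := by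
  rw [val_smul, map_pow, PowerSeries.expand_X, ← pow_mul]

/-- elements of large order lie in `t ^ N • S`. -/
theorem exists_eq_X_pow_smul {N : ℕ} {f : RootDisk p k}
    (h : ((p * N : ℕ) : ℕ∞) ≤ PowerSeries.order (RootDisk.val f)) :
    ∃ s : RootDisk p k, f = (PowerSeries.X ^ N : PowerSeries k) • s := by
  have hdvd : (PowerSeries.X ^ (p * N) : PowerSeries k) ∣ RootDisk.val f := by
    rw [PowerSeries.X_pow_dvd_iff]
    intro m hm
    apply PowerSeries.coeff_of_lt_order
    exact lt_of_lt_of_le (by exact_mod_cast hm) h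
  obtain ⟨h', hh'⟩ := hdvd
  refine ⟨(RootDisk.val (p := p) (k := k)).symm h', ?_⟩
  apply (RootDisk.val (p := p) (k := k)).injective
  rw [val_X_pow_smul, RingEquiv.apply_symm_apply, hh']

/-- one reduction step. -/
theorem order_sub_smul_gt {f G : RootDisk p k} {n m j : ℕ}
    (hf : PowerSeries.order (RootDisk.val f) = n) (hG : PowerSeries.order (RootDisk.val G) = m)
    (hnm : n = m + p * j) :
    ∃ c : k, ((n + 1 : ℕ) : ℕ∞) ≤
      PowerSeries.order (RootDisk.val (f - (PowerSeries.C c * PowerSeries.X ^ j : PowerSeries k) • G)) := by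
  have hG0 : RootDisk.val G ≠ 0 := by
    intro h; rw [h, PowerSeries.order_zero] at hG; exact ENat.top_ne_coe _ hG
  have hcm : PowerSeries.coeff m (RootDisk.val G) ≠ 0 := by
    have := PowerSeries.coeff_order hG0
    rwa [hG, ENat.toNat_coe] at this
  refine ⟨PowerSeries.coeff n (RootDisk.val f) / PowerSeries.coeff m (RootDisk.val G), ?_⟩
  set c := PowerSeries.coeff n (RootDisk.val f) / PowerSeries.coeff m (RootDisk.val G) with hc
  apply PowerSeries.le_order
  intro i hi
  have hi' : i < n + 1 := by exact_mod_cast hi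
  have hval : RootDisk.val ((PowerSeries.C c * PowerSeries.X ^ j : PowerSeries k) • G) =
      PowerSeries.C c * (RootDisk.val G * PowerSeries.X ^ (p * j)) := by
    rw [val_smul, map_mul, map_pow, PowerSeries.expand_X, PowerSeries.expand_C, ← pow_mul]
    ring
  rw [map_sub, map_sub, hval, PowerSeries.coeff_C_mul, PowerSeries.coeff_mul_X_pow']
  by_cases hin : i < n
  · have h1 : PowerSeries.coeff i (RootDisk.val f) = 0 :=
      PowerSeries.coeff_of_lt_order _ (by rw [hf]; exact_mod_cast hin)
    rw [h1]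
    split_ifs with h2
    · have h3 : PowerSeries.coeff (i - p * j) (RootDisk.val G) = 0 :=
        PowerSeries.coeff_of_lt_order _ (by rw [hG]; exact_mod_cast (by omega : i - p * j < m))
      rw [h3, mul_zero, sub_zero]
    · rw [mul_zero, sub_zero]
  · have hin' : i = n := by omega
    subst hin'
    rw [if_pos (by omega), show i - p * j = m by omega, hc, div_mul_cancel₀ _ hcm, sub_self]

/-- Main theorem: a submodule of `RootDisk p k` containing `t ^ N • S` is spanned by a linearly
independent system `g` with `order (g r) ≡ r (mod p)`. -/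
theorem exists_reduced_system (M₀ : Submodule (PowerSeries k) (RootDisk p k))
    (hfull : ∃ N : ℕ, ∀ s : RootDisk p k, (PowerSeries.X ^ N : PowerSeries k) • s ∈ M₀) :
    ∃ (g : Fin p → RootDisk p k) (n : Fin p → ℕ),
      (∀ r, PowerSeries.order (RootDisk.val (g r)) = n r) ∧ (∀ r : Fin p, n r % p = r) ∧
      LinearIndependent (PowerSeries k) g ∧ Submodule.span (PowerSeries k) (Set.range g) = M₀ := by
  classical
  have hp : 0 < p := Nat.pos_of_ne_zero (NeZero.ne p)
  obtain ⟨N, hN⟩ := hfull
  -- each residue class occurs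
  have hex : ∀ r : Fin p, ∃ n : ℕ, ∃ f ∈ M₀, PowerSeries.order (RootDisk.val f) = n ∧ n % p = r := by
    intro r
    refine ⟨p * N + r, (PowerSeries.X ^ N : PowerSeries k) • xpow p k r, hN _, ?_, ?_⟩
    · rw [val_X_pow_smul, xpow, RingEquiv.apply_symm_apply, ← pow_add, PowerSeries.order_X_pow]
    · rw [Nat.mul_add_mod, Nat.mod_eq_of_lt r.2]
  set n : Fin p → ℕ := fun r => Nat.find (hex r) with hn
  have hspec : ∀ r, ∃ f ∈ M₀, PowerSeries.order (RootDisk.val f) = n r ∧ n r % p = r :=
    fun r => Nat.find_spec (hex r)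
  have hmin : ∀ r : Fin p, ∀ m : ℕ, (∃ f ∈ M₀, PowerSeries.order (RootDisk.val f) = m ∧ m % p = r) →
      n r ≤ m := fun r m h => Nat.find_min' (hex r) h
  choose g hgM hgord hnr using hspec
  have hli := linearIndependent_of_order g n hgord hnr
  refine ⟨g, n, hgord, hnr, hli, ?_⟩
  have hle : Submodule.span (PowerSeries k) (Set.range g) ≤ M₀ := by
    rw [Submodule.span_le]
    rintro _ ⟨r, rfl⟩
    exact hgM r
  -- the span has full rank
  have hfr : Module.finrank (PowerSeries k) (Submodule.span (PowerSeries k) (Set.range g)) =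
      Module.finrank (PowerSeries k) (RootDisk p k) := by
    rw [finrank_span_eq_card hli, Module.finrank_eq_card_basis (basis p k)]
  obtain ⟨d, hd0, hd⟩ := exists_smul_mem_of_finrank_eq (basis p k) _ hfr
  obtain ⟨N', hN'⟩ := exists_X_pow_smul_mem _ d hd0 hd
  -- descent
  have key : ∀ e : ℕ, ∀ f ∈ M₀, (f = 0 ∨ ((p * N' : ℕ) : ℕ∞) ≤
      PowerSeries.order (RootDisk.val f) + (e : ℕ∞)) →
      f ∈ Submodule.span (PowerSeries k) (Set.range g) := by
    intro e
    induction e with
    | zero =>
      intro f _ hf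
      rcases hf with rfl | hf
      · exact Submodule.zero_mem _
      · rw [Nat.cast_zero, add_zero] at hf
        obtain ⟨s, rfl⟩ := exists_eq_X_pow_smul hf
        exact hN' s
    | succ e ih =>
      intro f hfM hf
      by_cases hf0 : f = 0
      · rw [hf0]; exact Submodule.zero_mem _
      obtain ⟨m, hm⟩ := exists_order_eq (val_ne_zero hf0)
      have hlt : m % p < p := Nat.mod_lt _ hp
      set r : Fin p := ⟨m % p, hlt⟩ with hr
      have h1 : n r ≤ m := hmin r m ⟨f, hfM, hm, rfl⟩
      have h2 : n r % p = m % p := hnr r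
      obtain ⟨j, hj⟩ : ∃ j, m = n r + p * j := by
        have : (m - n r) % p = 0 := Nat.sub_mod_eq_zero_of_mod_eq h2.symm
        obtain ⟨j, hj⟩ := Nat.dvd_of_mod_eq_zero this
        exact ⟨j, by omega⟩
      obtain ⟨c, hc⟩ := order_sub_smul_gt hm (hgord r) hj
      set f' := f - (PowerSeries.C c * PowerSeries.X ^ j : PowerSeries k) • g r with hf'
      have hf'M : f' ∈ M₀ := M₀.sub_mem hfM (M₀.smul_mem _ (hgM r))
      have hf'span : f' ∈ Submodule.span (PowerSeries k) (Set.range g) := by
        apply ih f' hf'M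
        right
        rcases hf with hf | hf
        · exact absurd hf hf0
        · rw [hm] at hf
          have hf2 : p * N' ≤ m + (e + 1) := by exact_mod_cast hf
          calc ((p * N' : ℕ) : ℕ∞) ≤ ((m + 1 : ℕ) : ℕ∞) + (e : ℕ∞) := by
                exact_mod_cast (by omega : p * N' ≤ m + 1 + e)
            _ ≤ _ := add_le_add_left hc _
      have : f = f' + (PowerSeries.C c * PowerSeries.X ^ j : PowerSeries k) • g r := by
        rw [hf']; abel
      rw [this]
      exact Submodule.add_mem _ hf'span
        (Submodule.smul_mem _ _ (Submodule.subset_span ⟨r, rfl⟩))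
  apply le_antisymm hle
  intro f hfM
  by_cases hf0 : f = 0
  · rw [hf0]; exact Submodule.zero_mem _
  obtain ⟨m, hm⟩ := exists_order_eq (val_ne_zero hf0)
  apply key (p * N') f hfM
  right
  rw [hm]
  exact_mod_cast Nat.le_add_left _ _

end Groth.Agent.Lib.Helper2.RootDisk
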