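import Mathlib
import Groth.Agent.Lib.Helper2.AltTrace

/-! Linear algebra for endomorphisms of finite-dimensional spaces over an algebraically closed field:
eigenvalues of sub/quotients, trace bounds. -/

set_option autoImplicit false
universe v

open Module

namespace Groth.Agent.Lib.Helper2.SpTrace

section Eig

variable {K : Type*} [Field K] {U V : Type v} [AddCommGroup U] [Module K U] [AddCommGroup V]
  [Module K V]

lemma hasEigenvalue_iff_not_injective (φ : End K U) (μ : K) :
    φ.HasEigenvalue μ ↔ ¬ Function.Injective (φ - algebraMap K (End K U) μ) := by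
  rw [Module.End.hasEigenvalue_iff, Module.End.eigenspace_def, ← LinearMap.ker_eq_bot,
    Algebra.algebraMap_eq_smul_one]

lemma comm_sub {g : U →ₗ[K] V} {φU : End K U} {φV : End K V} (hc : g ∘ₗ φU = φV ∘ₗ g) (μ : K) :
    g ∘ₗ (φU - algebraMap K (End K U) μ) = (φV - algebraMap K (End K V) μ) ∘ₗ g := by
  ext x
  have := LinearMap.congr_fun hc x
  simp only [LinearMap.comp_apply] at this
  simp [this]

/-- eigenvalues of a sub-object are eigenvalues of the ambient object -/
theorem eig_of_injective (g : U →ₗ[K] V) (hg : Function.Injective g) (φU : End K U)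
    (φV : End K V) (hc : g ∘ₗ φU = φV ∘ₗ g) {μ : K} (h : φU.HasEigenvalue μ) :
    φV.HasEigenvalue μ := by
  obtain ⟨x, hx⟩ := h.exists_hasEigenvector
  refine Module.End.hasEigenvalue_of_hasEigenvector (x := g x) ⟨?_, ?_⟩
  · rw [Module.End.mem_eigenspace_iff]
    have := LinearMap.congr_fun hc x
    simp only [LinearMap.comp_apply] at this
    rw [← this, hx.apply_eq_smul, map_smul]
  · intro h0
    exact hx.2 (hg (by rw [h0, map_zero]))

/-- eigenvalues of a quotient are eigenvalues of the ambient object -/
theorem eig_of_surjective [Module.Finite K U] (g : U →ₗ[K] V) (hg : Function.Surjective g)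
    (φU : End K U) (φV : End K V) (hc : g ∘ₗ φU = φV ∘ₗ g) {μ : K} (h : φV.HasEigenvalue μ) :
    φU.HasEigenvalue μ := by
  have hV : Module.Finite K V := Module.Finite.of_surjective g hg
  rw [hasEigenvalue_iff_not_injective] at h ⊢
  intro hinj
  apply h
  have hsurj : Function.Surjective (φU - algebraMap K (End K U) μ) :=
    LinearMap.injective_iff_surjective.mp hinj
  have h2 : Function.Surjective ((φV - algebraMap K (End K V) μ) ∘ₗ g) := by
    rw [← comm_sub hc μ]
    exact hg.comp hsurj
  have h3 : Function.Surjective (φV - algebraMap K (End K V) μ) := by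
    intro y
    obtain ⟨x, hx⟩ := h2 y
    exact ⟨g x, hx⟩
  exact LinearMap.injective_iff_surjective.mpr h3

end Eig

section TraceBound

variable {U : Type v} [AddCommGroup U] [Module ℂ U] [Module.Finite ℂ U]

/-- the trace is bounded by dimension times a bound for the eigenvalues -/
theorem norm_trace_le (φ : End ℂ U) (C : ℝ) (hC : ∀ μ : ℂ, φ.HasEigenvalue μ → ‖μ‖ ≤ C) :
    ‖LinearMap.trace ℂ U φ‖ ≤ (Module.finrank ℂ U : ℝ) * C := by
  rw [Module.End.trace_eq_sum_roots_charpoly_of_splits (IsAlgClosed.splits φ.charpoly)]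
  have h1 : ‖φ.charpoly.roots.sum‖ ≤ (φ.charpoly.roots.map fun μ => ‖μ‖).sum :=
    norm_multiset_sum_le _
  have h2 : (φ.charpoly.roots.map fun μ => ‖μ‖).sum ≤ Multiset.card φ.charpoly.roots • C := by
    have := Multiset.sum_le_card_nsmul (φ.charpoly.roots.map fun μ => ‖μ‖) C (by
      intro x hx
      rw [Multiset.mem_map] at hx
      obtain ⟨μ, hμ, rfl⟩ := hx
      apply hC
      rw [Module.End.hasEigenvalue_iff_isRoot_charpoly]
      exact (Polynomial.mem_roots'.mp hμ).2)
    rwa [Multiset.card_map] at this
  have h3 : Multiset.card φ.charpoly.roots = Module.finrank ℂ U := by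
    rw [Polynomial.splits_iff_card_roots.mp (IsAlgClosed.splits φ.charpoly),
      LinearMap.charpoly_natDegree]
  rw [h3, nsmul_eq_mul] at h2
  exact h1.trans h2

end TraceBound

end Groth.Agent.Lib.Helper2.SpTrace
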