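import Mathlib
import Groth.Agent.Lib.Helper2.SpTrace1

/-! `ℂ[X]`-modules as vector spaces with an endomorphism: traces, ranks, eigenvalue bounds. -/

set_option autoImplicit false
universe u

open CategoryTheory CategoryTheory.Limits Module

namespace Groth.Agent.Lib.Helper2.SpTrace

/-- restriction of scalars `ℂ[X]`-modules → `ℂ`-vector spaces -/
noncomputable abbrev RS : ModuleCat.{u} (Polynomial ℂ) ⥤ ModuleCat.{u} ℂ :=
  ModuleCat.restrictScalars (algebraMap ℂ (Polynomial ℂ))

/-- multiplication by `X` -/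
noncomputable abbrev Phi (V : ModuleCat.{u} (Polynomial ℂ)) : Module.End ℂ (RS.obj V) :=
  (RS.map ((Polynomial.X : Polynomial ℂ) • 𝟙 V)).hom

/-- underlying `ℂ`-linear map -/
noncomputable abbrev rmap {V W : ModuleCat.{u} (Polynomial ℂ)} (f : V ⟶ W) :
    RS.obj V →ₗ[ℂ] RS.obj W := (RS.map f).hom

lemma rmap_apply {V W : ModuleCat.{u} (Polynomial ℂ)} (f : V ⟶ W) (v : RS.obj V) :
    rmap f v = f.hom v := rfl

lemma Phi_apply (V : ModuleCat.{u} (Polynomial ℂ)) (v : RS.obj V) :
    Phi V v = ((Polynomial.X : Polynomial ℂ) • (v : V) : V) := rfl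

lemma rmap_comm {V W : ModuleCat.{u} (Polynomial ℂ)} (f : V ⟶ W) :
    rmap f ∘ₗ Phi V = Phi W ∘ₗ rmap f := by
  ext v
  simp only [LinearMap.comp_apply]
  rw [Phi_apply, Phi_apply, rmap_apply, rmap_apply]
  exact map_smul f.hom _ _

lemma rmap_injective {V W : ModuleCat.{u} (Polynomial ℂ)} (f : V ⟶ W) [Mono f] :
    Function.Injective (rmap f) := (ModuleCat.mono_iff_injective f).mp inferInstance

lemma rmap_surjective {V W : ModuleCat.{u} (Polynomial ℂ)} (f : V ⟶ W) [Epi f] :
    Function.Surjective (rmap f) := (ModuleCat.epi_iff_surjective f).mp inferInstance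

/-- finite dimensionality -/
abbrev FD (V : ModuleCat.{u} (Polynomial ℂ)) : Prop := Module.Finite ℂ (RS.obj V)

/-- trace of `X` -/
noncomputable abbrev trc (V : ModuleCat.{u} (Polynomial ℂ)) : ℂ :=
  LinearMap.trace ℂ (RS.obj V) (Phi V)

/-- dimension -/
noncomputable abbrev rk (V : ModuleCat.{u} (Polynomial ℂ)) : ℕ := Module.finrank ℂ (RS.obj V)

/-- eigenvalue bound -/
def EigLe (V : ModuleCat.{u} (Polynomial ℂ)) (C : ℝ) : Prop :=
  ∀ μ : ℂ, (Phi V).HasEigenvalue μ → ‖μ‖ ≤ C

section Transfer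

variable {V W : ModuleCat.{u} (Polynomial ℂ)}

lemma FD.of_mono (f : V ⟶ W) [Mono f] (h : FD W) : FD V :=
  Module.Finite.of_injective (rmap f) (rmap_injective f)

lemma FD.of_epi (f : V ⟶ W) [Epi f] (h : FD V) : FD W :=
  Module.Finite.of_surjective (rmap f) (rmap_surjective f)

lemma rk_le_of_mono (f : V ⟶ W) [Mono f] (h : FD W) : rk V ≤ rk W :=
  LinearMap.finrank_le_finrank_of_injective (rmap_injective f)

lemma rk_le_of_epi (f : V ⟶ W) [Epi f] (h : FD V) : rk W ≤ rk V :=
  LinearMap.finrank_le_finrank_of_surjective (rmap_surjective f)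

lemma EigLe.of_mono (f : V ⟶ W) [Mono f] {C : ℝ} (h : EigLe W C) : EigLe V C := fun μ hμ =>
  h μ (eig_of_injective (rmap f) (rmap_injective f) (Phi V) (Phi W) (rmap_comm f) hμ)

lemma EigLe.of_epi (f : V ⟶ W) [Epi f] (hV : FD V) {C : ℝ} (h : EigLe V C) : EigLe W C :=
  fun μ hμ =>
    h μ (eig_of_surjective (rmap f) (rmap_surjective f) (Phi V) (Phi W) (rmap_comm f) hμ)

lemma FD.of_iso (e : V ≅ W) (h : FD V) : FD W := FD.of_epi e.hom h

lemma rk_eq_of_iso (e : V ≅ W) : rk V = rk W :=
  LinearEquiv.finrank_eq (RS.mapIso e).toLinearEquiv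

lemma EigLe.of_iso (e : V ≅ W) {C : ℝ} (h : EigLe V C) : EigLe W C := EigLe.of_mono e.inv h

lemma trc_eq_of_iso (e : V ≅ W) : trc V = trc W :=
  AltTrace.trace_eq_of_bijective (rmap e.hom)
    ⟨rmap_injective e.hom, rmap_surjective e.hom⟩ (Phi V) (Phi W) (rmap_comm e.hom)

lemma subsingleton_of_isZero (h : IsZero V) : Subsingleton (RS.obj V) :=
  (ModuleCat.subsingleton_of_isZero h : Subsingleton V)

lemma FD.of_isZero (h : IsZero V) : FD V := by
  have := subsingleton_of_isZero h
  infer_instance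

lemma trc_of_isZero (h : IsZero V) : trc V = 0 := by
  have := subsingleton_of_isZero h
  exact AltTrace.trace_eq_zero_of_subsingleton _

lemma rk_of_isZero (h : IsZero V) : rk V = 0 := by
  have := subsingleton_of_isZero h
  exact Module.finrank_zero_of_subsingleton

lemma norm_trc_le (hV : FD V) {C : ℝ} (h : EigLe V C) : ‖trc V‖ ≤ (rk V : ℝ) * C :=
  norm_trace_le (Phi V) C h

end Transfer

section FourTerm

variable {ι : Type*} {c : ComplexShape ι}
  (K : HomologicalComplex (ModuleCat.{u} (Polynomial ℂ)) c)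

lemma exact_iCycles_toCycles' {i j : ι} (hij : c.Rel i j) :
    Function.Exact (K.iCycles i).hom (K.toCycles i j).hom := by
  have hk : (ShortComplex.mk (K.iCycles i) (K.d i j) (K.iCycles_d i j)).Exact :=
    ShortComplex.exact_of_f_is_kernel _ (K.cyclesIsKernel i j (c.next_eq' hij))
  rw [ShortComplex.moduleCat_exact_iff] at hk
  intro x
  constructor
  · intro hx
    apply hk x
    have : K.d i j = K.toCycles i j ≫ K.iCycles j := (K.toCycles_i i j).symm
    change (K.d i j).hom x = 0
    rw [this, ModuleCat.hom_comp, LinearMap.comp_apply]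
    have hx' : (K.toCycles i j).hom x = 0 := hx
    rw [hx', map_zero]
  · rintro ⟨z, rfl⟩
    have hinj : Function.Injective (K.iCycles j).hom :=
      (ModuleCat.mono_iff_injective _).mp inferInstance
    apply hinj
    rw [map_zero]
    have : (K.iCycles i ≫ K.toCycles i j) ≫ K.iCycles j = 0 := by
      rw [Category.assoc, K.toCycles_i, K.iCycles_d]
    have h2 := congrArg (fun φ => φ.hom z) this
    simp only [ModuleCat.hom_comp, LinearMap.comp_apply] at h2
    exact h2

lemma exact_iCycles_toCycles {i j : ι} (hij : c.Rel i j) :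
    Function.Exact (rmap (K.iCycles i)) (rmap (K.toCycles i j)) :=
  exact_iCycles_toCycles' K hij

lemma exact_toCycles_homologyπ {i j : ι} (hij : c.Rel i j) :
    Function.Exact (rmap (K.toCycles i j)) (rmap (K.homologyπ j)) := by
  have hk : (ShortComplex.mk (K.toCycles i j) (K.homologyπ j)
      (K.toCycles_comp_homologyπ i j)).Exact :=
    ShortComplex.exact_of_g_is_cokernel _ (K.homologyIsCokernel i j (c.prev_eq' hij))
  exact (ShortComplex.ShortExact.moduleCat_exact_iff_function_exact _).mp hk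

/-- the four-term trace identity at `i → j` -/
theorem trc_four {i j : ι} (hij : c.Rel i j) (hi : FD (K.X i)) (hj : FD (K.X j)) :
    trc (K.X i) + trc (K.homology j) = trc (K.cycles i) + trc (K.cycles j) := by
  have h1 : FD (K.cycles i) := FD.of_mono (K.iCycles i) hi
  have h2 : FD (K.cycles j) := FD.of_mono (K.iCycles j) hj
  have h3 : FD (K.homology j) := FD.of_epi (K.homologyπ j) h2
  exact AltTrace.trace_four (rmap (K.iCycles i)) (rmap (K.toCycles i j)) (rmap (K.homologyπ j))
    (rmap_injective _) (rmap_surjective _) (exact_iCycles_toCycles K hij)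
    (exact_toCycles_homologyπ K hij) (Phi _) (Phi _) (Phi _) (Phi _)
    (rmap_comm _) (rmap_comm _) (rmap_comm _)

end FourTerm

end Groth.Agent.Lib.Helper2.SpTrace
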