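import Mathlib
import Groth.Agent.Lib.Helper2.SpTrace2

/-! Page bounds and alternating sums of traces on a first-quadrant page. -/

set_option autoImplicit false
universe u

open CategoryTheory CategoryTheory.Limits Module

namespace Groth.Agent.Lib.Helper2.SpTrace

/-- embedding of the first quadrant -/
def emb (x : ℕ × ℕ) : ℤ × ℤ := ((x.1 : ℤ), (x.2 : ℤ))

lemma emb_injective : Function.Injective emb := by
  rintro ⟨p, q⟩ ⟨p', q'⟩ h
  simp only [emb, Prod.mk.injEq, Nat.cast_inj] at h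
  exact Prod.ext h.1 h.2

lemma not_mem_range_emb {x : ℤ × ℤ} (h : x ∉ Set.range emb) : x.1 < 0 ∨ x.2 < 0 := by
  by_contra hcon
  push_neg at hcon
  apply h
  refine ⟨(x.1.toNat, x.2.toNat), ?_⟩
  simp only [emb]
  exact Prod.ext (Int.toNat_of_nonneg hcon.1) (Int.toNat_of_nonneg hcon.2)

/-- the sign `(-1)^(p+q)` -/
noncomputable def sg (x : ℤ × ℤ) : ℂ := (-1 : ℂ) ^ (x.1 + x.2)

lemma sg_emb (x : ℕ × ℕ) : sg (emb x) = (-1 : ℂ) ^ (x.1 + x.2) := by
  simp only [sg, emb]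
  rw [← Nat.cast_add, zpow_natCast]

lemma norm_sg (x : ℤ × ℤ) : ‖sg x‖ = 1 := by
  simp [sg, norm_zpow]

lemma sg_add (x : ℤ × ℤ) (r : ℤ) : sg (x + (r, 1 - r)) = - sg x := by
  simp only [sg, Prod.fst_add, Prod.snd_add]
  have : x.1 + r + (x.2 + (1 - r)) = x.1 + x.2 + 1 := by ring
  rw [this, zpow_add_one₀ (by norm_num : (-1 : ℂ) ≠ 0)]
  ring

section PB

variable (N : ℕ) (a c : ℕ → ℝ) (b d : ℕ → ℕ)

/-- the boundedness condition on a page -/
structure PageBound (X : ℤ × ℤ → ModuleCat.{u} (Polynomial ℂ)) : Prop where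
  quad : ∀ pq : ℤ × ℤ, pq.1 < 0 ∨ pq.2 < 0 → IsZero (X pq)
  fd : ∀ pq : ℤ × ℤ, FD (X pq)
  van : ∀ p q : ℕ, N < q → IsZero (X ((p : ℤ), (q : ℤ)))
  eig : ∀ p q : ℕ, EigLe (X ((p : ℤ), (q : ℤ))) (a q * c p)
  rank : ∀ p q : ℕ, rk (X ((p : ℤ), (q : ℤ))) ≤ b q * d p

variable {N a c b d}

lemma PageBound.of_mono {X Y : ℤ × ℤ → ModuleCat.{u} (Polynomial ℂ)} (f : ∀ x, Y x ⟶ X x)
    [∀ x, Mono (f x)] (h : PageBound N a c b d X) : PageBound N a c b d Y where
  quad pq hpq := IsZero.of_mono (f pq) (h.quad pq hpq)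
  fd pq := FD.of_mono (f pq) (h.fd pq)
  van p q hq := IsZero.of_mono (f _) (h.van p q hq)
  eig p q := EigLe.of_mono (f _) (h.eig p q)
  rank p q := (rk_le_of_mono (f _) (h.fd _)).trans (h.rank p q)

lemma PageBound.of_epi {X Y : ℤ × ℤ → ModuleCat.{u} (Polynomial ℂ)} (f : ∀ x, X x ⟶ Y x)
    [∀ x, Epi (f x)] (h : PageBound N a c b d X) : PageBound N a c b d Y where
  quad pq hpq := IsZero.of_epi (f pq) (h.quad pq hpq)
  fd pq := FD.of_epi (f pq) (h.fd pq)
  van p q hq := IsZero.of_epi (f _) (h.van p q hq)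
  eig p q := EigLe.of_epi (f _) (h.fd _) (h.eig p q)
  rank p q := (rk_le_of_epi (f _) (h.fd _)).trans (h.rank p q)

lemma PageBound.of_iso {X Y : ℤ × ℤ → ModuleCat.{u} (Polynomial ℂ)} (e : ∀ x, X x ≅ Y x)
    (h : PageBound N a c b d X) : PageBound N a c b d Y :=
  PageBound.of_epi (fun x => (e x).hom) h

variable (N a c b d) in
/-- the dominating function -/
noncomputable def G (x : ℕ × ℕ) : ℝ :=
  (if x.2 ≤ N then (b x.2 : ℝ) * a x.2 else 0) * (c x.1 * d x.1)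

lemma G_nonneg (ha : ∀ q, 0 ≤ a q) (hc : ∀ p, 0 ≤ c p) (x : ℕ × ℕ) : 0 ≤ G N a c b d x := by
  unfold G
  apply mul_nonneg
  · split_ifs
    · exact mul_nonneg (Nat.cast_nonneg _) (ha _)
    · exact le_rfl
  · exact mul_nonneg (hc _) (Nat.cast_nonneg _)

lemma summable_G (ha : ∀ q, 0 ≤ a q) (hc : ∀ p, 0 ≤ c p)
    (hsum : Summable fun p : ℕ => c p * (d p : ℝ)) : Summable (G N a c b d) := by
  have h1 : Summable fun q : ℕ => (if q ≤ N then (b q : ℝ) * a q else 0) := by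
    apply summable_of_ne_finset_zero (s := Finset.range (N + 1))
    intro q hq
    rw [Finset.mem_range] at hq
    rw [if_neg (by omega)]
  have h := Summable.mul_of_nonneg hsum h1 (fun p => mul_nonneg (hc p) (Nat.cast_nonneg _))
    (fun q => by
      dsimp only
      split_ifs
      · exact mul_nonneg (Nat.cast_nonneg _) (ha _)
      · exact le_rfl)
  refine h.congr ?_
  intro x
  unfold G
  ring

lemma PageBound.norm_trc_le {X : ℤ × ℤ → ModuleCat.{u} (Polynomial ℂ)}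
    (h : PageBound N a c b d X) (ha : ∀ q, 0 ≤ a q) (hc : ∀ p, 0 ≤ c p) (x : ℕ × ℕ) :
    ‖trc (X (emb x))‖ ≤ G N a c b d x := by
  obtain ⟨p, q⟩ := x
  by_cases hq : q ≤ N
  · have h1 := SpTrace.norm_trc_le (h.fd (emb (p, q))) (h.eig p q)
    have h2 : (rk (X (emb (p, q))) : ℝ) ≤ ((b q * d p : ℕ) : ℝ) := by
      exact_mod_cast h.rank p q
    have h3 : 0 ≤ a q * c p := mul_nonneg (ha q) (hc p)
    calc ‖trc (X (emb (p, q)))‖ ≤ (rk (X (emb (p, q))) : ℝ) * (a q * c p) := h1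
      _ ≤ ((b q * d p : ℕ) : ℝ) * (a q * c p) := mul_le_mul_of_nonneg_right h2 h3
      _ = G N a c b d (p, q) := by
        unfold G
        rw [if_pos hq]
        push_cast
        ring
  · have hz : IsZero (X (emb (p, q))) := h.van p q (by omega)
    rw [trc_of_isZero hz, norm_zero]
    exact G_nonneg ha hc _

/-- signed traces on `ℤ × ℤ` -/
noncomputable def T (X : ℤ × ℤ → ModuleCat.{u} (Polynomial ℂ)) (x : ℤ × ℤ) : ℂ :=
  sg x * trc (X x)

lemma PageBound.T_eq_zero {X : ℤ × ℤ → ModuleCat.{u} (Polynomial ℂ)}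
    (h : PageBound N a c b d X) {x : ℤ × ℤ} (hx : x ∉ Set.range emb) : T X x = 0 := by
  rw [T, trc_of_isZero (h.quad x (not_mem_range_emb hx)), mul_zero]

lemma PageBound.summable_T_emb {X : ℤ × ℤ → ModuleCat.{u} (Polynomial ℂ)}
    (h : PageBound N a c b d X) (ha : ∀ q, 0 ≤ a q) (hc : ∀ p, 0 ≤ c p)
    (hsum : Summable fun p : ℕ => c p * (d p : ℝ)) : Summable (T X ∘ emb) := by
  refine Summable.of_norm_bounded (g := G N a c b d) (summable_G ha hc hsum) ?_
  intro x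
  rw [Function.comp_apply, T, norm_mul, norm_sg, one_mul]
  exact h.norm_trc_le ha hc x

lemma PageBound.summable_T {X : ℤ × ℤ → ModuleCat.{u} (Polynomial ℂ)}
    (h : PageBound N a c b d X) (ha : ∀ q, 0 ≤ a q) (hc : ∀ p, 0 ≤ c p)
    (hsum : Summable fun p : ℕ => c p * (d p : ℝ)) : Summable (T X) :=
  (Function.Injective.summable_iff emb_injective (fun x hx => h.T_eq_zero hx)).mp
    (h.summable_T_emb ha hc hsum)

/-- the alternating sum of traces over the first quadrant -/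
noncomputable def altSum (X : ℤ × ℤ → ModuleCat.{u} (Polynomial ℂ)) : ℂ :=
  ∑' pq : ℕ × ℕ, (-1 : ℂ) ^ (pq.1 + pq.2) * trc (X ((pq.1 : ℤ), (pq.2 : ℤ)))

lemma PageBound.altSum_eq {X : ℤ × ℤ → ModuleCat.{u} (Polynomial ℂ)}
    (h : PageBound N a c b d X) : altSum X = ∑' x : ℤ × ℤ, T X x := by
  rw [← Function.Injective.tsum_eq emb_injective (f := T X)]
  · apply tsum_congr
    intro x
    rw [T, sg_emb]
    rfl
  · intro x hx
    by_contra hcon
    exact hx (h.T_eq_zero hcon)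

end PB

end Groth.Agent.Lib.Helper2.SpTrace
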