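import Mathlib
import Groth.Agent.Lib.Helper2.SpTrace3

/-! One step of a spectral sequence: bounds and the alternating sum of traces are preserved. -/

set_option autoImplicit false
universe u

open CategoryTheory CategoryTheory.Limits Module

namespace Groth.Agent.Lib.Helper2.SpTrace

variable {N : ℕ} {a c : ℕ → ℝ} {b d : ℕ → ℕ}

theorem page_step (r : ℤ)
    (K : HomologicalComplex (ModuleCat.{u} (Polynomial ℂ))
      (ComplexShape.up' ((r, 1 - r) : ℤ × ℤ)))
    (X' : ℤ × ℤ → ModuleCat.{u} (Polynomial ℂ)) (e : ∀ x, K.homology x ≅ X' x)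
    (ha : ∀ q, 0 ≤ a q) (hc : ∀ p, 0 ≤ c p) (hsum : Summable fun p : ℕ => c p * (d p : ℝ))
    (hK : PageBound N a c b d K.X) :
    PageBound N a c b d X' ∧ altSum X' = altSum K.X := by
  have hZ : PageBound N a c b d (fun x => K.cycles x) := PageBound.of_mono (fun x => K.iCycles x) hK
  have hH : PageBound N a c b d (fun x => K.homology x) :=
    PageBound.of_epi (fun x => K.homologyπ x) hZ
  have hX' : PageBound N a c b d X' := PageBound.of_iso e hH
  refine ⟨hX', ?_⟩
  have e1 : altSum X' = altSum (fun x => K.homology x) := by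
    unfold altSum
    apply tsum_congr
    intro x
    rw [trc_eq_of_iso (e _)]
  rw [e1, hH.altSum_eq, hK.altSum_eq]
  let σ : ℤ × ℤ ≃ ℤ × ℤ := Equiv.addRight ((r, 1 - r) : ℤ × ℤ)
  have hσ : ∀ x, σ x = x + (r, 1 - r) := fun x => rfl
  have key : ∀ x : ℤ × ℤ, T K.X x =
      T (fun x => K.homology x) (σ x) + (T (fun x => K.cycles x) x - T (fun x => K.cycles x) (σ x)) := by
    intro x
    have hrel : (ComplexShape.up' ((r, 1 - r) : ℤ × ℤ)).Rel x (σ x) := rfl
    have h4 := trc_four K hrel (hK.fd x) (hK.fd (σ x))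
    simp only [T]
    rw [hσ, sg_add]
    rw [← hσ]
    linear_combination (sg x) * h4
  have s1 := hK.summable_T ha hc hsum
  have s2 := hH.summable_T ha hc hsum
  have s3 := hZ.summable_T ha hc hsum
  have s2' : Summable (fun x => T (fun x => K.homology x) (σ x)) := (σ.summable_iff).mpr s2
  have s3' : Summable (fun x => T (fun x => K.cycles x) (σ x)) := (σ.summable_iff).mpr s3
  have t2 : ∑' x, T (fun x => K.homology x) (σ x) = ∑' x, T (fun x => K.homology x) x :=
    σ.tsum_eq _
  have t3 : ∑' x, T (fun x => K.cycles x) (σ x) = ∑' x, T (fun x => K.cycles x) x :=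
    σ.tsum_eq _
  rw [tsum_congr key, Summable.tsum_add s2' (s3.sub s3'), Summable.tsum_sub s3 s3', t2, t3,
    sub_self, add_zero]

end Groth.Agent.Lib.Helper2.SpTrace
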