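import Mathlib
import Groth.Prelude.Def_SpSeq
import Groth.Agent.Lib.Helper2.SpTrace4

/-! All pages of a bounded first-quadrant E₂ spectral sequence; degeneration; limit terms. -/

set_option autoImplicit false
universe u

open CategoryTheory CategoryTheory.Limits Module

namespace Groth.Agent.Lib.Helper2.SpTrace

variable {N : ℕ} {a c : ℕ → ℝ} {b d : ℕ → ℕ}

theorem pageBound_all (E : E₂CohomologicalSpectralSequence (ModuleCat.{u} (Polynomial ℂ)))
    (ha : ∀ q, 0 ≤ a q) (hc : ∀ p, 0 ≤ c p) (hsum : Summable fun p : ℕ => c p * (d p : ℝ))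
    (h2 : PageBound N a c b d (E.page 2 le_rfl).X) :
    ∀ (r : ℤ) (hr : 2 ≤ r), PageBound N a c b d (E.page r hr).X ∧
      altSum (E.page r hr).X = altSum (E.page 2 le_rfl).X := by
  intro r hr
  induction r, hr using Int.le_induction with
  | base => exact ⟨h2, rfl⟩
  | succ r hr ih =>
    obtain ⟨h1, h3⟩ := page_step (N := N) (a := a) (c := c) (b := b) (d := d) r (E.page r hr)
      (E.page (r + 1) (Int.le_add_one hr)).X (fun x => E.iso r (r + 1) x rfl hr) ha hc hsum ih.1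
    exact ⟨h1, h3.trans ih.2⟩

lemma PageBound.isZero_of {X : ℤ × ℤ → ModuleCat.{u} (Polynomial ℂ)}
    (h : PageBound N a c b d X) (x : ℤ × ℤ) (hx : x.1 < 0 ∨ x.2 < 0 ∨ (N : ℤ) < x.2) :
    IsZero (X x) := by
  rcases hx with hx | hx | hx
  · exact h.quad x (Or.inl hx)
  · exact h.quad x (Or.inr hx)
  · by_cases h1 : x.1 < 0
    · exact h.quad x (Or.inl h1)
    · push_neg at h1
      have h2 : 0 ≤ x.2 := le_trans (Int.natCast_nonneg N) hx.le
      have e : x = ((x.1.toNat : ℤ), (x.2.toNat : ℤ)) :=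
        Prod.ext (Int.toNat_of_nonneg h1).symm (Int.toNat_of_nonneg h2).symm
      rw [e]
      apply h.van
      have : (N : ℤ) < (x.2.toNat : ℤ) := by rw [Int.toNat_of_nonneg h2]; exact hx
      exact_mod_cast this

lemma d_eq_zero_of_large (r : ℤ)
    (K : HomologicalComplex (ModuleCat.{u} (Polynomial ℂ))
      (ComplexShape.up' ((r, 1 - r) : ℤ × ℤ)))
    (h : PageBound N a c b d K.X) (hrN : (N : ℤ) + 2 ≤ r) (x : ℤ × ℤ) :
    K.d (x - (r, 1 - r)) x = 0 ∧ K.d x (x + (r, 1 - r)) = 0 := by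
  by_cases hx : x.1 < 0 ∨ x.2 < 0 ∨ (N : ℤ) < x.2
  · have hz := h.isZero_of x hx
    exact ⟨hz.eq_of_tgt _ _, hz.eq_of_src _ _⟩
  · push_neg at hx
    constructor
    · have hz : IsZero (K.X (x - (r, 1 - r))) := by
        apply h.isZero_of
        right; right
        simp only [Prod.snd_sub]
        omega
      exact hz.eq_of_src _ _
    · have hz : IsZero (K.X (x + (r, 1 - r))) := by
        apply h.isZero_of
        right; left
        simp only [Prod.snd_add]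
        omega
      exact hz.eq_of_tgt _ _

lemma nonempty_homology_iso_X (r : ℤ)
    (K : HomologicalComplex (ModuleCat.{u} (Polynomial ℂ))
      (ComplexShape.up' ((r, 1 - r) : ℤ × ℤ))) (x : ℤ × ℤ)
    (h_in : K.d (x - (r, 1 - r)) x = 0) (h_out : K.d x (x + (r, 1 - r)) = 0) :
    Nonempty (K.homology x ≅ K.X x) := by
  have hrel1 : (ComplexShape.up' ((r, 1 - r) : ℤ × ℤ)).Rel (x - (r, 1 - r)) x :=
    sub_add_cancel x _
  have hrel2 : (ComplexShape.up' ((r, 1 - r) : ℤ × ℤ)).Rel x (x + (r, 1 - r)) := rfl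
  exact ⟨(K.isoHomologyπ _ x ((ComplexShape.up' _).prev_eq' hrel1) h_in).symm ≪≫
    K.iCyclesIso x _ ((ComplexShape.up' _).next_eq' hrel2) h_out⟩

/-- stationary positions: all later pages agree -/
lemma nonempty_iso_pages (E : E₂CohomologicalSpectralSequence (ModuleCat.{u} (Polynomial ℂ)))
    (x : ℤ × ℤ) (r₁ : ℤ) (hr₁ : 2 ≤ r₁)
    (hstat : ∀ (r' : ℤ) (h₀ : 2 ≤ r') (_ : r₁ ≤ r'),
      (E.page r' h₀).d (x - (r', 1 - r')) x = 0 ∧ (E.page r' h₀).d x (x + (r', 1 - r')) = 0) :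
    ∀ (r₂ : ℤ) (h12 : r₁ ≤ r₂),
      Nonempty ((E.page r₁ hr₁).X x ≅ (E.page r₂ (hr₁.trans h12)).X x) := by
  intro r₂ h12
  induction r₂, h12 using Int.le_induction with
  | base => exact ⟨Iso.refl _⟩
  | succ r h1r ih =>
    obtain ⟨e1⟩ := ih
    obtain ⟨hin, hout⟩ := hstat r (hr₁.trans h1r) h1r
    obtain ⟨e2⟩ := nonempty_homology_iso_X r (E.page r (hr₁.trans h1r)) x hin hout
    exact ⟨e1 ≪≫ e2.symm ≪≫ E.iso r (r + 1) x rfl (hr₁.trans h1r)⟩

/-- limit terms are the terms of the page `N + 2` -/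
theorem nonempty_gr_iso (E : E₂CohomologicalSpectralSequence (ModuleCat.{u} (Polynomial ℂ)))
    (H : ℤ → ModuleCat.{u} (Polynomial ℂ)) (abut : SpSeq.Abutment E H)
    (ha : ∀ q, 0 ≤ a q) (hc : ∀ p, 0 ≤ c p) (hsum : Summable fun p : ℕ => c p * (d p : ℝ))
    (h2 : PageBound N a c b d (E.page 2 le_rfl).X) (x : ℤ × ℤ) :
    Nonempty (SpSeq.grPiece (abut.fil (x.1 + x.2)) (abut.anti (x.1 + x.2)) x.1 ≅
      (E.page ((N : ℤ) + 2) (by omega)).X x) := by
  have hR : (2 : ℤ) ≤ (N : ℤ) + 2 := by omega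
  obtain ⟨hs1, hs2⟩ := abut.stat x
  set m := max (abut.rk x) ((N : ℤ) + 2) with hm
  obtain ⟨e1⟩ := nonempty_iso_pages E x (abut.rk x) hs1 hs2 m (le_max_left _ _)
  obtain ⟨e2⟩ := nonempty_iso_pages E x ((N : ℤ) + 2) hR
    (fun r' h₀ hr' => d_eq_zero_of_large r' (E.page r' h₀)
      (pageBound_all E ha hc hsum h2 r' h₀).1 hr' x) m (le_max_right _ _)
  exact ⟨(abut.β x).symm ≪≫ e1 ≪≫ e2.symm⟩

end Groth.Agent.Lib.Helper2.SpTrace
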