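import Mathlib
import Groth.Prelude.Def_SpSeq
import Groth.Agent.Lib.Helper2.SpTrace5

/-! Traces on a finitely filtered `ℂ[X]`-module. -/

set_option autoImplicit false
universe u

open CategoryTheory CategoryTheory.Limits Module

namespace Groth.Agent.Lib.Helper2.SpTrace

lemma trc_add_of_shortExact (S : ShortComplex (ModuleCat.{u} (Polynomial ℂ)))
    (hS : S.ShortExact) (h1 : FD S.X₁) (h3 : FD S.X₃) :
    FD S.X₂ ∧ trc S.X₂ = trc S.X₁ + trc S.X₃ := by
  have := hS.mono_f
  have := hS.epi_g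
  have hex : Function.Exact (rmap S.f) (rmap S.g) :=
    (ShortComplex.ShortExact.moduleCat_exact_iff_function_exact S).mp hS.exact
  have h2 : FD S.X₂ := Module.Finite.of_exact hex (rmap_surjective S.g)
  exact ⟨h2, AltTrace.trace_add_of_exact (rmap S.f) (rmap S.g) (rmap_injective S.f)
    (rmap_surjective S.g) hex (Phi _) (Phi _) (Phi _) (rmap_comm _) (rmap_comm _)⟩

section Fil

variable {X : ModuleCat.{u} (Polynomial ℂ)} (F : ℤ → Subobject X) (hF : Antitone F)

lemma step_shortExact (p : ℤ) :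
    (ShortComplex.mk ((F (p + 1)).ofLE (F p) (hF (Int.le_add_one le_rfl)))
      (cokernel.π ((F (p + 1)).ofLE (F p) (hF (Int.le_add_one le_rfl))))
      (cokernel.condition _)).ShortExact where
  exact := ShortComplex.exact_cokernel _
  mono_f := by dsimp; infer_instance
  epi_g := by dsimp; infer_instance

lemma step_trc (p : ℤ) (h1 : FD ((F (p + 1) : Subobject X) : ModuleCat.{u} (Polynomial ℂ)))
    (h3 : FD (SpSeq.grPiece F hF p)) :
    FD ((F p : Subobject X) : ModuleCat.{u} (Polynomial ℂ)) ∧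
      trc ((F p : Subobject X) : ModuleCat.{u} (Polynomial ℂ)) =
        trc ((F (p + 1) : Subobject X) : ModuleCat.{u} (Polynomial ℂ)) +
          trc (SpSeq.grPiece F hF p) :=
  trc_add_of_shortExact _ (step_shortExact F hF p) h1 h3

lemma isZero_grPiece_of_eq (p : ℤ) (h : F (p + 1) = F p) : IsZero (SpSeq.grPiece F hF p) := by
  have : IsIso ((F (p + 1)).ofLE (F p) (hF (Int.le_add_one le_rfl))) :=
    (Subobject.isoOfEq _ _ h).isIso_hom
  exact isZero_cokernel_of_epi _

lemma isZero_of_eq_bot (S : Subobject X) (h : S = ⊥) :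
    IsZero ((S : Subobject X) : ModuleCat.{u} (Polynomial ℂ)) := by
  subst h
  exact IsZero.of_iso (isZero_zero _) Subobject.botCoeIsoZero

lemma down_induction (b : ℤ) (hb : F b = ⊥) (hfd : ∀ p, FD (SpSeq.grPiece F hF p)) :
    ∀ n : ℤ, n ≤ b → FD ((F n : Subobject X) : ModuleCat.{u} (Polynomial ℂ)) ∧
      trc ((F n : Subobject X) : ModuleCat.{u} (Polynomial ℂ)) =
        ∑ p ∈ Finset.Ico n b, trc (SpSeq.grPiece F hF p) := by
  intro n hn
  induction n, hn using Int.le_induction_down with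
  | base =>
    have hz := isZero_of_eq_bot (F b) hb
    exact ⟨FD.of_isZero hz, by rw [trc_of_isZero hz, Finset.Ico_self, Finset.sum_empty]⟩
  | pred n hn ih =>
    have e : n - 1 + 1 = n := by omega
    have h1 : FD ((F (n - 1 + 1) : Subobject X) : ModuleCat.{u} (Polynomial ℂ)) := by
      rw [e]; exact ih.1
    obtain ⟨h2, h3⟩ := step_trc F hF (n - 1) h1 (hfd _)
    refine ⟨h2, ?_⟩
    rw [h3, ← Finset.insert_Ico_add_one_left_eq_Ico (show n - 1 < b by omega),
      Finset.sum_insert (by simp), add_comm]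
    congr 1
    rw [e]
    exact ih.2

theorem fil_trace (a b : ℤ) (ha : F a = ⊤) (hb : F b = ⊥)
    (hfd : ∀ p, FD (SpSeq.grPiece F hF p)) :
    FD X ∧ trc X = ∑ p ∈ Finset.Ico a b, trc (SpSeq.grPiece F hF p) := by
  by_cases hab : a ≤ b
  · obtain ⟨h1, h2⟩ := down_induction F hF b hb hfd a hab
    have e : ((F a : Subobject X) : ModuleCat.{u} (Polynomial ℂ)) ≅ X := by
      rw [ha]
      exact asIso (⊤ : Subobject X).arrow
    exact ⟨FD.of_iso e h1, by rw [← trc_eq_of_iso e, h2]⟩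
  · push_neg at hab
    have h1 : F a ≤ F b := hF hab.le
    rw [ha, hb] at h1
    have h2 : (⊤ : Subobject X) = ⊥ := le_antisymm h1 bot_le
    have hz : IsZero X :=
      IsZero.of_iso (isZero_of_eq_bot (⊤ : Subobject X) h2) (asIso (⊤ : Subobject X).arrow).symm
    exact ⟨FD.of_isZero hz, by
      rw [trc_of_isZero hz, Finset.Ico_eq_empty (by omega), Finset.sum_empty]⟩

lemma isZero_grPiece_of_le_top (a : ℤ) (ha : F a = ⊤) (p : ℤ) (hp : p + 1 ≤ a) :
    IsZero (SpSeq.grPiece F hF p) := by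
  apply isZero_grPiece_of_eq
  have h1 : F (p + 1) = ⊤ := top_le_iff.mp (ha ▸ hF hp)
  have h2 : F p = ⊤ := top_le_iff.mp (ha ▸ hF (by omega : p ≤ a))
  rw [h1, h2]

lemma isZero_grPiece_of_ge_bot (b : ℤ) (hb : F b = ⊥) (p : ℤ) (hp : b ≤ p) :
    IsZero (SpSeq.grPiece F hF p) := by
  apply isZero_grPiece_of_eq
  have h1 : F (p + 1) = ⊥ := le_bot_iff.mp (hb ▸ hF (by omega : b ≤ p + 1))
  have h2 : F p = ⊥ := le_bot_iff.mp (hb ▸ hF hp)
  rw [h1, h2]

end Fil

end Groth.Agent.Lib.Helper2.SpTrace
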