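import Mathlib
import Groth.Prelude.Def_SpSeq
import Groth.Agent.Lib.Helper2.SpTrace6

/-! Trace formula for the abutment of a bounded first-quadrant E₂ spectral sequence. -/

set_option autoImplicit false
universe u

open CategoryTheory CategoryTheory.Limits Module

namespace Groth.Agent.Lib.Helper2.SpTrace

section Antidiag

variable {α : Type*} [NormedAddCommGroup α] [CompleteSpace α] {f : ℕ × ℕ → α}

lemma summable_sum_antidiagonal (hf : Summable f) :
    Summable fun n => ∑ x ∈ Finset.HasAntidiagonal.antidiagonal n, f x := by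
  have h := (Finset.HasAntidiagonal.sigmaAntidiagonalEquivProd (A := ℕ)).summable_iff.mpr hf
  conv => congr; ext; rw [← Finset.sum_finset_coe, ← tsum_fintype (L := .unconditional _)]
  exact h.sigma' fun n => (hasSum_fintype _).summable

lemma tsum_sum_antidiagonal (hf : Summable f) :
    ∑' n, ∑ x ∈ Finset.HasAntidiagonal.antidiagonal n, f x = ∑' x, f x := by
  have h := (Finset.HasAntidiagonal.sigmaAntidiagonalEquivProd (A := ℕ)).summable_iff.mpr hf
  conv_lhs => congr; ext; rw [← Finset.sum_finset_coe, ← tsum_fintype (L := .unconditional _)]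
  rw [← (Finset.HasAntidiagonal.sigmaAntidiagonalEquivProd (A := ℕ)).tsum_eq f]
  exact (h.tsum_sigma' fun n => (hasSum_fintype _).summable).symm

end Antidiag

variable {N : ℕ} {a c : ℕ → ℝ} {b d : ℕ → ℕ}

lemma gr_transport {E : E₂CohomologicalSpectralSequence (ModuleCat.{u} (Polynomial ℂ))}
    {H : ℤ → ModuleCat.{u} (Polynomial ℂ)} (abut : SpSeq.Abutment E H) (m n p : ℤ) (h : m = n) :
    Nonempty (SpSeq.grPiece (abut.fil m) (abut.anti m) p ≅
      SpSeq.grPiece (abut.fil n) (abut.anti n) p) := by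
  subst h
  exact ⟨Iso.refl _⟩

section Main

variable (E : E₂CohomologicalSpectralSequence (ModuleCat.{u} (Polynomial ℂ)))
  (H : ℤ → ModuleCat.{u} (Polynomial ℂ)) (abut : SpSeq.Abutment E H)
  (hfin : ∀ n, abut.IsFinite n)
  (ha : ∀ q, 0 ≤ a q) (hc : ∀ p, 0 ≤ c p) (hsum : Summable fun p : ℕ => c p * (d p : ℝ))
  (h2 : PageBound N a c b d (E.page 2 le_rfl).X)

include ha hc hsum h2 in
lemma nonempty_gr_iso' (n p : ℤ) :
    Nonempty (SpSeq.grPiece (abut.fil n) (abut.anti n) p ≅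
      (E.page ((N : ℤ) + 2) (by omega)).X (p, n - p)) := by
  obtain ⟨e1⟩ := nonempty_gr_iso E H abut ha hc hsum h2 (p, n - p)
  obtain ⟨e2⟩ := gr_transport abut n (p + (n - p)) p (by ring)
  exact ⟨e2 ≪≫ e1⟩

include hfin ha hc hsum h2 in
/-- the trace on `H^k` as an antidiagonal sum of traces on the page `N + 2` -/
lemma trc_H (k : ℕ) :
    trc (H (k : ℤ)) =
      ∑ x ∈ Finset.HasAntidiagonal.antidiagonal k, trc ((E.page ((N : ℤ) + 2) (by omega)).X (emb x)) := by
  have hR := (pageBound_all E ha hc hsum h2 ((N : ℤ) + 2) (by omega)).1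
  set Xinf := (E.page ((N : ℤ) + 2) (by omega)).X with hXinf
  obtain ⟨⟨a₀, ha₀⟩, ⟨b₀, hb₀⟩⟩ := hfin (k : ℤ)
  have iso : ∀ p : ℤ, Nonempty (SpSeq.grPiece (abut.fil k) (abut.anti k) p ≅ Xinf (p, (k : ℤ) - p)) :=
    fun p => nonempty_gr_iso' E H abut ha hc hsum h2 (k : ℤ) p
  have hfd : ∀ p, FD (SpSeq.grPiece (abut.fil k) (abut.anti k) p) := fun p => by
    obtain ⟨e⟩ := iso p
    exact FD.of_iso e.symm (hR.fd _)
  have htr : ∀ p, trc (SpSeq.grPiece (abut.fil k) (abut.anti k) p) = trc (Xinf (p, (k : ℤ) - p)) :=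
    fun p => by
      obtain ⟨e⟩ := iso p
      exact trc_eq_of_iso e
  obtain ⟨-, h3⟩ := fil_trace (abut.fil k) (abut.anti k) a₀ b₀ ha₀ hb₀ hfd
  rw [h3]
  -- the summand
  set v : ℤ → ℂ := fun p => trc (Xinf (p, (k : ℤ) - p)) with hv
  have hv1 : ∀ p, p ∉ Finset.Ico a₀ b₀ → v p = 0 := by
    intro p hp
    rw [hv]
    dsimp only
    rw [← htr p]
    apply trc_of_isZero
    rw [Finset.mem_Ico] at hp
    by_cases h1 : a₀ ≤ p
    · exact isZero_grPiece_of_ge_bot _ _ b₀ hb₀ p (by omega)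
    · exact isZero_grPiece_of_le_top _ _ a₀ ha₀ p (by omega)
  have hv2 : ∀ p : ℤ, (p < 0 ∨ (k : ℤ) < p) → v p = 0 := by
    intro p hp
    rw [hv]
    dsimp only
    apply trc_of_isZero
    apply hR.quad
    rcases hp with hp | hp
    · exact Or.inl hp
    · right
      dsimp only
      omega
  let S' : Finset ℤ := (Finset.range (k + 1)).map ⟨Nat.cast, Nat.cast_injective⟩
  have hS' : ∀ p : ℤ, p ∉ S' → (p < 0 ∨ (k : ℤ) < p) := by
    intro p hp
    by_contra hcon
    push_neg at hcon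
    apply hp
    rw [Finset.mem_map]
    refine ⟨p.toNat, ?_, ?_⟩
    · rw [Finset.mem_range]
      omega
    · simp only [Function.Embedding.coeFn_mk]
      exact Int.toNat_of_nonneg hcon.1
  have e1 : ∑ p ∈ Finset.Ico a₀ b₀, trc (SpSeq.grPiece (abut.fil k) (abut.anti k) p) =
      ∑ p ∈ Finset.Ico a₀ b₀, v p := Finset.sum_congr rfl (fun p _ => htr p)
  have e2 : ∑ p ∈ Finset.Ico a₀ b₀, v p = ∑ p ∈ Finset.Ico a₀ b₀ ∪ S', v p :=
    Finset.sum_subset Finset.subset_union_left (fun p _ hp => hv1 p hp)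
  have e3 : ∑ p ∈ S', v p = ∑ p ∈ Finset.Ico a₀ b₀ ∪ S', v p :=
    Finset.sum_subset Finset.subset_union_right (fun p _ hp => hv2 p (hS' p hp))
  rw [e1, e2, ← e3, Finset.sum_map, Finset.Nat.sum_antidiagonal_eq_sum_range_succ_mk]
  apply Finset.sum_congr rfl
  intro i hi
  rw [Finset.mem_range] at hi
  simp only [Function.Embedding.coeFn_mk, hv, emb]
  rw [Nat.cast_sub (by omega)]

include hfin ha hc hsum h2 in
theorem abutment_trace :
    Summable (fun n : ℕ => ‖trc (H (n : ℤ))‖) ∧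
      ∑' n : ℕ, (-1 : ℂ) ^ n * trc (H (n : ℤ)) = altSum (E.page 2 le_rfl).X := by
  obtain ⟨hR, hS⟩ := pageBound_all E ha hc hsum h2 ((N : ℤ) + 2) (by omega)
  set Xinf := (E.page ((N : ℤ) + 2) (by omega)).X with hXinf
  have htr := trc_H E H abut hfin ha hc hsum h2
  have hG := summable_G (N := N) (b := b) ha hc hsum
  constructor
  · refine Summable.of_nonneg_of_le (fun n => norm_nonneg _) ?_ (summable_sum_antidiagonal hG)
    intro n
    rw [htr n]
    refine (norm_sum_le _ _).trans (Finset.sum_le_sum fun x _ => hR.norm_trc_le ha hc x)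
  · rw [← hS]
    have hf : Summable (fun x : ℕ × ℕ => (-1 : ℂ) ^ (x.1 + x.2) * trc (Xinf (emb x))) := by
      have := hR.summable_T_emb ha hc hsum
      refine this.congr ?_
      intro x
      rw [Function.comp_apply, T, sg_emb]
    have e : altSum Xinf = ∑' x : ℕ × ℕ, (-1 : ℂ) ^ (x.1 + x.2) * trc (Xinf (emb x)) := rfl
    rw [e, ← tsum_sum_antidiagonal hf]
    apply tsum_congr
    intro n
    rw [htr n, Finset.mul_sum]
    apply Finset.sum_congr rfl
    intro x hx
    rw [Finset.HasAntidiagonal.mem_antidiagonal] at hx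
    rw [hx]

end Main

end Groth.Agent.Lib.Helper2.SpTrace
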