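import Mathlib
import Groth.Agent.Lib.Helper2.TildeHom
import Groth.Prelude.Def_Coh
import Groth.Agent.Lib.Helper9.WeilVal3

/-! # Restricting morphisms `M~ ⟶ O` on `Spec R` to an open: injectivity and (Hartogs) bijectivity -/

set_option autoImplicit false
universe u
open CategoryTheory CategoryTheory.Limits AlgebraicGeometry TopologicalSpace Opposite

namespace Groth.Agent.Lib.Helper2.TildeHom


variable {R : CommRingCat.{u}}

theorem hom_ext_of_top (M G : (Spec (.of R)).Modules) [M.IsQuasicoherent] (u v : M ⟶ G)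
    (h : ∀ m : Γ(M, ⊤), u.app ⊤ m = v.app ⊤ m) : u = v := by
  let adj := tilde.adjunction (R := R)
  have : IsIso (adj.counit.app M) := Scheme.Modules.isIso_fromTildeΓ_of_isQuasicoherent M
  have hΓ : (moduleSpecΓFunctor (R := R)).map u = (moduleSpecΓFunctor (R := R)).map v := by
    ext m; exact h m
  have h1 := adj.counit.naturality u
  have h2 := adj.counit.naturality v
  simp only [Functor.comp_map, Functor.id_map] at h1 h2
  rw [hΓ] at h1
  have := h1.symm.trans h2
  exact (cancel_epi _).mp this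

theorem app_res {X : Scheme.{u}} {M N : X.Modules} (ψ : M ⟶ N) {V W : X.Opens} (hWV : W ≤ V)
    (t : Γ(M, V)) :
    ψ.app W (M.presheaf.map (homOfLE hWV).op t) = N.presheaf.map (homOfLE hWV).op (ψ.app V t) := by
  have := ψ.mapPresheaf.naturality (homOfLE hWV).op
  exact congrArg (fun k => k.hom t) this

variable (R' : Type u) [CommRing R']

theorem restrict_injective (M : ModuleCat.{u} (CommRingCat.of R'))
    (U : (Spec (CommRingCat.of R')).Opens)
    (hinj : Function.Injective ((Spec (CommRingCat.of R')).presheaf.map (homOfLE (le_top : U ≤ ⊤)).op)) :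
    Function.Injective (fun φ : tilde M ⟶ Coh.structureModule (Spec (CommRingCat.of R')) =>
        (Scheme.Modules.restrictFunctor U.ι).map φ) := by
  intro φ ψ h
  have h' : φ.app (U.ι ''ᵁ ⊤) = ψ.app (U.ι ''ᵁ ⊤) :=
    congrArg (fun k => Scheme.Modules.Hom.app k (⊤ : U.toScheme.Opens)) h
  have key : ∀ (W : (Spec (CommRingCat.of R')).Opens), W = U → φ.app W = ψ.app W → φ = ψ := by
    intro W hW hWeq
    subst hW
    apply hom_ext_of_top (R := CommRingCat.of R')
    intro m
    apply hinj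
    have e1 := app_res φ (le_top : W ≤ ⊤) m
    have e2 := app_res ψ (le_top : W ≤ ⊤) m
    rw [hWeq] at e1
    exact e1.symm.trans e2
  exact key _ (Scheme.Opens.ι_image_top U) h'

theorem app_smul_restrict {X Y : Scheme.{u}} (f : X ⟶ Y) [IsOpenImmersion f] {M N : Y.Modules}
    (ψ : M.restrict f ⟶ N.restrict f) (V : X.Opens) (c : Γ(Y, f ''ᵁ V)) (x : Γ(M, f ''ᵁ V)) :
    (ψ.app V) (c • x : Γ(M, f ''ᵁ V)) = (c • (show Γ(N, f ''ᵁ V) from (ψ.app V) x) : Γ(N, f ''ᵁ V)) := by
  have h := ψ.app_smul ((f.appIso V).hom c) x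
  have hr : (f.appIso V).inv ((f.appIso V).hom c) = c := by simp
  have e1 : ((f.appIso V).hom c • (show Γ(M.restrict f, V) from x)) =
      (show Γ(M, f ''ᵁ V) from ((f.appIso V).inv ((f.appIso V).hom c)) • x) := rfl
  have e2 : ((f.appIso V).hom c • (ψ.app V x)) =
      (show Γ(N, f ''ᵁ V) from ((f.appIso V).inv ((f.appIso V).hom c)) •
        (show Γ(N, f ''ᵁ V) from ψ.app V x)) := rfl
  rw [e1, e2, hr] at h
  exact h

theorem isNormalScheme_spec [IsDomain R'] [IsIntegrallyClosed R'] :
    Pi1.IsNormalScheme (Spec (CommRingCat.of R')) := by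
  intro x
  let k : Algebra R' ((Spec (CommRingCat.of R')).presheaf.stalk x) :=
    StructureSheaf.stalkAlgebra R' x
  have hloc : IsLocalization.AtPrime ((Spec (CommRingCat.of R')).presheaf.stalk x) x.asIdeal :=
    StructureSheaf.IsLocalization.to_stalk R' x
  have hle : x.asIdeal.primeCompl ≤ nonZeroDivisors R' :=
    x.asIdeal.primeCompl_le_nonZeroDivisors
  have hd : IsDomain ((Spec (CommRingCat.of R')).presheaf.stalk x) :=
    IsLocalization.isDomain_of_le_nonZeroDivisors (M := x.asIdeal.primeCompl) _ hle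
  exact ⟨hd, isIntegrallyClosed_of_isLocalization _ x.asIdeal.primeCompl hle⟩

theorem two_le_dim_stalk (x : PrimeSpectrum R') (h : (2 : ℕ∞) ≤ x.asIdeal.height) :
    (2 : WithBot ℕ∞) ≤ ringKrullDim ((Spec (CommRingCat.of R')).presheaf.stalk x) := by
  let k : Algebra R' ((Spec (CommRingCat.of R')).presheaf.stalk x) :=
    StructureSheaf.stalkAlgebra R' x
  have hloc : IsLocalization.AtPrime ((Spec (CommRingCat.of R')).presheaf.stalk x) x.asIdeal :=
    StructureSheaf.IsLocalization.to_stalk R' x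
  rw [IsLocalization.AtPrime.ringKrullDim_eq_height x.asIdeal
    ((Spec (CommRingCat.of R')).presheaf.stalk x)]
  exact WithBot.coe_le_coe.mpr h

theorem restrict_surjective [IsNoetherianRing R'] [IsDomain R'] [IsIntegrallyClosed R']
    (M : ModuleCat.{u} (CommRingCat.of R')) (U : (Spec (CommRingCat.of R')).Opens)
    (hU : ∀ p : PrimeSpectrum R', p ∉ U → (2 : ℕ∞) ≤ p.asIdeal.height) :
    Function.Surjective (fun φ : tilde M ⟶ Coh.structureModule (Spec (CommRingCat.of R')) =>
        (Scheme.Modules.restrictFunctor U.ι).map φ) := by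
  intro ψ
  have hX : Pi1.IsNormalScheme (Spec (CommRingCat.of R')) := isNormalScheme_spec R'
  let V₀ : U.toScheme.Opens := U.ι ⁻¹ᵁ ⊤
  let W₂ : (Spec (CommRingCat.of R')).Opens := U.ι ''ᵁ V₀
  have hW₂U : W₂ = U := by
    simp [W₂, V₀]
  have hH : Function.Bijective ((Coh.structureModule (Spec (CommRingCat.of R'))).presheaf.map (homOfLE (le_top : W₂ ≤ ⊤)).op) := by
    apply Groth.Agent.Lib.Helper9.WeilVal.hartogs_unit hX (le_top : W₂ ≤ ⊤)
    intro x _ hx
    apply two_le_dim_stalk R' x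
    apply hU
    rwa [hW₂U] at hx
  let e := Equiv.ofBijective _ hH
  have he : ∀ r : Γ((Coh.structureModule (Spec (CommRingCat.of R'))), ⊤), (Coh.structureModule (Spec (CommRingCat.of R'))).presheaf.map (homOfLE (le_top : W₂ ≤ ⊤)).op r = e r := fun r => rfl
  let ψ0 : Γ(tilde M, W₂) →+ Γ((Coh.structureModule (Spec (CommRingCat.of R'))), W₂) := (ψ.app V₀).hom
  let rM : Γ(tilde M, ⊤) →+ Γ(tilde M, W₂) :=
    ((tilde M).presheaf.map (homOfLE (le_top : W₂ ≤ ⊤)).op).hom
  let rO : Γ((Coh.structureModule (Spec (CommRingCat.of R'))), ⊤) →+ Γ((Coh.structureModule (Spec (CommRingCat.of R'))), W₂) :=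
    ((Coh.structureModule (Spec (CommRingCat.of R'))).presheaf.map (homOfLE (le_top : W₂ ≤ ⊤)).op).hom
  have hrO : Function.Injective rO := hH.1
  let l0 : Γ(tilde M, ⊤) → Γ((Coh.structureModule (Spec (CommRingCat.of R'))), ⊤) := fun m => e.symm (ψ0 (rM m))
  have hl0 : ∀ m, rO (l0 m) = ψ0 (rM m) := by
    intro m
    exact e.apply_symm_apply _
  let l : Γ(tilde M, ⊤) →+ Γ((Coh.structureModule (Spec (CommRingCat.of R'))), ⊤) :=
    { toFun := l0
      map_zero' := by
        apply hrO
        rw [hl0, map_zero, map_zero, map_zero]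
      map_add' := fun a b => by
        apply hrO
        rw [map_add, hl0, hl0, hl0, map_add, map_add] }
  have hl : ∀ (c : Γ((Spec (CommRingCat.of R')), ⊤)) (m : Γ(tilde M, ⊤)), l (c • m) = c • l m := by
    intro c m
    apply hrO
    change rO (l0 (c • m)) = rO (c • l0 m)
    rw [hl0]
    have h1 : rM (c • m) = ((Spec (CommRingCat.of R')).presheaf.map (homOfLE (le_top : W₂ ≤ ⊤)).op c) • rM m :=
      Scheme.Modules.map_smul _ _ _ _
    have h2 : rO (c • l0 m) = ((Spec (CommRingCat.of R')).presheaf.map (homOfLE (le_top : W₂ ≤ ⊤)).op c) • rO (l0 m) :=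
      Scheme.Modules.map_smul _ _ _ _
    rw [h1, h2, hl0]
    exact app_smul_restrict U.ι ψ V₀ _ _
  obtain ⟨φ, hφ⟩ := exists_hom_of_top (R := CommRingCat.of R') (tilde M) (Coh.structureModule (Spec (CommRingCat.of R'))) l hl
  refine ⟨φ, ?_⟩
  change (Scheme.Modules.restrictFunctor U.ι).map φ = ψ
  let adj := Scheme.Modules.restrictAdjunction U.ι
  apply (adj.homEquiv _ _).injective
  rw [Adjunction.homEquiv_unit, Adjunction.homEquiv_unit]
  apply hom_ext_of_top (R := CommRingCat.of R')
  intro m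
  change ((Scheme.Modules.restrictFunctor U.ι).map φ).app V₀ (rM m) = ψ0 (rM m)
  rw [← hl0]
  change φ.app W₂ ((tilde M).presheaf.map (homOfLE (le_top : W₂ ≤ ⊤)).op m) = _
  rw [app_res, hφ]
  rfl

end Groth.Agent.Lib.Helper2.TildeHom
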