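import Mathlib

/-! Todd series coefficient identities (helper2). -/

namespace Groth.Agent.Lib.Helper2.Todd

open PowerSeries

/-- derivative of `e^{at}`. -/
lemma derivative_rescale_exp (a : ℚ) :
    d⁄dX ℚ (rescale a (exp ℚ)) = C a * rescale a (exp ℚ) := by
  ext n
  rw [coeff_derivative, coeff_C_mul, coeff_rescale, coeff_rescale, coeff_exp, coeff_exp]
  simp only [Algebra.algebraMap_self, RingHom.id_apply, Nat.factorial_succ, Nat.cast_mul,
    Nat.cast_succ]
  have h1 : (n.factorial : ℚ) ≠ 0 := by positivity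
  have h2 : ((n : ℚ) + 1) ≠ 0 := by positivity
  field_simp
  ring

/-- the ODE satisfied by the Todd series. -/
lemma ode (f : ℚ⟦X⟧) (hf : f * (exp ℚ - 1) = X * exp ℚ) :
    X * d⁄dX ℚ f = f - f ^ 2 + X * f := by
  have hE : d⁄dX ℚ (exp ℚ) = exp ℚ := derivative_exp ℚ
  have h' := congrArg (d⁄dX ℚ) hf
  rw [Derivation.leibniz, Derivation.leibniz, map_sub, hE, derivative_X, derivative_one] at h'
  simp only [smul_eq_mul, sub_zero, mul_one] at h'
  have hne : (exp ℚ - 1 : ℚ⟦X⟧) ≠ 0 := by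
    intro h
    have := congrArg (coeff 1) h
    rw [map_sub, coeff_exp] at this
    simp at this
  have hne2 : (exp ℚ - 1 : ℚ⟦X⟧) ^ 2 ≠ 0 := pow_ne_zero 2 hne
  apply mul_right_cancel₀ hne2
  linear_combination (-(exp ℚ - 1 - X - (f * (exp ℚ - 1) - X * exp ℚ))) * hf + (X * (exp ℚ - 1)) * h'

lemma constantCoeff_eq_one (f : ℚ⟦X⟧) (hf : f * (exp ℚ - 1) = X * exp ℚ) :
    constantCoeff f = 1 := by
  have := congrArg (coeff 1) hf
  rw [show (1 : ℕ) = 0 + 1 from rfl, coeff_succ_X_mul, coeff_mul,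
    show Finset.HasAntidiagonal.antidiagonal (0 + 1) = ({((0 : ℕ), (1 : ℕ)), (1, 0)} : Finset (ℕ × ℕ)) from by decide,
    Finset.sum_pair (by decide)] at this
  simpa [coeff_exp] using this

/-- recurrence. -/
lemma rec_step (f : ℚ⟦X⟧) (hf : f * (exp ℚ - 1) = X * exp ℚ) (a : ℚ) (n : ℕ) :
    ((n : ℚ) + 1) * coeff (n + 1) (rescale a (exp ℚ) * f ^ (n + 2)) =
      (a + n + 1) * coeff n (rescale a (exp ℚ) * f ^ (n + 1)) := by
  set Em := rescale a (exp ℚ) with hEm
  have hode := ode f hf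
  have key : X * (Em * f ^ n * d⁄dX ℚ f) =
      Em * f ^ (n + 1) - Em * f ^ (n + 2) + X * (Em * f ^ (n + 1)) := by
    linear_combination (Em * f ^ n) * hode
  have hD : d⁄dX ℚ (Em * f ^ (n + 1)) =
      C a * (Em * f ^ (n + 1)) + C ((n : ℚ) + 1) * (Em * f ^ n * d⁄dX ℚ f) := by
    rw [Derivation.leibniz, derivative_pow, derivative_rescale_exp]
    simp only [smul_eq_mul, Nat.add_sub_cancel, Nat.cast_add, Nat.cast_one, map_add, map_one,
      map_natCast]
    ring
  have k1 := congrArg (coeff (n + 1)) key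
  rw [coeff_succ_X_mul, map_add, map_sub, coeff_succ_X_mul] at k1
  have k2 := congrArg (coeff n) hD
  rw [coeff_derivative, map_add, coeff_C_mul, coeff_C_mul, k1] at k2
  linear_combination k2

theorem todd_coeff (f : ℚ⟦X⟧) (hf : f * (exp ℚ - 1) = X * exp ℚ) (a : ℚ) (n : ℕ) :
    (n.factorial : ℚ) * coeff n (rescale a (exp ℚ) * f ^ (n + 1)) =
      (ascPochhammer ℚ n).eval (a + 1) := by
  induction n with
  | zero =>
    have h1 : constantCoeff (rescale a (exp ℚ)) = 1 := by
      rw [← coeff_zero_eq_constantCoeff_apply, coeff_rescale, coeff_exp]; simp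
    simp [constantCoeff_eq_one f hf, h1]
  | succ n ih =>
    have h := rec_step f hf a n
    rw [ascPochhammer_succ_right, Polynomial.eval_mul, ← ih, Nat.factorial_succ]
    simp only [Polynomial.eval_add, Polynomial.eval_X, Polynomial.eval_natCast, Nat.cast_mul,
      Nat.cast_succ]
    linear_combination (n.factorial : ℚ) * h

end Groth.Agent.Lib.Helper2.Todd
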