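import Mathlib

/-!
# Artin–Rees for `Tor₁(M, R/Iⁿ)` : linear algebra part
-/

set_option autoImplicit false
universe u
open TensorProduct

namespace Groth.Agent.Lib.Helper2.TorArtinRees

variable {R : Type u} [CommRing R]

section AR

variable (I : Ideal R) (M : Type u) [AddCommGroup M] [Module R M]

/-- the multiplication map `F ⊗ J → F` -/
noncomputable def mulMap (F : Type u) [AddCommGroup F] [Module R F] (J : Ideal R) :
    F ⊗[R] J →ₗ[R] F :=
  (TensorProduct.rid R F).toLinearMap ∘ₗ LinearMap.lTensor F J.subtype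

lemma mulMap_tmul (F : Type u) [AddCommGroup F] [Module R F] (J : Ideal R) (f : F) (a : J) :
    mulMap F J (f ⊗ₜ a) = (a : R) • f := by
  simp [mulMap]

lemma mulMap_eq_zero_iff (F : Type u) [AddCommGroup F] [Module R F] (J : Ideal R)
    (u : F ⊗[R] J) : mulMap F J u = 0 ↔ LinearMap.lTensor F J.subtype u = 0 := by
  unfold mulMap
  rw [LinearMap.comp_apply]
  exact (TensorProduct.rid R F).map_eq_zero_iff

lemma mulMap_mem (F : Type u) [AddCommGroup F] [Module R F] (J : Ideal R) (u : F ⊗[R] J) :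
    mulMap F J u ∈ J • (⊤ : Submodule R F) := by
  induction u using TensorProduct.induction_on with
  | zero => simp
  | tmul f a =>
    rw [mulMap_tmul]
    exact Submodule.smul_mem_smul a.2 Submodule.mem_top
  | add x y hx hy =>
    rw [map_add]
    exact Submodule.add_mem _ hx hy

lemma mulMap_naturality {F F' : Type u} [AddCommGroup F] [Module R F] [AddCommGroup F']
    [Module R F'] (p : F →ₗ[R] F') (J : Ideal R) (u : F ⊗[R] J) :
    mulMap F' J (LinearMap.rTensor J p u) = p (mulMap F J u) := by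
  induction u using TensorProduct.induction_on with
  | zero => simp
  | tmul f a => simp [mulMap_tmul]
  | add x y hx hy => simp only [map_add, hx, hy]

lemma mulMap_inclusion (F : Type u) [AddCommGroup F] [Module R F] {J J' : Ideal R} (h : J ≤ J')
    (u : F ⊗[R] J) :
    mulMap F J' (LinearMap.lTensor F (Submodule.inclusion h) u) = mulMap F J u := by
  induction u using TensorProduct.induction_on with
  | zero => simp
  | tmul f a => simp [mulMap_tmul]
  | add x y hx hy => simp only [map_add, hx, hy]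

/-- elements of `J • K` lift to `F ⊗ J` killed by `p ⊗ J` -/
lemma exists_lift_of_mem_smul {F F' : Type u} [AddCommGroup F] [Module R F] [AddCommGroup F']
    [Module R F'] (p : F →ₗ[R] F') (J : Ideal R) (y : F)
    (hy : y ∈ J • LinearMap.ker p) :
    ∃ v : F ⊗[R] J, LinearMap.rTensor J p v = 0 ∧ mulMap F J v = y := by
  refine Submodule.smul_induction_on hy ?_ ?_
  · intro a ha k hk
    refine ⟨k ⊗ₜ ⟨a, ha⟩, ?_, ?_⟩
    · rw [LinearMap.rTensor_tmul, LinearMap.mem_ker.mp hk, TensorProduct.zero_tmul]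
    · rw [mulMap_tmul]
  · rintro x y ⟨v, hv1, hv2⟩ ⟨w, hw1, hw2⟩
    exact ⟨v + w, by rw [map_add, hv1, hw1, add_zero], by rw [map_add, hv2, hw2]⟩

variable [IsNoetherianRing R] [Module.Finite R M]

/-- Artin–Rees: for `m ≫ n` the map `M ⊗ I^m → M ⊗ I^n` kills the kernel of `M ⊗ I^m → M`. -/
theorem exists_kills_ker (n : ℕ) :
    ∃ m : ℕ, n ≤ m ∧ ∀ (h : I ^ m ≤ I ^ n) (u : M ⊗[R] ↥(I ^ m)),
      LinearMap.lTensor M (I ^ m).subtype u = 0 →
        LinearMap.lTensor M (Submodule.inclusion h) u = 0 := by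
  obtain ⟨k, p, hp⟩ := Module.Finite.exists_fin' R M
  let F := Fin k → R
  obtain ⟨c, hc⟩ := Ideal.exists_pow_inf_eq_pow_smul I (LinearMap.ker p)
  refine ⟨n + c, Nat.le_add_right n c, ?_⟩
  intro h u hu
  obtain ⟨ũ, rfl⟩ := LinearMap.rTensor_surjective (↥(I ^ (n + c))) hp u
  set y := mulMap F (I ^ (n + c)) ũ with hy
  have hy1 : y ∈ I ^ (n + c) • (⊤ : Submodule R F) := mulMap_mem F _ ũ
  have hy2 : y ∈ LinearMap.ker p := by
    rw [LinearMap.mem_ker, hy, ← mulMap_naturality, mulMap_eq_zero_iff]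
    exact hu
  have hy3 : y ∈ I ^ n • LinearMap.ker p := by
    have h1 : y ∈ I ^ (n + c) • (⊤ : Submodule R F) ⊓ LinearMap.ker p := ⟨hy1, hy2⟩
    rw [hc (n + c) (Nat.le_add_left c n), Nat.add_sub_cancel] at h1
    exact Submodule.smul_mono le_rfl inf_le_right h1
  obtain ⟨v, hv1, hv2⟩ := exists_lift_of_mem_smul p (I ^ n) y hy3
  have hinj : Function.Injective (mulMap F (I ^ n)) := by
    unfold mulMap
    rw [LinearMap.coe_comp]
    exact (TensorProduct.rid R F).injective.comp
      (Module.Flat.lTensor_preserves_injective_linearMap _ Subtype.val_injective)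
  have hv3 : LinearMap.lTensor F (Submodule.inclusion h) ũ = v := by
    apply hinj
    rw [mulMap_inclusion, hv2]
  have hcomm : LinearMap.lTensor M (Submodule.inclusion h)
      (LinearMap.rTensor (↥(I ^ (n + c))) p ũ) =
      LinearMap.rTensor (↥(I ^ n)) p (LinearMap.lTensor F (Submodule.inclusion h) ũ) := by
    rw [← LinearMap.comp_apply, ← LinearMap.comp_apply, LinearMap.lTensor_comp_rTensor,
      LinearMap.rTensor_comp_lTensor]
  rw [hcomm, hv3, hv1]

end AR

section Chase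

variable {P11 P10 B P22 P21 P20 B' : Type u}
  [AddCommGroup P11] [Module R P11] [AddCommGroup P10] [Module R P10] [AddCommGroup B] [Module R B]
  [AddCommGroup P22] [Module R P22] [AddCommGroup P21] [Module R P21] [AddCommGroup P20]
  [Module R P20] [AddCommGroup B'] [Module R B']
  (M : Type u) [AddCommGroup M] [Module R M]

/-- the comparison of lifts: a cycle of `M ⊗ P1` in degree one is sent to a boundary of `M ⊗ P2`
as soon as `M ⊗ J → M ⊗ J'` kills the kernel of `M ⊗ J → M ⊗ R`. -/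
theorem lTensor_mem_range_of_kills
    (d1 : P11 →ₗ[R] P10) (ε1 : P10 →ₗ[R] B) (hex1 : Function.Exact d1 ε1)
    (d2' : P22 →ₗ[R] P21) (d2 : P21 →ₗ[R] P20) (ε2 : P20 →ₗ[R] B')
    (hε2 : Function.Surjective ε2) (hex2' : Function.Exact d2' d2) (hex2 : Function.Exact d2 ε2)
    (φ1 : P11 →ₗ[R] P21) (φ0 : P10 →ₗ[R] P20) (π : B →ₗ[R] B')
    (hφ1 : d2 ∘ₗ φ1 = φ0 ∘ₗ d1) (hφ0 : ε2 ∘ₗ φ0 = π ∘ₗ ε1)
    [Module.Projective R P10]
    (J J' : Ideal R) (hJ : J ≤ J') (qB : R →ₗ[R] B) (hqB : Function.Surjective qB)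
    (hkerB : LinearMap.ker qB = J) (qB' : R →ₗ[R] B') (hkerB' : LinearMap.ker qB' = J')
    (hπ : π ∘ₗ qB = qB')
    (hAR : ∀ u : M ⊗[R] J, LinearMap.lTensor M J.subtype u = 0 →
      LinearMap.lTensor M (Submodule.inclusion hJ) u = 0)
    (z : M ⊗[R] P11) (hz : LinearMap.lTensor M d1 z = 0) :
    LinearMap.lTensor M φ1 z ∈ LinearMap.range (LinearMap.lTensor M d2') := by
  -- the syzygies
  let Z1 : Submodule R P10 := LinearMap.ker ε1
  let Z2 : Submodule R P20 := LinearMap.ker ε2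
  have hd1 : ∀ x, d1 x ∈ Z1 := fun x => hex1.apply_apply_eq_zero x
  have hd2 : ∀ x, d2 x ∈ Z2 := fun x => hex2.apply_apply_eq_zero x
  let d1r : P11 →ₗ[R] Z1 := d1.codRestrict Z1 hd1
  let d2r : P21 →ₗ[R] Z2 := d2.codRestrict Z2 hd2
  have hd2r_surj : Function.Surjective d2r := by
    rintro ⟨x, hx⟩
    obtain ⟨y, hy⟩ := (hex2 x).mp hx
    exact ⟨y, Subtype.ext hy⟩
  have hex2r : Function.Exact d2' d2r := by
    intro x
    rw [← hex2' x]
    constructor
    · intro h
      exact congrArg Subtype.val h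
    · intro h
      exact Subtype.ext h
  have hrange : LinearMap.range (LinearMap.lTensor M d2') = LinearMap.ker (LinearMap.lTensor M d2r) :=
    ((lTensor_exact M hex2r hd2r_surj).linearMap_ker_eq).symm
  rw [hrange, LinearMap.mem_ker]
  -- restriction of φ0 to the syzygies
  have hφZ : ∀ x : Z1, φ0 x ∈ Z2 := by
    intro x
    change ε2 (φ0 x) = 0
    have := LinearMap.congr_fun hφ0 x
    simp only [LinearMap.comp_apply] at this
    rw [this, LinearMap.mem_ker.mp x.2, map_zero]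
  let φZ : Z1 →ₗ[R] Z2 := (φ0 ∘ₗ Z1.subtype).codRestrict Z2 hφZ
  have hsq : d2r ∘ₗ φ1 = φZ ∘ₗ d1r := by
    ext x
    exact LinearMap.congr_fun hφ1 x
  rw [← LinearMap.comp_apply, ← LinearMap.lTensor_comp, hsq, LinearMap.lTensor_comp,
    LinearMap.comp_apply]
  set w := LinearMap.lTensor M d1r z with hw
  have hw0 : LinearMap.lTensor M Z1.subtype w = 0 := by
    rw [hw, ← LinearMap.comp_apply, ← LinearMap.lTensor_comp]
    exact hz
  -- lifts
  obtain ⟨a, ha⟩ := Module.projective_lifting_property qB ε1 hqB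
  obtain ⟨p0, hp0⟩ := hε2 (qB' 1)
  let b : R →ₗ[R] P20 := LinearMap.toSpanSingleton R P20 p0
  have hb : ε2 ∘ₗ b = qB' := by
    ext
    simp [b, hp0]
  have haZ : ∀ x : Z1, a x ∈ J := by
    intro x
    rw [← hkerB, LinearMap.mem_ker, ← LinearMap.comp_apply, ha]
    exact x.2
  let α : Z1 →ₗ[R] J := (a ∘ₗ Z1.subtype).codRestrict J haZ
  have hbZ : ∀ r : J', b r ∈ Z2 := by
    intro r
    change ε2 (b r) = 0
    rw [← LinearMap.comp_apply, hb]
    have : (r : R) ∈ LinearMap.ker qB' := by rw [hkerB']; exact r.2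
    exact this
  let β : J' →ₗ[R] Z2 := (b ∘ₗ J'.subtype).codRestrict Z2 hbZ
  have hh : ∀ x : P10, φ0 x - b (a x) ∈ Z2 := by
    intro x
    change ε2 (φ0 x - b (a x)) = 0
    rw [map_sub, ← LinearMap.comp_apply, ← LinearMap.comp_apply ε2 b, hφ0, hb, ← hπ,
      LinearMap.comp_apply, LinearMap.comp_apply, ← LinearMap.comp_apply qB a, ha, sub_self]
  let h' : P10 →ₗ[R] Z2 := (φ0 - b ∘ₗ a).codRestrict Z2 hh
  have hdecomp : φZ = β ∘ₗ Submodule.inclusion hJ ∘ₗ α + h' ∘ₗ Z1.subtype := by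
    ext x
    simp [φZ, β, α, h']
  rw [hdecomp, LinearMap.lTensor_add, LinearMap.add_apply, LinearMap.lTensor_comp,
    LinearMap.lTensor_comp, LinearMap.lTensor_comp, LinearMap.comp_apply, LinearMap.comp_apply,
    LinearMap.comp_apply, hw0, map_zero, add_zero]
  have hu : LinearMap.lTensor M J.subtype (LinearMap.lTensor M α w) = 0 := by
    rw [← LinearMap.comp_apply, ← LinearMap.lTensor_comp]
    have : J.subtype ∘ₗ α = a ∘ₗ Z1.subtype := by
      ext x
      rfl
    rw [this, LinearMap.lTensor_comp, LinearMap.comp_apply, hw0, map_zero]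
  rw [hAR _ hu, map_zero]

end Chase

end Groth.Agent.Lib.Helper2.TorArtinRees
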