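import Groth.Agent.Lib.Helper13.TorBridge1
import Groth.Agent.Lib.Helper12.WEtAscent

set_option autoImplicit false
universe u
open CategoryTheory CategoryTheory.Limits MonoidalCategory

namespace Groth.Agent.Lib.Helper2.WEtTorDim

open Groth.Agent.Lib.Helper13.DR Groth.Agent.Lib.Helper13.PC Groth.Agent.Lib.Helper13.TB DerivedCategory
attribute [local instance] HasDerivedCategory.standard

section
variable {A B : Type u} [CommRing A] [CommRing B] [Algebra A B]

variable (A B) in
noncomputable abbrev res : ModuleCat.{u} B ⥤ ModuleCat.{u} A :=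
  ModuleCat.restrictScalars (algebraMap A B)

lemma flat_res [Module.Flat A B] (M : ModuleCat.{u} B) (h : Module.Flat B M) :
    Module.Flat A ((res A B).obj M) := by
  let _ : Module A M := Module.compHom M (algebraMap A B)
  have : IsScalarTower A B M := IsScalarTower.of_algebraMap_smul (fun r m => rfl)
  exact (Module.Flat.trans A B M : Module.Flat A M)

lemma flat_of_flat_res [Algebra.WeaklyEtale A B] (M : ModuleCat.{u} B)
    (h : Module.Flat A ((res A B).obj M)) : Module.Flat B M := by
  let _ : Module A M := Module.compHom M (algebraMap A B)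
  have : IsScalarTower A B M := IsScalarTower.of_algebraMap_smul (fun r m => rfl)
  have : Module.Flat A M := h
  exact Groth.Agent.Lib.Helper12.WEtAscent.flat_of_flat_of_weaklyEtale (V := A) (C := B) (N := M)

variable (A B) in
noncomputable abbrev resCx : DRing.Cx B ⥤ DRing.Cx A :=
  (res A B).mapHomologicalComplex (ComplexShape.up ℤ)

/-- The restriction of a projective resolution still represents the module in degree 0. -/
noncomputable def resIso {M : ModuleCat.{u} B} (P : ProjectiveResolution M) :
    Q.obj ((resCx A B).obj P.cochainComplex) ≅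
      (DerivedCategory.singleFunctor (ModuleCat.{u} A) 0).obj ((res A B).obj M) :=
  have : IsIso (Q.map ((resCx A B).map P.π')) := by
    rw [isIso_Q_map_iff_quasiIso]; infer_instance
  asIso (Q.map ((resCx A B).map P.π')) ≪≫
    Q.mapIso ((HomologicalComplex.singleMapHomologicalComplex (res A B) (ComplexShape.up ℤ) 0).app M) ≪≫
    ((DerivedCategory.singleFunctorIsoCompQ (ModuleCat.{u} A) 0).app ((res A B).obj M)).symm

theorem main [Algebra.WeaklyEtale A B] (d : ℕ)
    (hA : ∀ (M : Type u) [AddCommGroup M] [Module A M], DRing.HasTorDimLE A d M)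
    (N : Type u) [AddCommGroup N] [Module B N] : DRing.HasTorDimLE B d N := by
  rw [hasTorDimLE_iff_hasTorAmplitudeIn]
  let M : ModuleCat.{u} B := ModuleCat.of B N
  let P := projectiveResolution M
  let PB : DRing.Cx B := P.cochainComplex
  let PA : DRing.Cx A := (resCx A B).obj PB
  have hflB : ∀ i, Module.Flat B (PB.X i) := flat_cochainComplex_X P
  have hzB : ∀ i, 0 < i → IsZero (PB.X i) := isZero_cochainComplex_X P
  have hflA : ∀ i, Module.Flat A (PA.X i) := fun i => flat_res (PB.X i) (hflB i)
  have hzA : ∀ i, 0 < i → IsZero (PA.X i) := fun i hi => (res A B).map_isZero (hzB i hi)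
  have hK : DRing.HasTorAmplitudeIn A (-(d:ℤ)) 0 (Dual.inD A ((res A B).obj M)) :=
    (hasTorDimLE_iff_hasTorAmplitudeIn A _ d).1 (hA _)
  have hv : ∀ (N' : ModuleCat.{u} A) (i : ℤ), i < -(d:ℤ) →
      IsZero (((tensorCx N').obj PA).homology i) :=
    fun N' i hi => tensor_vanishing_of_hasTorAmplitudeIn hK PA 0 hzA hflA (resIso P) N' i (Or.inl hi)
  have hHA : ∀ i : ℤ, i < -(d:ℤ) → IsZero (PA.homology i) := fun i hi =>
    (hv (𝟙_ _) i hi).of_iso
      ((HomologicalComplex.homologyFunctor _ _ i).mapIso (tensorCxUnitIso PA).symm)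
  have hopA : Pfl A (PA.opcycles (-(d:ℤ))) :=
    flat_opcycles_of_tensor_exact PA (-(d:ℤ)) (hflA _)
      (by rw [HomologicalComplex.exactAt_iff_isZero_homology]; exact hHA _ (by lia))
      (fun N' => by rw [HomologicalComplex.exactAt_iff_isZero_homology]; exact hv N' _ (by lia))
  have hopB : Pfl B (PB.opcycles (-(d:ℤ))) := by
    apply flat_of_flat_res (A := A)
    have e : PA.opcycles (-(d:ℤ)) ≅ (res A B).obj (PB.opcycles (-(d:ℤ))) :=
      (PB.sc _).mapOpcyclesIso (res A B)
    exact (Pfl A).prop_of_iso e hopA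
  have hHB : ∀ i : ℤ, i < -(d:ℤ) → IsZero (PB.homology i) := fun i hi => by
    rw [isZero_homology_of_quasiIso P.π' i]
    exact HomologicalComplex.isZero_single_obj_homology (ComplexShape.up ℤ) 0 M i (by have := Int.natCast_nonneg d; omega)
  obtain ⟨E, g, hqg, hzE, hflE⟩ :=
    exists_truncGE_of_prop (Pfl B) PB (-(d:ℤ)) 0 hzB hflB hHB hopB
  have : IsIso (Q.map g) := by rw [isIso_Q_map_iff_quasiIso]; exact hqg
  exact ⟨E, hzE, hflE, ⟨(asIso (Q.map g)).symm ≪≫ cochainComplexIso P⟩⟩

end
end Groth.Agent.Lib.Helper2.WEtTorDim
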