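import Mathlib

/-! Alternating edge-labellings along walks in simple graphs. -/

set_option autoImplicit false

namespace Groth.Agent.Lib.Helper2.WalkLab

open SimpleGraph

universe u v

variable {V : Type u} [DecidableEq V] {G : SimpleGraph V}

/-- alternating edge labelling of a walk -/
def lab : ∀ {v w : V}, G.Walk v w → Sym2 V → ℤ
  | _, _, Walk.nil => fun _ => 0
  | u, _, @Walk.cons _ _ _ v _ _ p => fun e => (if e = s(u, v) then 1 else 0) - lab p e

@[simp] lemma lab_nil (v : V) (e : Sym2 V) : lab (Walk.nil : G.Walk v v) e = 0 := rfl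

lemma lab_cons {u v w : V} (h : G.Adj u v) (p : G.Walk v w) (e : Sym2 V) :
    lab (Walk.cons h p) e = (if e = s(u, v) then 1 else 0) - lab p e := rfl

lemma lab_eq_zero_of_not_mem_edges {v w : V} (p : G.Walk v w) (e : Sym2 V) (he : e ∉ p.edges) :
    lab p e = 0 := by
  induction p with
  | nil => rfl
  | @cons u v w h p ih =>
    rw [Walk.edges_cons, List.mem_cons, not_or] at he
    rw [lab_cons, if_neg he.1, ih he.2, sub_zero]

lemma lab_eq_zero_of_not_mem_edgeSet {v w : V} (p : G.Walk v w) (e : Sym2 V) (he : e ∉ G.edgeSet) :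
    lab p e = 0 :=
  lab_eq_zero_of_not_mem_edges p e (fun h => he (Walk.edges_subset_edgeSet p h))

variable [Fintype V] [DecidableRel G.Adj]

lemma sum_incidence_single {a b : V} (h : G.Adj a b) (u : V) :
    ∑ e ∈ G.incidenceFinset u, (if e = s(a, b) then (1 : ℤ) else 0)
      = (if u = a then 1 else 0) + (if u = b then 1 else 0) := by
  rw [Finset.sum_ite_eq']
  have hab : a ≠ b := h.ne
  by_cases h1 : u = a
  · subst h1
    rw [if_pos (by rw [mem_incidenceFinset, mk'_mem_incidenceSet_iff]; exact ⟨h, Or.inl rfl⟩),
      if_pos rfl, if_neg hab, add_zero]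
  · by_cases h2 : u = b
    · subst h2
      rw [if_pos (by rw [mem_incidenceFinset, mk'_mem_incidenceSet_iff]; exact ⟨h, Or.inr rfl⟩),
        if_neg h1, if_pos rfl, zero_add]
    · rw [if_neg, if_neg h1, if_neg h2, add_zero]
      rw [mem_incidenceFinset, mk'_mem_incidenceSet_iff]
      rintro ⟨_, h3 | h3⟩
      · exact h1 h3
      · exact h2 h3

lemma sum_incidence_lab {v w : V} (p : G.Walk v w) (u : V) :
    ∑ e ∈ G.incidenceFinset u, lab p e
      = (if u = v then 1 else 0) - (-1) ^ p.length * (if u = w then 1 else 0) := by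
  induction p with
  | nil => simp
  | @cons a b c h p ih =>
    simp only [lab_cons, Finset.sum_sub_distrib, sum_incidence_single h, ih, Walk.length_cons,
      pow_succ]
    ring

/-- In a bipartite graph, the sign of the length of a walk. -/
lemma neg_one_pow_length (c : V → Bool) (hbip : ∀ v w : V, G.Adj v w → c v ≠ c w) {v w : V}
    (p : G.Walk v w) : (-1 : ℤ) ^ p.length = if c v = c w then 1 else -1 := by
  induction p with
  | nil => simp
  | @cons a b d h p ih =>
    rw [Walk.length_cons, pow_succ, ih]
    have hab := hbip a b h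
    by_cases h1 : c b = c d
    · rw [if_pos h1, if_neg (by rw [← h1]; exact hab)]; ring
    · rw [if_neg h1, if_pos]
      · ring
      · -- Bool: c a ≠ c b, c b ≠ c d → c a = c d
        cases hca : c a <;> cases hcb : c b <;> cases hcd : c d <;> simp_all

end Groth.Agent.Lib.Helper2.WalkLab
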